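import Cfsg.Agent.OddLocal44.PF11.Main
import Cfsg.Agent.PF10.NoV
import Cfsg.Agent.PF12.Rows

/-!
# Unconditional forms of the §10-§12 inputs
-/

set_option autoImplicit false

namespace Cfsg.Agent.PF14

open Cfsg

universe u

variable {G : Type u} [Group G]

/-- Peterfalvi (11.3)-(11.8). -/
theorem shape34_uncond [Finite G] (hG : IsMinSimpleOddOrder G) : PF13.Shape34 G := by
  haveI : Fintype G := Fintype.ofFinite G
  exact OddLocal44.PF11.shape34 hG

/-- Peterfalvi (12.7). -/
theorem frobOne_uncond [Finite G] (hG : IsMinSimpleOddOrder G) : BGSummary.FrobeniusOne G := by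
  haveI : Fintype G := Fintype.ofFinite G
  exact PF12.frobenius_of hG (shape34_uncond hG) (PF10.noV hG)

end Cfsg.Agent.PF14
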