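import Cfsg.Agent.PF14.Main
import Cfsg.Agent.PF13.Reg.Uncond
import Cfsg.Agent.PF.FinalConfig
import Cfsg.Agent.PF12.SomeKappa
import Cfsg.Agent.FTDown.FeitThompsonInputs

/-!
# The composition of Peterfalvi (14) with the rest of the odd order theorem
-/

set_option autoImplicit false

namespace Cfsg.Agent.PF14

open Cfsg Subgroup

universe u

variable {G : Type u} [Group G] [Fintype G] (hG : IsMinSimpleOddOrder G) (h : Earlier G)
include hG h

/-- `S1547`. -/
theorem Earlier.faith {S T W₁ W₂ U V : Subgroup G} (d : FT.Pair S T W₁ W₂ U V) :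
    U ⊓ centralizer (fittingHallOf S : Set G) = ⊥ :=
  (h.member hG d).faith

/-- The conclusion of `S1544`. -/
theorem Earlier.final {S T W₁ W₂ U V : Subgroup G}
    (d : FT.Pair S T W₁ W₂ U V) (hqp : Nat.card W₁ < Nat.card W₂) :
    (Nat.card W₁).Prime ∧ (Nat.card W₂).Prime ∧
      IsElementaryAbelian (Nat.card W₂) (fittingHallOf S) ∧
      Nat.card (fittingHallOf S) = Nat.card W₂ ^ Nat.card W₁ ∧ IsCyclic U ∧
      Nat.card U * (Nat.card W₂ - 1) = Nat.card W₂ ^ Nat.card W₁ - 1 ∧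
      (∀ u ∈ U, u ≠ 1 → ∀ x ∈ fittingHallOf S, u * x = x * u → x = 1) ∧
      Nat.Coprime ((Nat.card W₂ ^ Nat.card W₁ - 1) / (Nat.card W₂ - 1)) (Nat.card W₂ - 1) ∧
      U ≤ Subgroup.normalizer (fittingHallOf S : Set G) ∧
      (Nat.card (fittingHallOf T)).Coprime (Nat.card W₂) ∧
      IsElementaryAbelian (Nat.card W₁) (fittingHallOf T) ∧
      W₂ ≤ Subgroup.normalizer (fittingHallOf T : Set G) ∧
      ∃ y ∈ fittingHallOf T, W₂.map (MulAut.conj y).toMonoidHom ≤ Subgroup.normalizer (U : Set G) ∧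
        ∃ (F : Type) (_ : Field F) (_ : Fintype F) (f : G → F) (ψ : G → F),
          Fintype.card F = Nat.card W₂ ^ Nat.card W₁ ∧
          Set.BijOn f (fittingHallOf S : Set G) Set.univ ∧
          (∀ x ∈ fittingHallOf S, ∀ x' ∈ fittingHallOf S, f (x * x') = f x + f x') ∧
          (∀ u ∈ U, ψ u ≠ 0 ∧ ∀ x ∈ fittingHallOf S, f (u * x * u⁻¹) = ψ u * f x) ∧
          (∀ u ∈ U, ∀ u' ∈ U, ψ (u * u') = ψ u * ψ u') ∧ Set.InjOn ψ (U : Set G) ∧
          (∀ x ∈ fittingHallOf S, x ∈ W₂ ↔ f x ^ Nat.card W₂ = f x) := by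
  have mS := h.member hG d
  have mT := h.member hG d.symm
  obtain ⟨L, hL, hLI, hUL, y, hy, hyL, hy1, hLN⟩ := h.exists_normalizing hG d hqp
  have hyU := hyL.trans hLN
  exact final_config hG.1 d.typeS d.typeT mS.prime mT.prime hqp.ne mS.elementary mS.card_core
    mT.elementary mT.card_core mS.U_comm
    (full_order_of_normalizes hG h d hqp hL hLI hUL hyL hy1 hyU) mS.faith ⟨y, hy, hyU⟩

omit hG h G in
/-- The odd order theorem. -/
theorem feitThompson : OddOrderGlue.FeitThompson.{u} := by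
  refine FTDown.feitThompson_of_finalConfiguration (fun _ _ _ hG => PF12.someKappa hG) ?_
  intro G _ _ hG S T W₁ W₂ U V hS hT hSP hTP hST hII hS25 hT25 hqp
  haveI : Fintype G := Fintype.ofFinite G
  exact (earlier_uncond hG).final hG ⟨hS, hT, hSP, hTP, hST, hII, hS25, hT25⟩ hqp

end Cfsg.Agent.PF14
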