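import Cfsg.Agent.Lib.CharCore.Complete
import Cfsg.Agent.Lib.CharCore.Linear
import Cfsg.Agent.Lib.CharCore.Virtual

/-!
Fourier coefficients of a virtual character of an abelian group and the variance bound for a
character that is invariant under a group acting without fixed points.
-/

set_option autoImplicit false
set_option linter.unusedVariables false
set_option linter.unusedSectionVars false

namespace Cfsg.Agent.PF14

open Cfsg
open scoped ComplexConjugate

universe uu

variable {P : Type uu} [Group P] [Fintype P]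

/-- The coefficient of a linear character in a function. -/
noncomputable def coeff (f : P → ℂ) (l : P →* ℂˣ) : ℂ := classInner f (fun x => (l x : ℂ))

theorem coeff_int {f : P → ℂ} (hf : IsGeneralizedCharacter P f) (l : P →* ℂˣ) :
    ∃ z : ℤ, coeff f l = z :=
  CharCore.IsGeneralizedCharacter.exists_classInner_eq_intCast hf
    (CharCore.irr_isGeneralized ⟨_, CharCore.isIrrCharacter_hom l⟩)

theorem irr_apply_one_of_comm (hcomm : ∀ x y : P, x * y = y * x) (χ : IrrCharacter P) :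
    (χ : P → ℂ) 1 = 1 := by
  have hcard : Nat.card {χ : IrrCharacter P // (χ : P → ℂ) 1 = 1} = Nat.card P := by
    rw [CharCore.card_linearCharacters]
    have : commutator P = ⊥ := by
      rw [commutator_eq_bot_iff_center_eq_top, eq_top_iff]
      exact fun x _ => Subgroup.mem_center_iff.2 fun y => hcomm y x
    rw [this, Subgroup.index_bot]
  have hirr : Nat.card (IrrCharacter P) = Nat.card P := by
    rw [CharCore.card_irr]
    refine (Nat.card_congr (Equiv.ofBijective ConjClasses.mk ⟨fun a b h => ?_,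
      Quotient.mk_surjective⟩)).symm
    obtain ⟨c, hc⟩ := isConj_iff.1 (ConjClasses.mk_eq_mk_iff_isConj.1 h)
    rwa [hcomm c a, mul_inv_cancel_right] at hc
  have hfin : Finite (IrrCharacter P) := Nat.finite_of_card_ne_zero (hirr ▸ Nat.card_pos.ne')
  by_contra hne
  have := Finite.card_subtype_lt (p := fun χ : IrrCharacter P => (χ : P → ℂ) 1 = 1) (x := χ) hne
  omega

theorem exists_hom_eq (hcomm : ∀ x y : P, x * y = y * x) (χ : IrrCharacter P) :
    ∃ l : P →* ℂˣ, (χ : P → ℂ) = fun x => (l x : ℂ) :=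
  CharCore.IsCharacter.exists_hom_of_degree_one (CharCore.irr_isCharacter χ)
    (irr_apply_one_of_comm hcomm χ)

theorem hom_finite (hcomm : ∀ x y : P, x * y = y * x) : Finite (P →* ℂˣ) :=
  Finite.of_injective (fun l => (⟨_, CharCore.isIrrCharacter_hom l⟩ : IrrCharacter P))
    fun a b h => MonoidHom.ext fun x =>
      Units.ext (congrFun (congrArg (fun χ : IrrCharacter P => (χ : P → ℂ)) h) x)

section Sums

variable [Fintype (P →* ℂˣ)]

/-- The linear characters as irreducible characters. -/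
noncomputable def homEquivIrr (hcomm : ∀ x y : P, x * y = y * x) :
    (P →* ℂˣ) ≃ IrrCharacter P :=
  Equiv.ofBijective (fun l => ⟨_, CharCore.isIrrCharacter_hom l⟩)
    ⟨fun a b h => MonoidHom.ext fun x =>
      Units.ext (congrFun (congrArg (fun χ : IrrCharacter P => (χ : P → ℂ)) h) x),
     fun χ => by
      obtain ⟨l, hl⟩ := exists_hom_eq hcomm χ
      exact ⟨l, Subtype.ext hl.symm⟩⟩

theorem card_hom (hcomm : ∀ x y : P, x * y = y * x) :
    Fintype.card (P →* ℂˣ) = Fintype.card P := by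
  rw [← Nat.card_eq_fintype_card, ← Nat.card_eq_fintype_card, Nat.card_congr (homEquivIrr hcomm),
    CharCore.card_irr]
  refine (Nat.card_congr (Equiv.ofBijective ConjClasses.mk ⟨fun a b h => ?_,
    Quotient.mk_surjective⟩)).symm
  obtain ⟨c, hc⟩ := isConj_iff.1 (ConjClasses.mk_eq_mk_iff_isConj.1 h)
  rwa [hcomm c a, mul_inv_cancel_right] at hc

theorem isClassFunction_of_comm (hcomm : ∀ x y : P, x * y = y * x) (f : P → ℂ) :
    IsClassFunction P f := fun g x => by rw [hcomm x g, mul_inv_cancel_right]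

theorem eq_sum_coeff (hcomm : ∀ x y : P, x * y = y * x) (f : P → ℂ) (x : P) :
    f x = ∑ l : P →* ℂˣ, coeff f l * (l x : ℂ) := by
  conv_lhs => rw [CharCore.eq_sum_classInner (isClassFunction_of_comm hcomm f)]
  simp only [Finset.sum_apply, Pi.smul_apply, smul_eq_mul]
  exact (Fintype.sum_equiv (homEquivIrr hcomm) _ _ fun l => rfl).symm

theorem sum_coeff (hcomm : ∀ x y : P, x * y = y * x) (f : P → ℂ) :
    f 1 = ∑ l : P →* ℂˣ, coeff f l := by
  rw [eq_sum_coeff hcomm f 1]; simp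

theorem parseval (hcomm : ∀ x y : P, x * y = y * x) (f : P → ℂ) :
    ∑ x : P, ‖f x‖ ^ 2 = (Nat.card P : ℝ) * ∑ l : P →* ℂˣ, ‖coeff f l‖ ^ 2 := by
  have h := CharCore.classInner_eq_sum (isClassFunction_of_comm hcomm f)
    (isClassFunction_of_comm hcomm f)
  rw [← Fintype.sum_equiv (homEquivIrr hcomm) (fun l => coeff f l * conj (coeff f l)) _
    fun l => rfl, CharCore.classInner_def] at h
  simp only [Complex.mul_conj, ← Complex.ofReal_sum] at h
  have hP : (Nat.card P : ℂ) ≠ 0 := Nat.cast_ne_zero.2 Nat.card_pos.ne'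
  have := congrArg (fun z : ℂ => (Nat.card P : ℂ) * z) h
  simp only [mul_inv_cancel_left₀ hP] at this
  rw [← Complex.ofReal_natCast, ← Complex.ofReal_mul, Complex.ofReal_inj] at this
  simpa [Complex.normSq_eq_norm_sq] using this

open Classical in
/-- The sum of squares away from the identity, in terms of the coefficients. -/
theorem sum_ne_one_eq (hcomm : ∀ x y : P, x * y = y * x) (f : P → ℂ) (d : (P →* ℂˣ) → ℤ)
    (hd : ∀ l, coeff f l = d l) :
    ∑ x ∈ Finset.univ.erase (1 : P), ‖f x‖ ^ 2 =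
      (Nat.card P : ℝ) * ∑ l, (d l : ℝ) ^ 2 - (∑ l, (d l : ℝ)) ^ 2 := by
  have h1 : ‖f 1‖ ^ 2 = (∑ l, (d l : ℝ)) ^ 2 := by
    rw [sum_coeff hcomm f]
    simp only [hd]
    rw [show (∑ l, (d l : ℂ)) = ((∑ l, (d l : ℝ) : ℝ) : ℂ) by push_cast; rfl,
      Complex.norm_real, Real.norm_eq_abs, sq_abs]
  rw [Finset.sum_erase_eq_sub (Finset.mem_univ _), parseval hcomm, h1]
  congr 2
  refine Finset.sum_congr rfl fun l _ => ?_
  rw [hd, show (d l : ℂ) = (((d l : ℝ)) : ℂ) by push_cast; rfl, Complex.norm_real,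
    Real.norm_eq_abs, sq_abs]

end Sums

/-- A finite family with two parts separated by at least `c`. -/
theorem var_split {ι : Type*} [DecidableEq ι] (t s : Finset ι) (hs : s ⊆ t) (d : ι → ℝ) (c : ℝ)
    (hgap : ∀ i ∈ s, ∀ j ∈ t, j ∉ s → c ≤ (d i - d j) ^ 2) :
    c * (s.card * ((t.card : ℝ) - s.card)) ≤
      (t.card : ℝ) * ∑ i ∈ t, d i ^ 2 - (∑ i ∈ t, d i) ^ 2 := by
  have hid : ∑ i ∈ t, ∑ j ∈ t, (d i - d j) ^ 2 =
      2 * ((t.card : ℝ) * ∑ i ∈ t, d i ^ 2 - (∑ i ∈ t, d i) ^ 2) := by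
    simp only [sub_sq, Finset.sum_add_distrib, Finset.sum_sub_distrib, Finset.sum_const,
      nsmul_eq_mul, ← Finset.mul_sum]
    rw [← Finset.sum_mul, ← Finset.mul_sum]
    ring
  have h1 : ∑ i ∈ s, ∑ j ∈ t \ s, (d i - d j) ^ 2 ≥ c * (s.card * ((t.card : ℝ) - s.card)) := by
    have hc : ((t \ s).card : ℝ) = (t.card : ℝ) - s.card := by
      rw [Finset.card_sdiff_of_subset hs, Nat.cast_sub (Finset.card_le_card hs)]
    calc c * (s.card * ((t.card : ℝ) - s.card)) = ∑ i ∈ s, ∑ j ∈ t \ s, c := by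
          simp only [Finset.sum_const, nsmul_eq_mul, hc]; ring
      _ ≤ _ := Finset.sum_le_sum fun i hi => Finset.sum_le_sum fun j hj =>
          hgap i hi j (Finset.mem_sdiff.1 hj).1 (Finset.mem_sdiff.1 hj).2
  have h2 : ∑ i ∈ t \ s, ∑ j ∈ s, (d i - d j) ^ 2 = ∑ i ∈ s, ∑ j ∈ t \ s, (d i - d j) ^ 2 := by
    rw [Finset.sum_comm]
    exact Finset.sum_congr rfl fun i _ => Finset.sum_congr rfl fun j _ => by ring
  have h3 : ∑ i ∈ s, ∑ j ∈ t \ s, (d i - d j) ^ 2 + ∑ i ∈ t \ s, ∑ j ∈ s, (d i - d j) ^ 2 ≤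
      ∑ i ∈ t, ∑ j ∈ t, (d i - d j) ^ 2 := by
    rw [← Finset.sum_sdiff hs (f := fun i => ∑ j ∈ t, (d i - d j) ^ 2), add_comm]
    exact add_le_add
      (Finset.sum_le_sum fun i _ => Finset.sum_le_sum_of_subset_of_nonneg hs
        fun j _ _ => sq_nonneg _)
      (Finset.sum_le_sum fun i _ => Finset.sum_le_sum_of_subset_of_nonneg Finset.sdiff_subset
        fun j _ _ => sq_nonneg _)
  linarith

/-- Where the coefficients are constant away from the trivial character, so is the function. -/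
theorem const_of_coeff_const (hcomm : ∀ x y : P, x * y = y * x) (f : P → ℂ)
    (h : ∀ l l' : P →* ℂˣ, l ≠ 1 → l' ≠ 1 → coeff f l = coeff f l') {x y : P} (hx : x ≠ 1)
    (hy : y ≠ 1) : f x = f y := by
  classical
  haveI := hom_finite hcomm
  haveI := Fintype.ofFinite (P →* ℂˣ)
  by_cases hne : ∃ l : P →* ℂˣ, l ≠ 1
  swap
  · push Not at hne
    rw [eq_sum_coeff hcomm f x, eq_sum_coeff hcomm f y]
    exact Finset.sum_congr rfl fun l _ => by rw [hne l]; simp
  obtain ⟨l₀, hl₀⟩ := hne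
  have key : ∀ z : P, z ≠ 1 → f z = coeff f 1 - coeff f l₀ := by
    intro z hz
    have h0 : ∑ l : P →* ℂˣ, (l z : ℂ) = 0 := by
      have h2 := eq_sum_coeff hcomm (fun w => if w = 1 then (Nat.card P : ℂ) else 0) z
      simp only [if_neg hz] at h2
      rw [h2]
      refine Finset.sum_congr rfl fun l _ => ?_
      have : coeff (fun w => if w = 1 then (Nat.card P : ℂ) else 0) l = 1 := by
        simp [coeff, CharCore.classInner_def]
      rw [this, one_mul]
    rw [eq_sum_coeff hcomm f z, ← Finset.add_sum_erase _ _ (Finset.mem_univ (1 : P →* ℂˣ))]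
    rw [← Finset.add_sum_erase _ _ (Finset.mem_univ (1 : P →* ℂˣ))] at h0
    have e : ∑ l ∈ Finset.univ.erase (1 : P →* ℂˣ), coeff f l * (l z : ℂ) =
        coeff f l₀ * ∑ l ∈ Finset.univ.erase (1 : P →* ℂˣ), (l z : ℂ) := by
      rw [Finset.mul_sum]
      exact Finset.sum_congr rfl fun l hl => by rw [h l l₀ (Finset.ne_of_mem_erase hl) hl₀]
    rw [e]
    simp only [MonoidHom.one_apply, Units.val_one, mul_one] at h0 ⊢
    linear_combination coeff f l₀ * h0
  rw [key x hx, key y hy]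

/-- The coefficients are invariant under automorphisms fixing the function. -/
theorem coeff_comp (f : P → ℂ) (α : P ≃* P) (hinv : ∀ x, f (α x) = f x) (l : P →* ℂˣ) :
    coeff f (l.comp α.toMonoidHom) = coeff f l := by
  simp only [coeff, CharCore.classInner_def]
  congr 1
  refine Fintype.sum_equiv α.toEquiv _ _ fun x => ?_
  simp [hinv x]

open Classical in
/-- The variance bound from a lower bound `o` on the number of characters sharing a coefficient. -/
theorem variance_core (hcomm : ∀ x y : P, x * y = y * x) [Fintype (P →* ℂˣ)] (f : P → ℂ)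
    (d : (P →* ℂˣ) → ℤ) (hd : ∀ l, coeff f l = d l) (o c : ℕ)
    (horb : ∀ l : P →* ℂˣ, l ≠ 1 →
      o ≤ (((Finset.univ : Finset (P →* ℂˣ)).erase 1).filter (fun m => d m = d l)).card)
    (hc : ∀ l l' : P →* ℂˣ, l ≠ 1 → l' ≠ 1 → (c : ℤ) ∣ d l - d l')
    {x y : P} (hx : x ≠ 1) (hy : y ≠ 1) (hne : f x ≠ f y) :
    (c : ℝ) ^ 2 * Nat.card P * o * ((Nat.card P : ℝ) - 1 - o)
      / ((Nat.card P : ℝ) - 1) ≤ ∑ x ∈ Finset.univ.erase (1 : P), ‖f x‖ ^ 2 := by
  obtain ⟨l₀, l₁, hl₀, hl₁, hne01⟩ :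
      ∃ l l' : P →* ℂˣ, l ≠ 1 ∧ l' ≠ 1 ∧ d l ≠ d l' := by
    by_contra hall
    push Not at hall
    exact hne (const_of_coeff_const hcomm f (fun l l' h h' => by rw [hd, hd, hall l l' h h']) hx hy)
  set t := (Finset.univ : Finset (P →* ℂˣ)).erase 1 with ht
  set s := t.filter (fun l => d l = d l₀) with hs
  have hn : (t.card : ℝ) = (Nat.card P : ℝ) - 1 := by
    rw [ht, Finset.card_erase_of_mem (Finset.mem_univ _), Finset.card_univ, card_hom hcomm,
      Nat.cast_sub Fintype.card_pos, Nat.card_eq_fintype_card, Nat.cast_one]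
  have h1 : o ≤ s.card := horb l₀ hl₀
  have hdisj : Disjoint s (t.filter (fun m => d m = d l₁)) := Finset.disjoint_filter.2
    fun m _ e e' => hne01 (e.symm.trans e')
  have h2 : s.card + o ≤ t.card :=
    (Nat.add_le_add_left (horb l₁ hl₁) _).trans
      (Finset.card_union_of_disjoint hdisj ▸ Finset.card_le_card
        (Finset.union_subset (Finset.filter_subset _ _) (Finset.filter_subset _ _)))
  have hgap : ∀ i ∈ s, ∀ j ∈ t, j ∉ s → (c : ℝ) ^ 2 ≤ ((d i : ℝ) - d j) ^ 2 := by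
    intro i hi j hj hjs
    obtain ⟨hit, hid⟩ := Finset.mem_filter.1 hi
    have hne2 : d i - d j ≠ 0 := fun e => hjs (Finset.mem_filter.2 ⟨hj, by omega⟩)
    obtain ⟨k, hk⟩ := hc i j (Finset.ne_of_mem_erase hit) (Finset.ne_of_mem_erase hj)
    have hk0 : k ≠ 0 := fun e => hne2 (by rw [hk, e, mul_zero])
    have hk1 : (1 : ℤ) ≤ k ^ 2 := by
      have : 0 < k ^ 2 := by positivity
      omega
    have hk2 : (d i : ℝ) - d j = (c : ℝ) * k := by exact_mod_cast congrArg (fun z : ℤ => (z : ℝ)) hk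
    rw [hk2, mul_pow]
    exact le_mul_of_one_le_right (sq_nonneg _) (by exact_mod_cast hk1)
  have hvar := var_split t s (Finset.filter_subset _ _) (fun l => (d l : ℝ)) _ hgap
  rw [hn] at hvar
  have h2' : (s.card : ℝ) + o ≤ (Nat.card P : ℝ) - 1 := by
    rw [← hn]; exact_mod_cast h2
  have h1' : (o : ℝ) ≤ s.card := by exact_mod_cast h1
  have hu0 : (0 : ℝ) ≤ o := Nat.cast_nonneg _
  have hN : (0 : ℝ) ≤ (Nat.card P : ℝ) := Nat.cast_nonneg _
  have hc2 : (0 : ℝ) ≤ (c : ℝ) ^ 2 := sq_nonneg _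
  have hmono : (o : ℝ) * ((Nat.card P : ℝ) - 1 - o) ≤
      (s.card : ℝ) * ((Nat.card P : ℝ) - 1 - s.card) := by
    nlinarith
  have hv2 : (c : ℝ) ^ 2 * ((o : ℝ) * ((Nat.card P : ℝ) - 1 - o)) ≤
      ((Nat.card P : ℝ) - 1) * ∑ i ∈ t, (d i : ℝ) ^ 2 - (∑ i ∈ t, (d i : ℝ)) ^ 2 :=
    (mul_le_mul_of_nonneg_left hmono hc2).trans hvar
  have hsum := sum_ne_one_eq hcomm f d hd
  rw [← Finset.add_sum_erase _ _ (Finset.mem_univ (1 : P →* ℂˣ)),
    ← Finset.add_sum_erase _ _ (Finset.mem_univ (1 : P →* ℂˣ)), ← ht] at hsum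
  have hpos : (0 : ℝ) < (Nat.card P : ℝ) - 1 := by
    rw [← hn]
    exact_mod_cast Finset.card_pos.2 ⟨l₀, Finset.mem_erase.2 ⟨hl₀, Finset.mem_univ _⟩⟩
  rw [div_le_iff₀ hpos]
  calc _ = (Nat.card P : ℝ) * ((c : ℝ) ^ 2 *
        ((o : ℝ) * ((Nat.card P : ℝ) - 1 - o))) := by ring
    _ ≤ (Nat.card P : ℝ) *
        (((Nat.card P : ℝ) - 1) * ∑ i ∈ t, (d i : ℝ) ^ 2 - (∑ i ∈ t, (d i : ℝ)) ^ 2) :=
      mul_le_mul_of_nonneg_left hv2 hN
    _ ≤ _ := by
      refine (le_add_of_nonneg_right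
        (sq_nonneg (((Nat.card P : ℝ) - 1) * (d 1 : ℝ) - ∑ i ∈ t, (d i : ℝ)))).trans_eq ?_
      rw [hsum]
      ring

open Classical in
/-- The variance bound: a virtual character invariant under a family of automorphisms acting
without fixed points, with coefficients differing by multiples of `c` and not all equal. -/
theorem variance_bound (hcomm : ∀ x y : P, x * y = y * x) (f : P → ℂ)
    (hgen : IsGeneralizedCharacter P f) {ι : Type*} [Fintype ι] (α : ι → P ≃* P)
    (hinv : ∀ i x, f (α i x) = f x) (hfree : ∀ i j, i ≠ j → ∀ x, x ≠ 1 → α i x ≠ α j x)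
    (c : ℕ) (hc : ∀ (l l' : P →* ℂˣ) (z z' : ℤ), l ≠ 1 → l' ≠ 1 → coeff f l = z →
      coeff f l' = z' → (c : ℤ) ∣ z - z')
    {x y : P} (hx : x ≠ 1) (hy : y ≠ 1) (hne : f x ≠ f y) :
    (c : ℝ) ^ 2 * Nat.card P * Fintype.card ι * ((Nat.card P : ℝ) - 1 - Fintype.card ι)
      / ((Nat.card P : ℝ) - 1) ≤ ∑ x ∈ Finset.univ.erase (1 : P), ‖f x‖ ^ 2 := by
  classical
  haveI := hom_finite hcomm
  haveI := Fintype.ofFinite (P →* ℂˣ)
  choose d hd using coeff_int hgen
  set t := (Finset.univ : Finset (P →* ℂˣ)).erase 1 with ht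
  have horb : ∀ l : P →* ℂˣ, l ≠ 1 →
      Fintype.card ι ≤ (t.filter (fun m => d m = d l)).card := by
    intro l hl
    have hinj : Function.Injective fun i => l.comp (α i).toMonoidHom := by
      intro i j hij
      by_contra hne'
      refine hl (MonoidHom.ext fun z => ?_)
      have hsurj : Function.Surjective fun w => α i w * (α j w)⁻¹ := by
        refine Finite.surjective_of_injective fun a b hab => ?_
        have h2 : α i (a * b⁻¹) = α j (a * b⁻¹) := by
          simp only [map_mul, map_inv]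
          have h3 : α i a * (α j a)⁻¹ * α j a * (α i b)⁻¹ =
              α i b * (α j b)⁻¹ * α j a * (α i b)⁻¹ := by rw [hab]
          rw [inv_mul_cancel_right] at h3
          rw [h3, hcomm (α i b) (α j b)⁻¹, mul_assoc ((α j b)⁻¹), hcomm (α i b) (α j a),
            ← mul_assoc, mul_inv_cancel_right, hcomm]
        by_contra hab'
        exact hfree i j hne' _ (fun e => hab' (mul_inv_eq_one.1 e)) h2
      obtain ⟨w, rfl⟩ := hsurj z
      have := DFunLike.congr_fun hij w
      simp only [MonoidHom.coe_comp, Function.comp_apply, MulEquiv.toMonoidHom_eq_coe,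
        MonoidHom.coe_coe] at this
      simp [this]
    rw [← Finset.card_univ, ← Finset.card_image_of_injective _ hinj]
    refine Finset.card_le_card fun m hm => ?_
    obtain ⟨i, -, rfl⟩ := Finset.mem_image.1 hm
    refine Finset.mem_filter.2 ⟨Finset.mem_erase.2 ⟨fun e => hl ?_, Finset.mem_univ _⟩, ?_⟩
    · refine MonoidHom.ext fun z => ?_
      have := DFunLike.congr_fun e ((α i).symm z)
      simpa using this
    · exact_mod_cast ((hd _).symm.trans ((coeff_comp f (α i) (hinv i) l).trans (hd l)) :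
        ((d (l.comp (α i).toMonoidHom) : ℤ) : ℂ) = (d l : ℂ))
  exact variance_core hcomm f d hd _ c horb (fun l l' h h' => hc l l' _ _ h h' (hd l) (hd l')) hx hy hne

end Cfsg.Agent.PF14
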