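import Cfsg.Agent.PF14.Side

/-!
The partition of the group by the primes `p`, `q` of a pair of sides.
-/

set_option autoImplicit false
set_option linter.unusedVariables false
set_option linter.unusedSectionVars false

namespace Cfsg.Agent.PF14

open Cfsg OddChar OddChar.CycTI Subgroup

variable {G : Type*} [Group G]

/-- The elements of order prime to `|W₁| |W₂|`. -/
def g00 (W₁ W₂ : Subgroup G) : Set G :=
  {g | (orderOf g).Coprime (Nat.card W₁ * Nat.card W₂)}

theorem g00_swap (W₁ W₂ : Subgroup G) : g00 W₂ W₁ = g00 W₁ W₂ := by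
  simp only [g00, mul_comm (Nat.card W₂)]

theorem mem_g00 {W₁ W₂ : Subgroup G} {g : G} :
    g ∈ g00 W₁ W₂ ↔ (orderOf g).Coprime (Nat.card W₁) ∧ (orderOf g).Coprime (Nat.card W₂) :=
  Nat.coprime_mul_iff_right

variable [Fintype G] {S T P Q U V W₁ W₂ : Subgroup G}

theorem Side.pow_card_eq_one_offSet (D : Side S P U W₁ W₂) {a : G} (ha : a ∈ offSet W₁ W₂) :
    a ^ (Nat.card W₁ * Nat.card W₂) = 1 := by
  have h := congrArg Subtype.val
    (pow_card_eq_one' (G := ↥(W₁ ⊔ W₂)) (x := ⟨a, (mem_offSet.1 ha).1⟩))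
  rwa [card_sup_eq D.selfNorm] at h

theorem Side.union_eq (D : Side S P U W₁ W₂) (D' : Side T Q V W₂ W₁) :
    conjSet ((P : Set G) \ {1}) ∪ (conjSet ((Q : Set G) \ {1}) ∪
      (conjSet (offSet W₁ W₂) ∪ g00 W₁ W₂)) = Set.univ := by
  refine Set.eq_univ_of_forall fun g => ?_
  by_cases hp : Nat.card W₂ ∣ orderOf g
  · rcases D.mem_of_dvd hp with h | h
    · exact Or.inl h
    · exact Or.inr (Or.inr (Or.inl h))
  by_cases hq : Nat.card W₁ ∣ orderOf g
  · rcases D'.mem_of_dvd hq with h | h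
    · exact Or.inr (Or.inl h)
    · exact Or.inr (Or.inr (Or.inl (offSet_swap W₁ W₂ ▸ h)))
  exact Or.inr (Or.inr (Or.inr (mem_g00.2
    ⟨Nat.coprime_comm.1 (D.prime₁.coprime_iff_not_dvd.2 hq),
      Nat.coprime_comm.1 (D.prime₂.coprime_iff_not_dvd.2 hp)⟩)))

theorem Side.order_conjSet_P (D : Side S P U W₁ W₂) {g : G}
    (hg : g ∈ conjSet ((P : Set G) \ {1})) : orderOf g = Nat.card W₂ :=
  orderOf_eq_of_conjSet hg fun _ ha => D.P_sdiff_order ha

theorem Side.order_conjSet_W (D : Side S P U W₁ W₂) (D' : Side T Q V W₂ W₁) {g : G}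
    (hg : g ∈ conjSet (offSet W₁ W₂)) :
    ¬ orderOf g ∣ Nat.card W₂ ∧ ¬ orderOf g ∣ Nat.card W₁ ∧
      orderOf g ∣ Nat.card W₁ * Nat.card W₂ := by
  obtain ⟨a, ha, x, hx⟩ := hg
  have e : orderOf g = orderOf a := by
    rw [← hx]; exact (MulEquiv.orderOf_eq (MulAut.conj x) g).symm
  rw [e]
  exact ⟨D.offSet_order ha, D'.offSet_order (by rwa [offSet_swap]),
    orderOf_dvd_of_pow_eq_one (D.pow_card_eq_one_offSet ha)⟩

theorem Side.disjoint_P (D : Side S P U W₁ W₂) (D' : Side T Q V W₂ W₁) :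
    Disjoint (conjSet ((P : Set G) \ {1})) (conjSet ((Q : Set G) \ {1}) ∪
      (conjSet (offSet W₁ W₂) ∪ g00 W₁ W₂)) := by
  refine Set.disjoint_left.2 fun g hg h => ?_
  have ho := D.order_conjSet_P hg
  rcases h with h | h | h
  · exact D.ne ((D'.order_conjSet_P h).symm.trans ho)
  · exact (D.order_conjSet_W D' h).1 (ho ▸ dvd_rfl)
  · exact D.prime₂.ne_one (Nat.eq_one_of_dvd_coprimes (mem_g00.1 h).2 (ho ▸ dvd_rfl) dvd_rfl)

theorem Side.disjoint_Q (D : Side S P U W₁ W₂) (D' : Side T Q V W₂ W₁) :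
    Disjoint (conjSet ((Q : Set G) \ {1})) (conjSet (offSet W₁ W₂) ∪ g00 W₁ W₂) := by
  refine Set.disjoint_left.2 fun g hg h => ?_
  have ho := D'.order_conjSet_P hg
  rcases h with h | h
  · exact (D.order_conjSet_W D' h).2.1 (ho ▸ dvd_rfl)
  · exact D.prime₁.ne_one (Nat.eq_one_of_dvd_coprimes (mem_g00.1 h).1 (ho ▸ dvd_rfl) dvd_rfl)

theorem Side.disjoint_W (D : Side S P U W₁ W₂) (D' : Side T Q V W₂ W₁) :
    Disjoint (conjSet (offSet W₁ W₂)) (g00 W₁ W₂) := by
  refine Set.disjoint_left.2 fun g hg h => ?_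
  obtain ⟨h1, -, h3⟩ := D.order_conjSet_W D' hg
  have h' : (orderOf g).Coprime (Nat.card W₁ * Nat.card W₂) := h
  exact h1 (Nat.eq_one_of_dvd_coprimes h' dvd_rfl h3 ▸ one_dvd _)

/-- The mass of a function splits over the four parts. -/
theorem Side.mass_split (D : Side S P U W₁ W₂) (D' : Side T Q V W₂ W₁) (f : G → ℂ) :
    mass f (conjSet ((P : Set G) \ {1})) + mass f (conjSet ((Q : Set G) \ {1})) +
      mass f (conjSet (offSet W₁ W₂)) + mass f (g00 W₁ W₂) = (classInner f f).re := by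
  rw [← mass_univ, ← D.union_eq D', mass_union f (D.disjoint_P D'), mass_union f (D.disjoint_Q D'),
    mass_union f (D.disjoint_W D')]
  ring

theorem Side.share_split (D : Side S P U W₁ W₂) (D' : Side T Q V W₂ W₁) :
    share (conjSet ((P : Set G) \ {1})) + share (conjSet ((Q : Set G) \ {1})) +
      share (conjSet (offSet W₁ W₂)) + share (g00 W₁ W₂) = 1 := by
  rw [← share_univ (G := G), ← D.union_eq D']
  unfold share
  rw [mass_union _ (D.disjoint_P D'), mass_union _ (D.disjoint_Q D'),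
    mass_union _ (D.disjoint_W D')]
  ring

/-- The share of the conjugates of `P \ {1}` is at most `1 / (u q)`. -/
theorem Side.share_P_le (D : Side S P U W₁ W₂) :
    share (conjSet ((P : Set G) \ {1})) ≤ 1 / ((Nat.card U : ℝ) * Nat.card W₁) := by
  rw [D.share_P]
  have hP : (0 : ℝ) < Nat.card P := Nat.cast_pos.2 Nat.card_pos
  have hU : (0 : ℝ) < Nat.card U := Nat.cast_pos.2 Nat.card_pos
  have hW : (0 : ℝ) < Nat.card W₁ := Nat.cast_pos.2 Nat.card_pos
  rw [div_le_div_iff₀ (by positivity) (by positivity)]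
  nlinarith

/-- A lower bound for the share of the elements of order prime to `p q`. -/
theorem Side.share_g00_ge (D : Side S P U W₁ W₂) (D' : Side T Q V W₂ W₁) :
    1 / (Nat.card W₂ : ℝ) + 1 / (Nat.card W₁ : ℝ) -
      1 / ((Nat.card W₂ : ℝ) * Nat.card W₁) - 1 / ((Nat.card U : ℝ) * Nat.card W₁) -
      1 / ((Nat.card V : ℝ) * Nat.card W₂) ≤ share (g00 W₁ W₂) := by
  have h := D.share_split D'
  have h1 := D.share_P_le
  have h2 := D'.share_P_le
  rw [share_offSet D.selfNorm] at h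
  have hq : (0 : ℝ) < Nat.card W₁ := Nat.cast_pos.2 Nat.card_pos
  have hp : (0 : ℝ) < Nat.card W₂ := Nat.cast_pos.2 Nat.card_pos
  have e : ((Nat.card W₁ : ℝ) - 1) * ((Nat.card W₂ : ℝ) - 1) / ((Nat.card W₁ : ℝ) * Nat.card W₂) =
      1 - (1 / (Nat.card W₂ : ℝ) + 1 / (Nat.card W₁ : ℝ) -
        1 / ((Nat.card W₂ : ℝ) * Nat.card W₁)) := by
    field_simp
    ring
  linarith

end Cfsg.Agent.PF14
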