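import Cfsg.Agent.PF14.Orbit
import Cfsg.Agent.PF14.Partition
import Cfsg.Agent.S1495

/-!
Values of the array of `W₁ × W₂` on one kernel, and the resulting variance bounds.
-/

set_option autoImplicit false
set_option linter.unusedVariables false
set_option linter.unusedSectionVars false

namespace Cfsg.Agent.PF14

open Cfsg OddChar OddChar.CycTI Subgroup
open scoped ComplexConjugate

/-- An integer in the ideal of `1 - ζ` is divisible by `q`. -/
theorem dvd_of_one_sub_mul {q : ℕ} (hq : q.Prime) {z : ℤ} {ω : ℂ} (hω : IsIntegral ℤ ω)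
    (h : (z : ℂ) = (1 - Complex.exp (2 * Real.pi * Complex.I / q)) * ω) : (q : ℤ) ∣ z :=
  S1495.result q hq z ω hω h

/-- `p` lies in the ideal of `1 - μ` for a `p`-th root of unity `μ ≠ 1`. -/
theorem natCast_eq_one_sub_mul {p : ℕ} (hp : p.Prime) {μ : ℂ} (hμ : μ ^ p = 1) (hμ1 : μ ≠ 1) :
    ∃ ω : ℂ, IsIntegral ℤ ω ∧ (p : ℂ) = (1 - μ) * ω := by
  have hint : IsIntegral ℤ μ := IsIntegral.of_pow hp.pos (hμ ▸ isIntegral_one)
  refine ⟨∑ i ∈ Finset.range p, ∑ j ∈ Finset.range i, μ ^ j,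
    IsIntegral.sum _ fun i _ => IsIntegral.sum _ fun j _ => hint.pow j, ?_⟩
  have h0 : ∑ i ∈ Finset.range p, μ ^ i = 0 := by
    have := geom_sum_mul μ p
    rw [hμ, sub_self, mul_eq_zero, sub_eq_zero] at this
    exact this.resolve_right hμ1
  rw [Finset.mul_sum]
  simp only [mul_neg_geom_sum]
  rw [Finset.sum_sub_distrib, h0, sub_zero, Finset.sum_const, Finset.card_range, nsmul_eq_mul,
    mul_one]

/-- A difference `μ - μ ^ 2` of `p`-th roots of unity is not in the ideal of `1 - ζ_q`. -/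
theorem not_sub_sq_mem {p q : ℕ} (hp : p.Prime) (hq : q.Prime) (hne : q ≠ p) {μ : ℂ}
    (hμ : μ ^ p = 1) (hμ1 : μ ≠ 1) {ω : ℂ} (hω : IsIntegral ℤ ω)
    (h : μ - μ ^ 2 = (1 - Complex.exp (2 * Real.pi * Complex.I / q)) * ω) : False := by
  obtain ⟨ω', hω', hp'⟩ := natCast_eq_one_sub_mul hp hμ hμ1
  have hint : IsIntegral ℤ μ := IsIntegral.of_pow hp.pos (hμ ▸ isIntegral_one)
  have hinv : μ * μ ^ (p - 1) = 1 := by rw [← pow_succ', Nat.sub_add_cancel hp.pos, hμ]
  have hd := dvd_of_one_sub_mul hq (z := (p : ℤ)) (ω := μ ^ (p - 1) * ω * ω')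
    (((hint.pow _).mul hω).mul hω') (by
      push_cast
      calc (p : ℂ) = (μ * μ ^ (p - 1)) * ((1 - μ) * ω') := by rw [hinv, one_mul, ← hp']
        _ = μ ^ (p - 1) * (μ - μ ^ 2) * ω' := by ring
        _ = _ := by rw [h]; ring)
  exact hne ((Nat.prime_dvd_prime_iff_eq hq hp).1 (by exact_mod_cast hd))

section Coeff

variable {P : Type*} [Group P] [Fintype P]

/-- If a function is constant away from `1` its coefficients are constant away from `1`. -/
theorem coeff_const (f : P → ℂ) {y : ℂ} (hf : ∀ x, x ≠ 1 → f x = y) {l : P →* ℂˣ} (hl : l ≠ 1) :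
    coeff f l = (f 1 - y) / Nat.card P := by
  classical
  have h0 : ∑ x : P, conj (l x : ℂ) = 0 := by
    rw [← map_sum, show ∑ x : P, (l x : ℂ) = 0 from sum_hom_units_eq_zero ((Units.coeHom ℂ).comp l)
      fun h => hl (MonoidHom.ext fun x => Units.ext (DFunLike.congr_fun h x)), map_zero]
  have hsum : ∑ x : P, (f x - y) * conj (l x : ℂ) = f 1 - y := by
    rw [Finset.sum_eq_single (1 : P) (fun x _ hx => by rw [hf x hx, sub_self, zero_mul])
      (fun h => absurd (Finset.mem_univ _) h)]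
    simp
  rw [coeff, CharCore.classInner_def, div_eq_inv_mul]
  congr 1
  simp only [sub_mul, Finset.sum_sub_distrib, ← Finset.mul_sum] at hsum
  rw [h0, mul_zero, sub_zero] at hsum
  exact hsum

/-- Coefficients of an integer valued function do not change under powers prime to `p`. -/
theorem coeff_pow {f : P → ℂ} (hint : ∀ x, ∃ z : ℤ, f x = z) {p k : ℕ} (hp : p.Prime)
    (hexp : ∀ x : P, x ^ p = 1) (hk : ¬ p ∣ k) {l : P →* ℂˣ} {d : ℤ} (hd : coeff f l = d) :
    coeff f (l ^ k) = d := by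
  obtain ⟨σ, hσ⟩ := CharClifford.exists_ringHom_pow hp.ne_zero (m := k)
    (Nat.coprime_comm.1 (hp.coprime_iff_not_dvd.2 hk))
  have h := congrArg σ hd
  rw [map_intCast] at h
  rw [← h]
  simp only [coeff, CharCore.classInner_def, map_mul, map_inv₀, map_natCast, map_sum]
  congr 1
  refine Finset.sum_congr rfl fun x _ => ?_
  obtain ⟨z, hz⟩ := hint x
  have hroot : (conj (l x : ℂ)) ^ p = 1 := by
    rw [← map_pow, ← Units.val_pow_eq_pow_val, ← map_pow, hexp x, map_one, Units.val_one, map_one]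
  rw [hz, map_intCast, hσ _ hroot, MonoidHom.pow_apply, Units.val_pow_eq_pow_val, map_pow]

end Coeff

variable {G : Type*} [Group G] [Fintype G] {S T P Q U V W₁ W₂ : Subgroup G}

theorem gen_restrict {f : G → ℂ} (hf : IsGeneralizedCharacter G f) (P : Subgroup G) :
    IsGeneralizedCharacter P (fun x : P => f x) :=
  CharCore.isGeneralized_restrict hf P

theorem Side.P_commute (D : Side S P U W₁ W₂) (x y : P) : x * y = y * x :=
  Subtype.ext (D.P_comm x x.2 y y.2)

open Classical in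
/-- The variance bound on `P` for a virtual character. -/
theorem Side.mass_variance (D : Side S P U W₁ W₂) {f : G → ℂ} (hf : IsGeneralizedCharacter G f)
    (c : ℕ) (hc : ∀ (l l' : P →* ℂˣ) (z z' : ℤ), l ≠ 1 → l' ≠ 1 →
      coeff (fun x : P => f x) l = z → coeff (fun x : P => f x) l' = z' → (c : ℤ) ∣ z - z')
    {x y : P} (hx : x ≠ 1) (hy : y ≠ 1) (hne : f x ≠ f y) :
    (c : ℝ) ^ 2 / Nat.card W₁ * (1 - (Nat.card U : ℝ) / ((Nat.card P : ℝ) - 1)) ≤
      mass f (conjSet ((P : Set G) \ {1})) := by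
  classical
  have hcl := CharCore.IsGeneralizedCharacter.isClassFunction hf
  haveI : Fintype U := Fintype.ofFinite U
  have h := variance_bound D.P_commute (fun x : P => f x) (gen_restrict hf P)
    (fun u : U => D.cP ⟨u, D.U_le u.2⟩) (fun u z => hcl z (u : G))
    (fun u v huv z hz he => by
      have he' : (u : G) * z * (u : G)⁻¹ = (v : G) * z * (v : G)⁻¹ := congrArg Subtype.val he
      refine hz (Subtype.ext (D.fpf ((v : G)⁻¹ * u) (U.mul_mem (U.inv_mem v.2) u.2)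
        (fun e => huv (Subtype.ext (inv_mul_eq_one.1 e).symm)) z z.2 ?_))
      calc (v : G)⁻¹ * u * z = (v : G)⁻¹ * ((u : G) * z * (u : G)⁻¹) * u := by group
        _ = (v : G)⁻¹ * ((v : G) * z * (v : G)⁻¹) * u := by rw [he']
        _ = (z : G) * ((v : G)⁻¹ * u) := by group)
    c hc hx hy hne
  rw [← Nat.card_eq_fintype_card (α := U)] at h
  rw [D.mass_P hcl, D.card_S]
  refine le_trans (le_of_eq ?_)
    (mul_le_mul_of_nonneg_left (h.trans_eq (Finset.sum_congr (by ext; simp) fun _ _ => rfl))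
      (inv_nonneg.2 (Nat.cast_nonneg _)))
  have hP : (1 : ℝ) < Nat.card P := by
    rw [D.card_P]; exact_mod_cast Nat.one_lt_pow D.prime₁.ne_zero D.prime₂.one_lt
  have hU : (Nat.card U : ℝ) ≠ 0 := Nat.cast_ne_zero.2 Nat.card_pos.ne'
  have hW : (Nat.card W₁ : ℝ) ≠ 0 := Nat.cast_ne_zero.2 Nat.card_pos.ne'
  have hP0 : (Nat.card P : ℝ) - 1 ≠ 0 := by linarith
  push_cast
  field_simp

/-- The variance bound on `P` for an integer valued virtual character, `q < p`. -/
theorem Side.mass_variance_int (D : Side S P U W₁ W₂) (hqp : Nat.card W₁ < Nat.card W₂)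
    {f : G → ℂ} (hf : IsGeneralizedCharacter G f) (hint : ∀ x ∈ P, ∃ z : ℤ, f x = z)
    {x y : P} (hx : x ≠ 1) (hy : y ≠ 1) (hne : f x ≠ f y) :
    1 - (Nat.card W₁ : ℝ) * Nat.card U / ((Nat.card P : ℝ) - 1) ≤
      mass f (conjSet ((P : Set G) \ {1})) := by
  classical
  have hcl := CharCore.IsGeneralizedCharacter.isClassFunction hf
  haveI := hom_finite D.P_commute
  haveI := Fintype.ofFinite (P →* ℂˣ)
  letI : DecidableEq (P →* ℂˣ) := fun a b => Classical.propDecidable (a = b)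
  choose d hd using coeff_int (gen_restrict hf P)
  have h := variance_core D.P_commute (fun x : P => f x) d hd (Nat.card W₁ * Nat.card U) 1
    (fun l hl => D.orbit_le hqp _ hl (Finset.mem_filter.2
      ⟨Finset.mem_erase.2 ⟨hl, Finset.mem_univ _⟩, rfl⟩)
      (fun m hm s => by
        obtain ⟨hm1, hm2⟩ := Finset.mem_filter.1 hm
        refine Finset.mem_filter.2 ⟨Finset.mem_erase.2 ⟨fun e => Finset.ne_of_mem_erase hm1 ?_,
          Finset.mem_univ _⟩, ?_⟩
        · exact MonoidHom.ext fun z => by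
            have := DFunLike.congr_fun e ((D.cP s).symm z)
            simpa using this
        · rw [← hm2]
          have := coeff_comp (fun x : P => f x) (D.cP s) (fun z => hcl z (s : G)) m
          rw [hd, hd] at this
          exact_mod_cast this)
      (fun m hm k hk => by
        obtain ⟨hm1, hm2⟩ := Finset.mem_filter.1 hm
        refine Finset.mem_filter.2 ⟨Finset.mem_erase.2 ⟨fun e => Finset.ne_of_mem_erase hm1 ?_,
          Finset.mem_univ _⟩, ?_⟩
        · refine MonoidHom.ext fun z => ?_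
          have h1 : (m z) ^ k = 1 := by rw [← MonoidHom.pow_apply, e, MonoidHom.one_apply]
          have h2 : (m z) ^ Nat.card W₂ = 1 := by
            rw [← map_pow, show z ^ Nat.card W₂ = 1 from Subtype.ext (D.P_exp z z.2), map_one]
          exact orderOf_eq_one_iff.1 (Nat.eq_one_of_dvd_coprimes
            (D.prime₂.coprime_iff_not_dvd.2 hk) (orderOf_dvd_of_pow_eq_one h2)
            (orderOf_dvd_of_pow_eq_one h1))
        · rw [← hm2]
          have h1 := coeff_pow (f := fun x : P => f x) (fun z => hint z z.2) D.prime₂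
            (fun z => Subtype.ext (D.P_exp z z.2)) hk (hd m)
          rw [hd] at h1
          exact_mod_cast h1))
    (fun l l' _ _ => by simp) hx hy hne
  rw [D.mass_P hcl, D.card_S]
  refine le_trans (le_of_eq ?_)
    (mul_le_mul_of_nonneg_left (h.trans_eq (Finset.sum_congr (by ext; simp) fun _ _ => rfl))
      (inv_nonneg.2 (Nat.cast_nonneg _)))
  have hP : (1 : ℝ) < Nat.card P := by
    rw [D.card_P]; exact_mod_cast Nat.one_lt_pow D.prime₁.ne_zero D.prime₂.one_lt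
  have hU : (Nat.card U : ℝ) ≠ 0 := Nat.cast_ne_zero.2 Nat.card_pos.ne'
  have hW : (Nat.card W₁ : ℝ) ≠ 0 := Nat.cast_ne_zero.2 Nat.card_pos.ne'
  have hP0 : (Nat.card P : ℝ) - 1 ≠ 0 := by linarith
  push_cast
  field_simp

section Eta

variable {η : (↥W₁ →* ℂˣ) → (↥W₂ →* ℂˣ) → G → ℂ}

theorem exists_ne_one {A : Subgroup G} (hA : (Nat.card A).Prime) : ∃ φ : ↥A →* ℂˣ, φ ≠ 1 := by
  haveI := Fact.mk hA
  haveI : Nontrivial A := Finite.one_lt_card_iff_nontrivial.1 hA.one_lt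
  obtain ⟨a, ha⟩ := exists_ne (1 : A)
  obtain ⟨φ, hφ⟩ := dual_sep (isCyclic_of_prime_card (α := A) rfl) ha
  exact ⟨φ, fun e => hφ (by rw [e]; rfl)⟩

/-- `η 1 ψ` is not constant on `P \ {1}`. -/
theorem Side.exists_ne_value (D : Side S P U W₁ W₂) (E : EtaArr W₁ W₂ η) {ψ : ↥W₂ →* ℂˣ}
    (hψ : ψ ≠ 1) : ∃ x y : P, x ≠ 1 ∧ y ≠ 1 ∧ η 1 ψ x ≠ η 1 ψ y := by
  haveI : Nontrivial W₂ := Finite.one_lt_card_iff_nontrivial.1 D.prime₂.one_lt
  obtain ⟨b, hb⟩ : ∃ b : W₂, ψ b ≠ 1 := DFunLike.ne_iff.1 hψ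
  have hb1 : b ≠ 1 := fun e => hb (by rw [e, map_one])
  have hbp : b ^ Nat.card W₂ = 1 := pow_card_eq_one'
  have hb2 : b ^ 2 ≠ 1 := fun e => hb1 (by
    refine orderOf_eq_one_iff.1 (Nat.eq_one_of_dvd_coprimes
      ((Nat.coprime_primes Nat.prime_two D.prime₂).2 (by have := D.two_lt.2; omega))
      (orderOf_dvd_of_pow_eq_one e) (orderOf_dvd_of_pow_eq_one hbp)))
  refine ⟨⟨b, D.W₂_le b.2⟩, ⟨(b ^ 2 : W₂), D.W₂_le (b ^ 2).2⟩, fun e => hb1 (Subtype.ext
    (congrArg Subtype.val e : _)), fun e => hb2 (Subtype.ext (congrArg Subtype.val e : _)),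
    fun e => ?_⟩
  have hζ := Complex.isPrimitiveRoot_exp (Nat.card W₁) D.prime₁.ne_zero
  obtain ⟨ω₁, hω₁, e₁⟩ := E.congr_right ψ hb1 hζ
  obtain ⟨ω₂, hω₂, e₂⟩ := E.congr_right ψ hb2 hζ
  refine not_sub_sq_mem D.prime₂ D.prime₁ D.ne (μ := (ψ b : ℂ)) ?_ ?_ (hω₁.sub hω₂) ?_
  · rw [← Units.val_pow_eq_pow_val, ← map_pow, hbp, map_one, Units.val_one]
  · exact fun h => hb (Units.ext h)
  · simp only at e
    rw [mul_sub, ← e₁, ← e₂, e, map_pow, Units.val_pow_eq_pow_val]
    ring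

/-- The mass of `η φ 1` on the conjugates of `W₁W₂ \ (W₁ ∪ W₂)`. -/
theorem EtaArr.mass_offSet (E : EtaArr W₁ W₂ η) (φ : ↥W₁ →* ℂˣ) :
    mass (η φ 1) (conjSet (offSet W₁ W₂)) = share (conjSet (offSet W₁ W₂)) := by
  refine mass_congr fun g hg => ?_
  obtain ⟨a, ha, x, hx⟩ := hg
  have e : η φ 1 g = η φ 1 a := by rw [← hx]; exact (E.classFun φ 1 g x).symm
  obtain ⟨hW1, hW2, hdisj, hcomm, hcyc, hnorm⟩ := id E.selfNorm
  obtain ⟨haW, ha1, ha2⟩ := mem_offSet.1 ha
  have hmul := pr_mul_pr W₁ W₂ hdisj hcomm ⟨a, haW⟩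
  rw [e, show a = ((pr1 W₁ W₂ hdisj hcomm ⟨a, haW⟩ : W₁) : G) *
      ((pr2 W₁ W₂ hdisj hcomm ⟨a, haW⟩ : W₂) : G) from hmul,
    E.eq_on φ 1 _ _ (fun h => ha2 ((pr1_eq_one_iff W₁ W₂ hdisj hcomm _).1 h))
      (fun h => ha1 ((pr2_eq_one_iff W₁ W₂ hdisj hcomm _).1 h))]
  simp [norm_hom_apply]

end Eta

end Cfsg.Agent.PF14
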