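import Cfsg.Agent.S1546
import Mathlib.Tactic.IntervalCases
import Mathlib.Tactic.LinearCombination
import Mathlib.Data.Real.Basic
import Mathlib.Tactic.NormNum.Prime

/-!
The arithmetic at the end of Peterfalvi (14): the multiplier `m = N / u` and the multiplier
`k = h / u`.
-/

set_option autoImplicit false

namespace Cfsg.Agent.PF14

variable {p q u v m k : ℕ}

lemma repunit_facts (hp : p.Prime) (hq : q.Prime) (hqp : q < p) (hq2 : q ≠ 2)
    (hm : m * u * (p - 1) = p ^ q - 1) :
    Odd (m * u) ∧ (p % q = 1 → q ∣ m * u) ∧ (p % q ≠ 1 → ∀ x, x ∣ m * u → x % q = 1) := by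
  have h := S1546.result p q hp hq (by have := hq.two_le; omega) hq2
  have hN : (p ^ q - 1) / (p - 1) = m * u := by
    rw [← hm]
    exact Nat.mul_div_cancel _ (by have := hp.two_le; omega)
  rw [hN] at h
  exact ⟨h.1, h.2.1, fun hne => (h.2.2 hne).2⟩

lemma trichot (n : ℕ) : n = 0 ∨ n = 1 ∨ 2 ≤ n := by omega

lemma pow_le_mul_of_eq (hp : p.Prime) (hq : q.Prime) (hm : m * u * (p - 1) = p ^ q - 1) :
    p ^ (q - 1) ≤ m * u := by
  refine Nat.le_of_mul_le_mul_right ?_ (show 0 < p - 1 by have := hp.two_le; omega)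
  rw [hm, Nat.mul_sub, mul_one, ← pow_succ, Nat.sub_add_cancel hq.one_le]
  exact Nat.sub_le_sub_left (Nat.one_le_pow _ _ hp.pos) _

lemma large_inequality {P Q V X : ℝ} (hP : 0 < P) (hQ : 1 < Q) (hV : 0 < V)
    (hX : 1 / V + P * X < (Q - 2) / (Q - 1)) :
    ¬ (Q - 2) / (P * (Q - 1)) ≤ 1 / (V * P) + X := by
  intro h
  have h1 : P * ((Q - 2) / (P * (Q - 1))) ≤ P * (1 / (V * P) + X) :=
    mul_le_mul_of_nonneg_left h hP.le
  have h2 : P * ((Q - 2) / (P * (Q - 1))) = (Q - 2) / (Q - 1) := by
    have : Q - 1 ≠ 0 := by linarith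
    field_simp
  have h3 : P * (1 / (V * P) + X) = 1 / V + P * X := by field_simp
  linarith

/-- The multiplier of `u` in `(p ^ q - 1) / (p - 1)`. -/
theorem bound_arith (hp : p.Prime) (hq : q.Prime) (hqp : q < p) (hq2 : q ≠ 2)
    (hu : Odd u) (hu1 : 1 < u) (hum : u % q = 1)
    (hdiv : u * (p - 1) ∣ p ^ q - 1 ∨ u ∣ p - 1) (hv : 2 * p + 1 ≤ v)
    (hineq : u * (p - 1) < p ^ q - 1 →
      ((q : ℝ) - 2) / (p * (q - 1)) ≤ 1 / (v * p) + q * u / ((p : ℝ) ^ q - 1)) :
    ∃ m, m * u * (p - 1) = p ^ q - 1 ∧ (m = 1 ∨ m = q ∨ (p = 11 ∧ q = 3 ∧ m = 7)) := by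
  have hq3 : 3 ≤ q := by have := hq.two_le; omega
  have hp5 : 5 ≤ p := by
    rcases (show p = 4 ∨ 5 ≤ p by omega) with rfl | h
    · exact absurd hp (by norm_num)
    · exact h
  have hP : (5 : ℝ) ≤ (p : ℝ) := by exact_mod_cast hp5
  have hQ : (3 : ℝ) ≤ (q : ℝ) := by exact_mod_cast hq3
  have hV : (2 * p + 1 : ℝ) ≤ (v : ℝ) := by exact_mod_cast hv
  have hv1 : (1 : ℝ) / v ≤ 1 / (2 * p + 1) := one_div_le_one_div_of_le (by positivity) hV
  have hv11 : (1 : ℝ) / v ≤ 1 / 11 :=
    hv1.trans (one_div_le_one_div_of_le (by norm_num) (by linarith))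
  have hQ5 : 5 ≤ q → (3 / 4 : ℝ) ≤ ((q : ℝ) - 2) / (q - 1) := fun h5 => by
    have : (5 : ℝ) ≤ (q : ℝ) := by exact_mod_cast h5
    rw [div_le_div_iff₀ (by norm_num) (by linarith)]
    linarith
  have hq35 : q = 3 ∨ 5 ≤ q := by
    rcases (show q = 3 ∨ q = 4 ∨ 5 ≤ q by omega) with h | rfl | h
    · exact Or.inl h
    · exact absurd hq (by norm_num)
    · exact Or.inr h
  by_cases hA : u * (p - 1) ∣ p ^ q - 1
  · obtain ⟨m, hm'⟩ := hA
    have hm : m * u * (p - 1) = p ^ q - 1 := by rw [hm']; ring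
    refine ⟨m, hm, ?_⟩
    obtain ⟨hodd, h1, hne⟩ := repunit_facts hp hq hqp hq2 hm
    have hmodd : m % 2 = 1 := Nat.odd_iff.mp (Nat.Odd.of_mul_left hodd)
    by_cases hm1 : m = 1
    · exact Or.inl hm1
    by_cases hmq : m = q
    · exact Or.inr (Or.inl hmq)
    refine Or.inr (Or.inr (by_contra fun hexc => ?_))
    have hlt : u * (p - 1) < p ^ q - 1 := by
      rw [← hm, mul_assoc]
      exact lt_mul_of_one_lt_left (Nat.mul_pos (by omega) (by omega)) (by omega)
    have hmR : (m : ℝ) * u * ((p : ℝ) - 1) = (p : ℝ) ^ q - 1 := by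
      have := congrArg (Nat.cast : ℕ → ℝ) hm
      push_cast [Nat.cast_sub hp.one_le, Nat.cast_sub (Nat.one_le_pow q p hp.pos)] at this
      exact this
    have hu0 : (0 : ℝ) < (u : ℝ) := by exact_mod_cast (show 0 < u by omega)
    have hX : (q : ℝ) * u / ((p : ℝ) ^ q - 1) = q / (m * (p - 1)) := by
      rw [← hmR, show (m : ℝ) * u * (p - 1) = m * (p - 1) * u by ring]
      exact mul_div_mul_right _ _ hu0.ne'
    have hcon : ¬ (1 : ℝ) / v + p * (q / (m * (p - 1))) < ((q : ℝ) - 2) / (q - 1) := fun hlt' =>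
      large_inequality (by linarith) (by linarith) (by linarith) hlt' (hX ▸ hineq hlt)
    have hbound : ∀ M : ℝ, 0 < M → M ≤ m → (p : ℝ) * (q / (m * (p - 1))) ≤ 5 / 4 * (q / M) := by
      intro M hM0 hMm
      have e : (p : ℝ) * (q / (m * (p - 1))) = p / (p - 1) * (q / m) := by
        have : (p : ℝ) - 1 ≠ 0 := by linarith
        field_simp
      rw [e]
      have h54 : (p : ℝ) / (p - 1) ≤ 5 / 4 := by
        rw [div_le_iff₀ (by linarith)]; linarith
      gcongr
    by_cases hpq : p % q = 1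
    · have hqm : q ∣ m := by
        rcases (Nat.Prime.dvd_mul hq).mp (h1 hpq) with h | h
        · exact h
        · exact absurd (Nat.mod_eq_zero_of_dvd h ▸ hum) (by omega)
      obtain ⟨c, rfl⟩ := hqm
      have hc : 3 ≤ c := by
        rcases (show c = 0 ∨ c = 1 ∨ c = 2 ∨ 3 ≤ c by omega) with rfl | rfl | rfl | h
        · simp at hmodd
        · simp at hmq
        · omega
        · exact h
      have hcR : (3 * q : ℝ) ≤ ((q * c : ℕ) : ℝ) := by
        push_cast
        have : (3 : ℝ) ≤ (c : ℝ) := by exact_mod_cast hc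
        nlinarith
      rcases hq35 with rfl | h5
      · have hp7 : 7 ≤ p := by omega
        have hP7 : (7 : ℝ) ≤ (p : ℝ) := by exact_mod_cast hp7
        refine hcon ?_
        have h15 : (1 : ℝ) / v ≤ 1 / 15 :=
          hv1.trans (one_div_le_one_div_of_le (by norm_num) (by linarith))
        have hM : (9 : ℝ) ≤ ((3 * c : ℕ) : ℝ) := le_of_eq_of_le (by norm_num) hcR
        have h39 : (p : ℝ) * (((3 : ℕ) : ℝ) / (((3 * c : ℕ) : ℝ) * (p - 1))) ≤ 7 / 18 := by
          rw [← mul_div_assoc, div_le_iff₀ (by nlinarith)]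
          push_cast at hM ⊢
          nlinarith
        norm_num at h39 h15 ⊢
        linarith
      · refine hcon ?_
        have h2 := hbound (3 * q) (by linarith) hcR
        rw [show (q : ℝ) / (3 * q) = 1 / 3 by field_simp] at h2
        have := hQ5 h5
        linarith
    · have hmod : m % q = 1 := hne hpq m (dvd_mul_right m u)
      have hm2 : 2 * q + 1 ≤ m := by
        have h := Nat.div_add_mod m q
        rw [hmod] at h
        rcases (trichot (m / q)) with e | e | e
        · rw [e] at h; omega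
        · rw [e] at h
          have : q % 2 = 1 := hq.eq_two_or_odd.resolve_left hq2
          omega
        · have : q * 2 ≤ q * (m / q) := Nat.mul_le_mul_left q e
          omega
      have hmR2 : (2 * q + 1 : ℝ) ≤ (m : ℝ) := by exact_mod_cast hm2
      rcases hq35 with rfl | h5
      · by_cases h13 : 13 ≤ m
        · refine hcon ?_
          have h2 := hbound 13 (by norm_num) (by exact_mod_cast h13)
          norm_num at h2 hv11 ⊢
          linarith
        · have hm7 : m = 7 := by omega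
          subst hm7
          by_cases h17 : 17 ≤ p
          · refine hcon ?_
            have hP17 : (17 : ℝ) ≤ (p : ℝ) := by exact_mod_cast h17
            have h35 : (1 : ℝ) / v ≤ 1 / 35 :=
              hv1.trans (one_div_le_one_div_of_le (by norm_num) (by linarith))
            have h2 : (p : ℝ) * (((3 : ℕ) : ℝ) / (((7 : ℕ) : ℝ) * (p - 1))) ≤ 51 / 112 := by
              rw [← mul_div_assoc, div_le_iff₀ (by push_cast; linarith)]
              push_cast
              nlinarith
            norm_num at h2 h35 ⊢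
            linarith
          · interval_cases p <;> first | omega | exact absurd hp (by norm_num)
      · refine hcon ?_
        have h2 := hbound (2 * q + 1) (by linarith) hmR2
        have h3 : (q : ℝ) / (2 * q + 1) ≤ 1 / 2 := by
          rw [div_le_iff₀ (by linarith)]; linarith
        have := hQ5 h5
        linarith
  · exfalso
    have hd : u ∣ p - 1 := hdiv.resolve_left hA
    have hup : u ≤ p - 1 := Nat.le_of_dvd (by omega) hd
    have hlt : u * (p - 1) < p ^ q - 1 := by
      have h1 : u * (p - 1) ≤ (p - 1) * p := Nat.mul_le_mul hup (by omega)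
      have h2 : p ^ 3 ≤ p ^ q := Nat.pow_le_pow_right hp.pos hq3
      have h3 : (p - 1) * p + 1 < p ^ 3 := by
        have : (p - 1) * p ≤ p * p := Nat.mul_le_mul_right p (Nat.sub_le p 1)
        nlinarith
      omega
    refine large_inequality (P := (p : ℝ)) (Q := (q : ℝ)) (V := (v : ℝ))
      (X := (q : ℝ) * u / ((p : ℝ) ^ q - 1)) (by linarith) (by linarith) (by linarith) ?_ (hineq hlt)
    have huR : (u : ℝ) ≤ (p : ℝ) - 1 := by
      have : ((u : ℕ) : ℝ) ≤ ((p - 1 : ℕ) : ℝ) := by exact_mod_cast hup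
      rwa [Nat.cast_sub hp.one_le, Nat.cast_one] at this
    rcases hq35 with rfl | h5
    · have hp7 : 7 ≤ p := by
        by_contra hp7
        interval_cases p
        · have : u ≤ 4 := hup
          have := Nat.odd_iff.mp hu
          omega
        · exact absurd hp (by norm_num)
      have hP7 : (7 : ℝ) ≤ (p : ℝ) := by exact_mod_cast hp7
      have h15 : (1 : ℝ) / v ≤ 1 / 15 :=
        hv1.trans (one_div_le_one_div_of_le (by norm_num) (by linarith))
      have h2 : (p : ℝ) * (((3 : ℕ) : ℝ) * u / ((p : ℝ) ^ 3 - 1)) ≤ 21 / 57 := by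
        have h343 : (7 : ℝ) ^ 3 ≤ (p : ℝ) ^ 3 := pow_le_pow_left₀ (by norm_num) hP7 3
        rw [← mul_div_assoc, div_le_iff₀ (by linarith)]
        push_cast
        nlinarith [mul_le_mul_of_nonneg_left huR (show (0 : ℝ) ≤ p by linarith),
          mul_nonneg (sub_nonneg.mpr hP7) (show (0 : ℝ) ≤ 21 * (p : ℝ) ^ 2 - 24 * p + 3 by nlinarith)]
      norm_num at h2 h15 ⊢
      linarith
    · have hpow : (p : ℝ) ^ 5 ≤ (p : ℝ) ^ q := pow_le_pow_right₀ (by linarith) h5
      have hqp' : (q : ℝ) ≤ (p : ℝ) := by exact_mod_cast hqp.le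
      have h54 : (25 : ℝ) ≤ (p : ℝ) * p := by nlinarith
      have hp5' : (5 * 25 : ℝ) * ((p : ℝ) * p) ≤ (p : ℝ) ^ 5 := by
        have : (125 : ℝ) ≤ (p : ℝ) ^ 3 := by nlinarith
        nlinarith
      have h2 : (p : ℝ) * ((q : ℝ) * u / ((p : ℝ) ^ q - 1)) ≤ 1 / 5 := by
        rw [← mul_div_assoc, div_le_iff₀ (by nlinarith)]
        have h6 : (q : ℝ) * u ≤ p * p := mul_le_mul hqp' (by linarith) (by positivity) (by linarith)
        have h7 : (p : ℝ) * ((q : ℝ) * u) ≤ p * (p * p) :=
          mul_le_mul_of_nonneg_left h6 (by linarith)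
        have h8 : (25 : ℝ) * (p * (p * p)) ≤ (p : ℝ) ^ 5 := by
          have e : (p : ℝ) ^ 5 = (p * p) * (p * (p * p)) := by ring
          rw [e]
          exact mul_le_mul_of_nonneg_right h54 (by positivity)
        have : (1 : ℝ) ≤ p * (p * p) := by nlinarith
        linarith
      have := hQ5 h5
      linarith

lemma mod_of_two_mul (hq : q.Prime) (hq2 : q ≠ 2) (hk : Odd k) (hk1 : 1 < k) (hkq : k % q = 1) :
    2 * q + 1 ≤ k := by
  have := Nat.odd_iff.mp hk
  have := hq.eq_two_or_odd.resolve_left hq2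
  have h := Nat.div_add_mod k q
  rw [hkq] at h
  rcases (trichot (k / q)) with e | e | e
  · rw [e] at h; omega
  · rw [e] at h; omega
  · have : q * 2 ≤ q * (k / q) := Nat.mul_le_mul_left q e
    omega

/-- The kernel `L_F` is not bigger than `U`. -/
theorem kernel_arith (hp : p.Prime) (hq : q.Prime) (hqp : q < p) (hq2 : q ≠ 2)
    (hu : Odd u) (hu1 : 1 < u) (hum : u % q = 1)
    (hm : m * u * (p - 1) = p ^ q - 1) (hm3 : m = 1 ∨ m = q ∨ (p = 11 ∧ q = 3 ∧ m = 7))
    (hk : Odd k) (hk1 : 1 < k) (hkq : k % q = 1) (hmod : (k * u) % (p * q) = 1)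
    (hcop : Nat.Coprime k u → k % (p * q) = 1) (hv : 2 * p + 1 ≤ v)
    (hcases : k * u ≤ p * (u - 1) + 1 ∨
      (1 : ℝ) / p + 1 / q - 2 / (p * q) - 1 / (u * q) - 1 / (v * p) ≤ (p * q : ℝ) / (k * u) ∨
      k * u ≤ p ^ 2 * q ^ 3 + 1) : False := by
  haveI := Fact.mk hp
  have hq3 : 3 ≤ q := by have := hq.two_le; omega
  have hp5 : 5 ≤ p := by
    rcases (show p = 4 ∨ 5 ≤ p by omega) with rfl | h
    · exact absurd hp (by norm_num)
    · exact h
  have hku1 : ((k : ZMod p) * u) = 1 := by
    have h := Nat.div_add_mod (k * u) (p * q)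
    rw [hmod] at h
    have := congrArg (Nat.cast : ℕ → ZMod p) h
    push_cast at this
    simpa using this.symm
  have hmu1 : ((m : ZMod p) * u) = 1 := by
    have := congrArg (Nat.cast : ℕ → ZMod p) hm
    push_cast [Nat.cast_sub hp.one_le, Nat.cast_sub (Nat.one_le_pow q p hp.pos)] at this
    rw [ZMod.natCast_self, zero_pow hq.ne_zero] at this
    linear_combination -this
  have hkm : k % p = m % p := by
    have : (k : ZMod p) = (m : ZMod p) := by
      calc (k : ZMod p) = k * (m * u) := by rw [hmu1, mul_one]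
        _ = m * (k * u) := by ring
        _ = m := by rw [hku1, mul_one]
    exact (ZMod.natCast_eq_natCast_iff' k m p).mp this
  have hmp : m < p := by rcases hm3 with rfl | rfl | ⟨rfl, -, rfl⟩ <;> omega
  rw [Nat.mod_eq_of_lt hmp] at hkm
  have hk2 : 2 * q + 1 ≤ k := mod_of_two_mul hq hq2 hk hk1 hkq
  rcases hcases with h1 | h23
  · have hkp : k < p := by
      by_contra hkp
      have h2 : p * u ≤ k * u := Nat.mul_le_mul_right u (by omega)
      rw [Nat.mul_sub, mul_one] at h1
      have : p ≤ p * u := Nat.le_mul_of_pos_right p (by omega)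
      omega
    rw [Nat.mod_eq_of_lt hkp] at hkm
    rcases hm3 with rfl | rfl | ⟨rfl, rfl, rfl⟩
    · omega
    · rw [hkm, Nat.mod_self] at hkq; exact absurd hkq (by norm_num)
    · have hu19 : u = 19 := by norm_num at hm; omega
      subst hu19 hkm
      exact absurd (hcop (by norm_num)) (by norm_num)
  have hsmall : k * u ≤ p ^ 2 * q ^ 3 + 1 := by
    refine h23.elim (fun h2 => ?_) id
    have hP : (5 : ℝ) ≤ (p : ℝ) := by exact_mod_cast hp5
    have hQ : (3 : ℝ) ≤ (q : ℝ) := by exact_mod_cast hq3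
    have hU : (3 : ℝ) ≤ (u : ℝ) := by
      have : 3 ≤ u := by have := Nat.odd_iff.mp hu; omega
      exact_mod_cast this
    have hV : (2 * p + 1 : ℝ) ≤ (v : ℝ) := by exact_mod_cast hv
    have hqp' : (q : ℝ) ≤ (p : ℝ) := by exact_mod_cast hqp.le
    have hK : (0 : ℝ) < (k : ℝ) * u :=
      mul_pos (by exact_mod_cast (show 0 < k by omega)) (by linarith)
    have h3 : ((p : ℝ) * q) * ((1 : ℝ) / p + 1 / q - 2 / (p * q) - 1 / (u * q) - 1 / (v * p))
        = q + p - 2 - p / u - q / v := by
      field_simp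
    have h4 : (p : ℝ) / u ≤ p / 3 := div_le_div_of_nonneg_left (by linarith) (by norm_num) hU
    have h5 : (q : ℝ) / v ≤ 1 := by rw [div_le_one (by linarith)]; linarith
    have h6 : ((p : ℝ) * q) * ((1 : ℝ) / p + 1 / q - 2 / (p * q) - 1 / (u * q) - 1 / (v * p)) ≤
        (p * q) * ((p * q : ℝ) / (k * u)) := mul_le_mul_of_nonneg_left h2 (by positivity)
    have h7 : (1 : ℝ) ≤ (p * q) * ((p * q : ℝ) / (k * u)) := by linarith
    rw [← mul_div_assoc, le_div_iff₀ hK, one_mul] at h7
    have h8 : k * u ≤ p * q * (p * q) := by exact_mod_cast h7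
    have h9 : p * q * (p * q) ≤ p ^ 2 * q ^ 3 := by
      calc p * q * (p * q) = p ^ 2 * q ^ 2 := by ring
        _ ≤ p ^ 2 * q ^ 3 := Nat.mul_le_mul_left _ (Nat.pow_le_pow_right hq.pos (by omega))
    omega
  have hN := pow_le_mul_of_eq hp hq hm
  rcases hm3 with rfl | hmq | ⟨rfl, rfl, rfl⟩
  · -- `m = 1`
    rw [one_mul] at hN
    have hkpq : k % (p * q) = 1 := by
      have hk' : k ≡ 1 [MOD p] := by rw [Nat.ModEq, hkm, Nat.mod_eq_of_lt hp.one_lt]
      have hk'' : k ≡ 1 [MOD q] := by rw [Nat.ModEq, hkq, Nat.mod_eq_of_lt hq.one_lt]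
      have hpq : p.Coprime q := (Nat.coprime_primes hp hq).2 (by omega)
      have h := (Nat.modEq_and_modEq_iff_modEq_mul hpq).mp ⟨hk', hk''⟩
      rwa [Nat.ModEq, Nat.mod_eq_of_lt (one_lt_mul'' hp.one_lt hq.one_lt)] at h
    have hkbig : 2 * (p * q) + 1 ≤ k := by
      have h := Nat.div_add_mod k (p * q)
      rw [hkpq] at h
      have hpo : (p * q) % 2 = 1 := Nat.odd_iff.mp
        ((hp.odd_of_ne_two (by omega)).mul (hq.odd_of_ne_two hq2))
      have := Nat.odd_iff.mp hk
      rcases (trichot (k / (p * q))) with e | e | e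
      · rw [e] at h; omega
      · rw [e] at h; omega
      · have : p * q * 2 ≤ p * q * (k / (p * q)) := Nat.mul_le_mul_left _ e
        omega
    have h1 : (2 * (p * q) + 1) * p ^ (q - 1) ≤ k * u := Nat.mul_le_mul hkbig hN
    have hqq : q * q + 1 ≤ 2 * p ^ (q - 2) := by
      rcases (show q = 3 ∨ 4 ≤ q by omega) with rfl | h4
      · norm_num; omega
      · have hpp : p * p ≤ p ^ (q - 2) :=
          (pow_two p).symm.trans_le (Nat.pow_le_pow_right hp.pos (by omega))
        have : q * q ≤ p * p := Nat.mul_le_mul hqp.le hqp.le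
        have : 1 ≤ p * p := Nat.mul_pos hp.pos hp.pos
        omega
    have hA : p ^ 2 * q ^ 3 + p ^ 2 * q ≤ 2 * (p * q) * p ^ (q - 1) := by
      calc p ^ 2 * q ^ 3 + p ^ 2 * q = p ^ 2 * q * (q * q + 1) := by ring
        _ ≤ p ^ 2 * q * (2 * p ^ (q - 2)) := Nat.mul_le_mul_left _ hqq
        _ = 2 * (p * q) * (p ^ (q - 2) * p) := by ring
        _ = 2 * (p * q) * p ^ (q - 1) := by
          rw [← pow_succ, show q - 2 + 1 = q - 1 by omega]
    have hB : 2 * (p * q) * p ^ (q - 1) + p ^ (q - 1) = (2 * (p * q) + 1) * p ^ (q - 1) := by ring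
    have : 1 ≤ p ^ (q - 1) := Nat.one_le_pow _ _ hp.pos
    have : 1 ≤ p ^ 2 * q := Nat.mul_pos (pow_pos hp.pos 2) hq.pos
    omega
  · -- `m = q`
    obtain rfl : q = m := hmq.symm
    have hkp : p ≤ k := by
      by_contra h
      rw [Nat.mod_eq_of_lt (by omega)] at hkm
      rw [hkm, Nat.mod_self] at hkq
      exact absurd hkq (by norm_num)
    rcases (show q = 3 ∨ q = 4 ∨ 5 ≤ q by omega) with rfl | rfl | hq5
    · obtain ⟨-, -, hne⟩ := repunit_facts hp hq hqp hq2 hm
      have hp31 : p % 3 = 1 := by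
        by_contra h31
        exact absurd (hne h31 3 (dvd_mul_right 3 u)) (by norm_num)
      have hge : (p - 1) * (3 * u) = p ^ 3 - 1 := by rw [← hm]; ring
      have hid : (p - 1) * (p * p + p + 1) = p ^ 3 - 1 := by
        zify [hp.one_le, Nat.one_le_pow 3 p hp.pos]
        ring
      have hu3 : 3 * u = p * p + p + 1 :=
        Nat.eq_of_mul_eq_mul_left (by omega) (hge.trans hid.symm)
      have hk81 : k ≤ 81 := by
        by_contra h81
        have : 82 * u ≤ k * u := Nat.mul_le_mul_right u (by omega)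
        nlinarith
      obtain ⟨c, hc⟩ : p ∣ k - 3 := by
        refine ⟨k / p, ?_⟩
        have := Nat.div_add_mod k p
        rw [hkm] at this
        omega
      have hc2 : 2 ≤ c := by
        rcases (show c = 0 ∨ c = 1 ∨ 2 ≤ c by omega) with rfl | rfl | h
        · omega
        · have := Nat.odd_iff.mp hk; have := hp.eq_two_or_odd; omega
        · exact h
      have hp39 : p ≤ 39 := by
        by_contra h39
        have : 40 * 2 ≤ p * c := Nat.mul_le_mul (by omega) hc2
        omega
      have hc16 : c ≤ 16 := by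
        by_contra h16
        have : 5 * 17 ≤ p * c := Nat.mul_le_mul hp5 (by omega)
        omega
      have hk' : k = p * c + 3 := by omega
      have := Nat.odd_iff.mp hk
      have hu' : u = (p * p + p + 1) / 3 := by omega
      interval_cases p <;> first | omega | skip
      all_goals first | (norm_num at hp; done) | skip
      all_goals interval_cases c <;> first | omega | skip
      all_goals
        subst hu' hk'
        norm_num at hcop
    · exact absurd hq (by norm_num)
    · have h1 : (2 * q + 1) * (q * u) ≤ k * (q * u) := Nat.mul_le_mul_right _ hk2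
      have h2 : (2 * q + 1) * p ^ (q - 1) ≤ k * (q * u) :=
        (Nat.mul_le_mul_left _ hN).trans h1
      have h3 : q * (k * u) ≤ q * (p ^ 2 * q ^ 3 + 1) := Nat.mul_le_mul_left q hsmall
      have h4 : q * q * q + 1 ≤ 2 * p ^ (q - 3) := by
        rcases (show q = 5 ∨ q = 6 ∨ 7 ≤ q by omega) with rfl | rfl | h7
        · have hp11 : 11 ≤ p := by
            obtain ⟨-, -, hne⟩ := repunit_facts hp hq hqp hq2 hm
            have h51 : p % 5 = 1 := by
              by_contra h51
              exact absurd (hne h51 5 (dvd_mul_right 5 u)) (by norm_num)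
            have := hp.eq_two_or_odd
            omega
          have : 11 * 11 ≤ p * p := Nat.mul_le_mul hp11 hp11
          norm_num [pow_two]
          omega
        · exact absurd hq (by norm_num)
        · have hpp : p * p * p ≤ p ^ (q - 3) := by
            calc p * p * p = p ^ 3 := by ring
              _ ≤ p ^ (q - 3) := Nat.pow_le_pow_right hp.pos (by omega)
          have : q * q * q ≤ p * p * p := Nat.mul_le_mul (Nat.mul_le_mul hqp.le hqp.le) hqp.le
          have : 1 ≤ p * p * p := Nat.mul_pos (Nat.mul_pos hp.pos hp.pos) hp.pos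
          omega
      have h5 : q * p ^ 2 * (q * q * q + 1) ≤ q * p ^ 2 * (2 * p ^ (q - 3)) :=
        Nat.mul_le_mul_left _ h4
      have h6 : q * p ^ 2 * (2 * p ^ (q - 3)) = 2 * q * p ^ (q - 1) := by
        rw [show q - 1 = 2 + (q - 3) by omega, pow_add]; ring
      have h7 : 1 ≤ p ^ (q - 1) := Nat.one_le_pow _ _ hp.pos
      have h8 : q * 1 ≤ q * p ^ 2 := Nat.mul_le_mul_left q (Nat.one_le_pow _ _ hp.pos)
      nlinarith
  · -- `(11, 3, 7)`
    have hu19 : u = 19 := by norm_num at hm; omega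
    subst hu19
    have hk172 : k ≤ 172 := by norm_num at hsmall; omega
    by_cases hc : Nat.Coprime k 19
    · have := hcop hc
      omega
    · have : 19 ∣ k := by
        by_contra hd
        exact hc ((Nat.Prime.coprime_iff_not_dvd (by norm_num)).mpr hd).symm
      omega

end Cfsg.Agent.PF14
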