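import Cfsg.Agent.PF14.Values
import Cfsg.Agent.S1546

/-!
The inequality between `u = |U|` and the order of the largest possible complement.
-/

set_option autoImplicit false
set_option linter.unusedVariables false
set_option linter.unusedSectionVars false

namespace Cfsg.Agent.PF14

open Cfsg OddChar OddChar.CycTI Subgroup
open scoped ComplexConjugate

variable {G : Type*} [Group G] [Fintype G] {S T P Q U V W₁ W₂ : Subgroup G}

theorem Side.three_mul_le (D : Side S P U W₁ W₂) (hqp : Nat.card W₁ < Nat.card W₂)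
    (hlt : Nat.card U * (Nat.card W₂ - 1) < Nat.card W₂ ^ Nat.card W₁ - 1) :
    3 * (Nat.card U * (Nat.card W₂ - 1)) ≤ Nat.card W₂ ^ Nat.card W₁ - 1 := by
  have hq := D.two_lt.1
  rcases D.card_U_cases with h | h
  · obtain ⟨m, hm⟩ := h
    have hN : Odd (((Nat.card W₂) ^ (Nat.card W₁) - 1) / ((Nat.card W₂) - 1)) :=
      (S1546.result (Nat.card W₂) (Nat.card W₁) D.prime₂ D.prime₁ (by have := D.two_lt.2; omega) (by omega)).1
    rw [hm, mul_right_comm, Nat.mul_div_cancel _ (by have := D.two_lt.2; omega)] at hN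
    have hm2 : 3 ≤ m := by
      have ho := (Nat.odd_mul.1 hN).2
      obtain ⟨j, hj⟩ := ho
      rcases Nat.eq_zero_or_pos j with hj0 | hj0
      · rw [hj, hj0, mul_zero, zero_add, mul_one] at hm
        omega
      · omega
    rw [hm, mul_comm 3]
    exact Nat.mul_le_mul_left _ hm2
  · have hu : Nat.card U ≤ (Nat.card W₂) - 1 := Nat.le_of_dvd (by have := D.two_lt.2; omega) h
    have h3 : (Nat.card W₂) ^ 3 ≤ (Nat.card W₂) ^ (Nat.card W₁) := Nat.pow_le_pow_right D.prime₂.pos (by omega)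
    obtain ⟨a, ha⟩ : ∃ a, Nat.card W₂ = a + 1 := ⟨Nat.card W₂ - 1, by have := D.prime₂.pos; omega⟩
    have h4 : Nat.card U * ((Nat.card W₂) - 1) ≤ a * a := Nat.mul_le_mul (by omega) (by omega)
    have h5 : 3 * (a * a) + 1 ≤ (Nat.card W₂) ^ 3 := by rw [ha]; ring_nf; omega
    omega

/-- The inequality `(q-2)/(p(q-1)) ≤ 1/(vp) + qu/(p^q-1)`. -/
theorem Side.ineq (D : Side S P U W₁ W₂) (D' : Side T Q V W₂ W₁)
    {η : (↥W₁ →* ℂˣ) → (↥W₂ →* ℂˣ) → G → ℂ} (E : EtaArr W₁ W₂ η)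
    (hqp : Nat.card W₁ < Nat.card W₂)
    (hlt : Nat.card U * (Nat.card W₂ - 1) < Nat.card W₂ ^ Nat.card W₁ - 1) :
    ((Nat.card W₁ : ℝ) - 2) / (Nat.card W₂ * (Nat.card W₁ - 1)) ≤
      1 / (Nat.card V * Nat.card W₂) +
        Nat.card W₁ * Nat.card U / ((Nat.card W₂ : ℝ) ^ Nat.card W₁ - 1) := by
  classical
  haveI : Fintype (↥W₁ →* ℂˣ) :=
    haveI := dual_finite (A := W₁) (haveI := Fact.mk D.prime₁; isCyclic_of_prime_card rfl)
    Fintype.ofFinite _
  set q := Nat.card W₁ with hqdef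
  set p := Nat.card W₂ with hpdef
  have hq3 : 3 ≤ q := D.two_lt.1
  have hp5 : 4 ≤ p := by omega
  have hqR : (3 : ℝ) ≤ q := by exact_mod_cast hq3
  have hpR : (4 : ℝ) ≤ p := by exact_mod_cast hp5
  obtain ⟨φ₀, hφ₀⟩ := exists_ne_one D.prime₁
  obtain ⟨ψ₀, hψ₀⟩ := exists_ne_one D.prime₂
  have hPcard : (Nat.card P : ℝ) = (p : ℝ) ^ q := by rw [D.card_P]; push_cast; rfl
  have hn : (0 : ℝ) < (p : ℝ) ^ q - 1 := by
    have : (1 : ℝ) < (p : ℝ) ^ q := by exact_mod_cast Nat.one_lt_pow D.prime₁.ne_zero D.prime₂.one_lt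
    linarith
  have hordP : ∀ x : P, (orderOf (x : G)).Coprime q := fun x =>
    Nat.Coprime.coprime_dvd_left (orderOf_dvd_of_pow_eq_one (D.P_exp x x.2))
      (Nat.coprime_comm.1 D.coprime)
  set Y := η φ₀ 1 with hY
  set X := η 1 ψ₀ with hX
  have hnormY : (classInner Y Y).re = 1 := by rw [hY, E.norm_one]; rfl
  -- `Y` is constant on `P \ {1}`
  have hu3 : (3 : ℝ) * (Nat.card U * ((p : ℝ) - 1)) ≤ (p : ℝ) ^ q - 1 := by
    have h := (Nat.cast_le (α := ℝ)).2 (D.three_mul_le hqp hlt)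
    push_cast [Nat.cast_sub D.prime₂.one_le, Nat.cast_sub (Nat.one_le_pow _ _ D.prime₂.pos)] at h
    exact h
  have hYconst : ∀ x y : P, x ≠ 1 → y ≠ 1 → Y x = Y y := by
    intro x y hx hy
    by_contra hne
    have h1 := D.mass_variance_int hqp (E.gen φ₀ 1)
      (fun z hz => E.swap.int_right φ₀ (hordP ⟨z, hz⟩)) hx hy hne
    have h2 := D.mass_split D' Y
    rw [hnormY, hY, E.mass_offSet, share_offSet E.selfNorm] at h2
    have h3 := mass_nonneg (η φ₀ 1) (conjSet ((Q : Set G) \ {1}))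
    have h4 := mass_nonneg (η φ₀ 1) (g00 W₁ W₂)
    rw [hPcard] at h1
    have h5 : (q : ℝ) * Nat.card U / ((p : ℝ) ^ q - 1) ≤ 1 / 3 := by
      rw [div_le_div_iff₀ hn (by norm_num)]
      have : (q : ℝ) ≤ (p : ℝ) - 1 := by
        have : (q : ℝ) + 1 ≤ p := by exact_mod_cast hqp
        linarith
      nlinarith [mul_le_mul_of_nonneg_left this (Nat.cast_nonneg (α := ℝ) (Nat.card U))]
    have h6 : (1 : ℝ) / 2 ≤ ((q : ℝ) - 1) * ((p : ℝ) - 1) / ((q : ℝ) * p) := by
      rw [le_div_iff₀ (by positivity)]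
      nlinarith
    linarith
  obtain ⟨b, hb⟩ : ∃ b : W₂, b ≠ 1 := by
    haveI : Nontrivial W₂ := Finite.one_lt_card_iff_nontrivial.1 D.prime₂.one_lt
    exact exists_ne 1
  obtain ⟨y₀, hy₀⟩ := E.swap.int_right φ₀ (hordP ⟨b, D.W₂_le b.2⟩)
  have hy₀ne : y₀ ≠ 0 := by
    intro h0
    obtain ⟨a, ha⟩ : ∃ a : W₁, a ≠ 1 := by
      haveI : Nontrivial W₁ := Finite.one_lt_card_iff_nontrivial.1 D.prime₁.one_lt
      exact exists_ne 1
    have hζ := Complex.isPrimitiveRoot_exp q D.prime₁.ne_zero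
    obtain ⟨ω, hω, e⟩ := isGeneralizedCharacter_mul_congr (E.gen φ₀ 1) D.prime₁.ne_zero
      (x := (a : G)) (y := (b : G)) (congrArg Subtype.val (pow_card_eq_one' (x := a)))
      (E.selfNorm.2.2.2.1 a a.2 b b.2) hζ
    have hroot : (φ₀ a : ℂ) ^ q = 1 := by
      rw [← Units.val_pow_eq_pow_val, ← map_pow, pow_card_eq_one', map_one, Units.val_one]
    haveI : NeZero q := ⟨D.prime₁.ne_zero⟩
    obtain ⟨i, -, hi⟩ := hζ.eq_pow_of_pow_eq_one hroot
    rw [E.eq_on φ₀ 1 a b ha hb, hy₀, h0] at e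
    have h1 : ((1 : ℤ) : ℂ) = (1 - Complex.exp (2 * Real.pi * Complex.I / q)) *
        (ω + ∑ j ∈ Finset.range i, Complex.exp (2 * Real.pi * Complex.I / q) ^ j) := by
      rw [mul_add, mul_neg_geom_sum, hi, ← e]
      simp
    have := dvd_of_one_sub_mul D.prime₁ (hω.add (IsIntegral.sum _ fun j _ =>
      (hζ.isIntegral D.prime₁.pos).pow j)) h1
    exact D.prime₁.ne_one (Nat.dvd_one.1 (by exact_mod_cast this))
  have hYP : ∀ x : P, x ≠ 1 → Y x = y₀ := fun x hx => by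
    rw [hYconst x ⟨b, D.W₂_le b.2⟩ hx fun e => hb (Subtype.ext (congrArg Subtype.val e : _))]
    exact hy₀
  have hmassPY : share (conjSet ((P : Set G) \ {1})) ≤ mass Y (conjSet ((P : Set G) \ {1})) := by
    refine share_le_mass fun g hg => ?_
    obtain ⟨a, ha, x, hx⟩ := hg
    have e : Y g = Y a := by rw [← hx]; exact (E.classFun φ₀ 1 g x).symm
    rw [e, show Y a = (y₀ : ℂ) from hYP ⟨a, ha.1⟩ fun h => ha.2 (congrArg Subtype.val h)]
    exact one_le_norm_of_int hy₀ne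
  -- the sum over the row of `ψ₀`
  set Ψ : G → ℂ := ∑ φ : ↥W₁ →* ℂˣ, η φ ψ₀ with hΨ
  have hΨgen : IsGeneralizedCharacter G Ψ :=
    CharCore.isGeneralized_sum _ _ fun φ _ => E.gen φ ψ₀
  have hcardq : Fintype.card (↥W₁ →* ℂˣ) = q := by
    rw [← Nat.card_eq_fintype_card]
    exact dual_card (haveI := Fact.mk D.prime₁; isCyclic_of_prime_card rfl)
  have hΨnorm : (classInner Ψ Ψ).re = q := by
    have e : classInner Ψ Ψ = (q : ℂ) := by
      rw [hΨ, CharCore.classInner_sum_left]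
      rw [Finset.sum_congr rfl fun φ _ => by
        rw [CharCore.classInner_sum_right, Finset.sum_eq_single φ
          (fun φ' _ hne => E.orth φ ψ₀ φ' ψ₀ fun h => hne (Prod.ext_iff.1 h).1.symm)
          (fun h => absurd (Finset.mem_univ _) h), E.norm_one]]
      rw [Finset.sum_const, Finset.card_univ, hcardq, nsmul_eq_mul, mul_one]
    rw [e]; simp
  have hΨval : ∀ g : G, (∀ x : G, x⁻¹ * g * x ∉ offSet W₁ W₂) → (orderOf g).Coprime q →
      Ψ g = (q : ℂ) * X g + ((q : ℂ) - 1) * (Y g - 1) := by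
    intro g hg hgq
    have hterm : ∀ φ : ↥W₁ →* ℂˣ, η φ ψ₀ g = X g + if φ = 1 then 0 else Y g - 1 := by
      intro φ
      rw [E.off φ ψ₀ g hg]
      split_ifs with h
      · rw [h, E.one, hX]; ring
      · rw [show η φ 1 g = Y g from E.swap.indep_right h hφ₀ hgq]; ring
    rw [hΨ, Finset.sum_apply, Finset.sum_congr rfl fun φ _ => hterm φ, Finset.sum_add_distrib,
      Finset.sum_const, Finset.card_univ, hcardq, Finset.sum_ite, Finset.sum_const_zero,
      Finset.sum_const, nsmul_eq_mul, nsmul_eq_mul]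
    rw [show (Finset.univ.filter fun φ : ↥W₁ →* ℂˣ => ¬φ = 1) = Finset.univ.erase 1 by
      ext φ; simp, Finset.card_erase_of_mem (Finset.mem_univ _), Finset.card_univ, hcardq,
      Nat.cast_sub D.prime₁.one_le]
    ring
  have hoffP : ∀ x : P, ∀ y : G, y⁻¹ * (x : G) * y ∉ offSet W₁ W₂ := fun x y h => D.offSet_order h (by
    have h1 : orderOf (y⁻¹ * (x : G) * y) = orderOf (x : G) := by
      conv_rhs => rw [show (x : G) = y * (y⁻¹ * x * y) * y⁻¹ by group]
      exact (MulEquiv.orderOf_eq (MulAut.conj y) _).symm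
    rw [h1]
    exact orderOf_dvd_of_pow_eq_one (D.P_exp x x.2))
  have hmassΨ : (q : ℝ) * (1 - (Nat.card U : ℝ) / ((p : ℝ) ^ q - 1)) ≤
      mass Ψ (conjSet ((P : Set G) \ {1})) := by
    obtain ⟨x, y, hx, hy, hne⟩ := D.exists_ne_value E hψ₀
    have hv : ∀ z : P, Ψ z = (q : ℂ) * X z + ((q : ℂ) - 1) * (Y z - 1) :=
      fun z => hΨval z (hoffP z) (hordP z)
    have h := D.mass_variance hΨgen q (fun l l' z z' hl hl' hz hz' => by
      have hlin : ∀ m : P →* ℂˣ, coeff (fun x : P => Ψ x) m =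
          (q : ℂ) * coeff (fun x : P => X x) m +
            ((q : ℂ) - 1) * (coeff (fun x : P => Y x) m - coeff (fun _ : P => (1 : ℂ)) m) := by
        intro m
        simp only [coeff, hv]
        simp only [CharCore.classInner_def, Finset.mul_sum, ← Finset.sum_sub_distrib,
          ← Finset.sum_add_distrib]
        exact Finset.sum_congr rfl fun w _ => by ring
      obtain ⟨a, ha⟩ := coeff_int (gen_restrict (E.gen 1 ψ₀) P) l
      obtain ⟨a', ha'⟩ := coeff_int (gen_restrict (E.gen 1 ψ₀) P) l'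
      have e1 := coeff_const (fun x : P => Y x) (y := (y₀ : ℂ)) hYP hl
      have e2 := coeff_const (fun x : P => Y x) (y := (y₀ : ℂ)) hYP hl'
      have f1 := coeff_const (fun _ : P => (1 : ℂ)) (y := 1) (fun _ _ => rfl) hl
      have f2 := coeff_const (fun _ : P => (1 : ℂ)) (y := 1) (fun _ _ => rfl) hl'
      rw [hlin, ha, e1, f1] at hz
      rw [hlin, ha', e2, f2] at hz'
      refine ⟨a - a', ?_⟩
      have : (z : ℂ) - z' = (q : ℂ) * (a - a') := by rw [← hz, ← hz']; ring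
      exact_mod_cast this) hx hy (by
      rw [hv, hv, hYP x hx, hYP y hy]
      intro e
      exact hne (mul_left_cancel₀ (Nat.cast_ne_zero.2 D.prime₁.ne_zero) (add_right_cancel e)))
    rw [hPcard] at h
    refine le_trans (le_of_eq ?_) h
    field_simp
    ring
  -- `Y` is not constant on `Q \ {1}`
  have hmassQY : ((q : ℝ) - 2) / (p * ((q : ℝ) - 1)) ≤ mass Y (conjSet ((Q : Set G) \ {1})) := by
    obtain ⟨x, y, hx, hy, hne⟩ := D'.exists_ne_value E.swap hφ₀
    have h := D'.mass_variance (E.gen φ₀ 1) 1 (fun _ _ _ _ _ _ _ _ => by simp) hx hy hne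
    refine le_trans ?_ h
    have hQcard : (Nat.card Q : ℝ) = (q : ℝ) ^ p := by rw [D'.card_P]; push_cast; rfl
    have hn' : (0 : ℝ) < (q : ℝ) ^ p - 1 := by
      have : (1 : ℝ) < (q : ℝ) ^ p := by
        exact_mod_cast Nat.one_lt_pow D.prime₂.ne_zero D.prime₁.one_lt
      linarith
    have hv : (Nat.card V : ℝ) * ((q : ℝ) - 1) ≤ (q : ℝ) ^ p - 1 := by
      have h1 : Nat.card V * (q - 1) ≤ q ^ p - 1 := by
        rcases D'.card_U_cases with h1 | h1
        · exact Nat.le_of_dvd (Nat.sub_pos_of_lt (Nat.one_lt_pow D.prime₂.ne_zero D.prime₁.one_lt)) h1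
        · have h2 : Nat.card V ≤ q - 1 := Nat.le_of_dvd (Nat.sub_pos_of_lt D.prime₁.one_lt) h1
          have h3 : 2 * p + 1 ≤ Nat.card V := D'.two_q_lt_U
          have h4 : q < p := hqp
          exact absurd (h3.trans (h2.trans (Nat.sub_le _ _))) (by omega)
      have h2 := (Nat.cast_le (α := ℝ)).2 h1
      push_cast [Nat.cast_sub (show 1 ≤ q from D.prime₁.one_le),
        Nat.cast_sub (show 1 ≤ q ^ p from Nat.one_le_pow _ _ D.prime₁.pos)] at h2
      exact h2
    rw [← hpdef, hQcard]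
    have e : (Nat.card V : ℝ) / ((q : ℝ) ^ p - 1) ≤ 1 / ((q : ℝ) - 1) := by
      rw [div_le_div_iff₀ hn' (by linarith)]
      linarith
    calc ((q : ℝ) - 2) / (p * ((q : ℝ) - 1)) = ((1 : ℕ) : ℝ) ^ 2 / p * (1 - 1 / ((q : ℝ) - 1)) := by
          have : (q : ℝ) - 1 ≠ 0 := by linarith
          field_simp
          push_cast
          ring
      _ ≤ _ := mul_le_mul_of_nonneg_left (by linarith) (by positivity)
  -- on the rest one of `Y`, `Ψ` is a non-zero integer
  have h00 : share (g00 W₁ W₂) ≤ mass Y (g00 W₁ W₂) + mass Ψ (g00 W₁ W₂) := by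
    unfold share mass
    rw [← mul_add, ← Finset.sum_add_distrib]
    refine mul_le_mul_of_nonneg_left (Finset.sum_le_sum fun g hg => ?_)
      (inv_nonneg.2 (Nat.cast_nonneg _))
    have hg' := (Finset.mem_filter.1 hg).2
    have hgq := (mem_g00.1 hg').1
    obtain ⟨y, hy⟩ := E.swap.int_right φ₀ hgq
    obtain ⟨x, hx⟩ := E.int_right ψ₀ (mem_g00.1 hg').2
    have hoff : ∀ z : G, z⁻¹ * g * z ∉ offSet W₁ W₂ := fun z hz =>
      Set.disjoint_left.1 (D.disjoint_W D') ⟨_, hz, z⁻¹, by group⟩ hg'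
    simp only [norm_one, one_pow]
    change (1 : ℝ) ≤ ‖η φ₀ 1 g‖ ^ 2 + ‖Ψ g‖ ^ 2
    change η φ₀ 1 g = (y : ℂ) at hy
    rw [hΨval g hoff hgq, hX, hx, hY, hy]
    by_cases hy0 : y = 0
    · have hz : (q : ℤ) * x + ((q : ℤ) - 1) * (0 - 1) ≠ 0 := fun e => by
        have : (q : ℤ) ∣ 1 := ⟨1 - x, by linarith⟩
        exact D.prime₁.ne_one (Nat.dvd_one.1 (by exact_mod_cast this))
      have h1 := one_le_norm_of_int hz
      push_cast at h1
      rw [hy0, Int.cast_zero]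
      rw [← zero_sub (1 : ℂ)] at h1
      exact le_add_of_nonneg_of_le (sq_nonneg _) (one_le_pow₀ h1)
    · exact le_add_of_le_of_nonneg (one_le_pow₀ (one_le_norm_of_int hy0)) (sq_nonneg _)
  have hsplitY := D.mass_split D' Y
  have hsplitΨ := D.mass_split D' Ψ
  have hshare := D.share_split D'
  rw [hnormY, hY, E.mass_offSet] at hsplitY
  rw [hΨnorm] at hsplitΨ
  have hQshare := D'.share_P_le
  rw [← hpdef] at hQshare
  have n1 := mass_nonneg Ψ (conjSet ((Q : Set G) \ {1}))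
  have n2 := mass_nonneg Ψ (conjSet (offSet W₁ W₂))
  have e : (q : ℝ) * (1 - (Nat.card U : ℝ) / ((p : ℝ) ^ q - 1)) =
      q - q * Nat.card U / ((p : ℝ) ^ q - 1) := by ring
  linarith

end Cfsg.Agent.PF14
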