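import Cfsg.Agent.OddChar.CyclicExist
import Cfsg.Agent.OddChar.Twist
import Cfsg.Agent.OddChar.Congruence
import Cfsg.Agent.Lib.CharCore.Virtual
import Cfsg.Agent.Lib.CharClifford.Galois
import Mathlib.Data.Nat.ChineseRemainder

/-!
The family of a self-normalizing cyclic subgroup `W₁ × W₂` with both factors of prime order, as an
array indexed by pairs of linear characters, with its Galois equivariance.
-/

set_option autoImplicit false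
set_option linter.unusedVariables false

namespace Cfsg.Agent.PF14

open Cfsg OddChar OddChar.CycTI
open scoped ComplexConjugate

variable {G : Type*} [Group G]

/-- The composite of a linear character with an endomorphism of `ℂ`. -/
noncomputable def mapCh {A : Type*} [Group A] (σ : ℂ →+* ℂ) (φ : A →* ℂˣ) : A →* ℂˣ :=
  (Units.map σ.toMonoidHom).comp φ

@[simp] theorem mapCh_apply {A : Type*} [Group A] (σ : ℂ →+* ℂ) (φ : A →* ℂˣ) (a : A) :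
    (mapCh σ φ a : ℂ) = σ (φ a : ℂ) := rfl

@[simp] theorem mapCh_one {A : Type*} [Group A] (σ : ℂ →+* ℂ) : mapCh σ (1 : A →* ℂˣ) = 1 :=
  MonoidHom.ext fun a => Units.ext (by simp)

/-- The properties of the family of a cyclic TI subgroup `W₁ × W₂` used in the final sections. -/
structure EtaArr [Fintype G] (W₁ W₂ : Subgroup G)
    (η : (↥W₁ →* ℂˣ) → (↥W₂ →* ℂˣ) → G → ℂ) : Prop where
  selfNorm : IsSelfNormalizingCyclic W₁ W₂
  odd : Odd (Nat.card ↥(W₁ ⊔ W₂))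
  prime₁ : (Nat.card W₁).Prime
  prime₂ : (Nat.card W₂).Prime
  signed : ∀ φ ψ, IsSignedIrr (η φ ψ)
  orth : ∀ φ ψ φ' ψ', (φ, ψ) ≠ (φ', ψ') → classInner (η φ ψ) (η φ' ψ') = 0
  one : η 1 1 = fun _ => 1
  eq_on : ∀ φ ψ, ∀ a : W₁, ∀ b : W₂, a ≠ 1 → b ≠ 1 →
    η φ ψ ((a : G) * b) = (φ a : ℂ) * (ψ b : ℂ)
  off : ∀ φ ψ, ∀ g : G, (∀ x : G, x⁻¹ * g * x ∉ offSet W₁ W₂) →
    η φ ψ g = η φ 1 g + η 1 ψ g - 1
  additive : ∀ θ : G → ℂ, IsClassFunction G θ → (∀ v ∈ offSet W₁ W₂, θ v = 0) → ∀ φ ψ,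
    classInner θ (η φ ψ) = classInner θ (η φ 1) + classInner θ (η 1 ψ) - classInner θ (η 1 1)
  galois : ∀ (σ : ℂ →+* ℂ) φ ψ g, σ (η φ ψ g) = η (mapCh σ φ) (mapCh σ ψ) g

theorem offSet_swap (W₁ W₂ : Subgroup G) : offSet W₂ W₁ = offSet W₁ W₂ := by
  simp only [offSet]
  rw [sup_comm, Set.union_comm]

theorem isSelfNormalizingCyclic_swap {W₁ W₂ : Subgroup G} (h : IsSelfNormalizingCyclic W₁ W₂) :
    IsSelfNormalizingCyclic W₂ W₁ := by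
  obtain ⟨h1, h2, h3, h4, h5, h6⟩ := h
  refine ⟨h2, h1, inf_comm W₁ W₂ ▸ h3, fun a ha b hb => (h4 b hb a ha).symm, sup_comm W₁ W₂ ▸ h5,
    fun X hX hne => ?_⟩
  rw [sup_comm]
  refine h6 X ?_ hne
  rw [sup_comm, Set.union_comm]
  exact hX

/-- An element of `W₁ × W₂` outside both factors. -/
theorem mem_offSet_mul {W₁ W₂ : Subgroup G} (h : IsSelfNormalizingCyclic W₁ W₂) {a : W₁} {b : W₂}
    (ha : a ≠ 1) (hb : b ≠ 1) : (a : G) * b ∈ offSet W₁ W₂ := by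
  refine mem_offSet.2 ⟨Subgroup.mul_mem_sup a.2 b.2, fun hm => hb ?_, fun hm => ha ?_⟩
  · have : (b : G) ∈ W₁ ⊓ W₂ := ⟨by simpa using W₁.mul_mem (W₁.inv_mem a.2) hm, b.2⟩
    rw [h.2.2.1, Subgroup.mem_bot] at this
    exact Subtype.ext this
  · have : (a : G) ∈ W₁ ⊓ W₂ := ⟨a.2, by simpa using W₂.mul_mem hm (W₂.inv_mem b.2)⟩
    rw [h.2.2.1, Subgroup.mem_bot] at this
    exact Subtype.ext this

theorem EtaArr.swap [Fintype G] {W₁ W₂ : Subgroup G}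
    {η : (↥W₁ →* ℂˣ) → (↥W₂ →* ℂˣ) → G → ℂ} (E : EtaArr W₁ W₂ η) :
    EtaArr W₂ W₁ (fun ψ φ => η φ ψ) where
  selfNorm := isSelfNormalizingCyclic_swap E.selfNorm
  odd := sup_comm W₁ W₂ ▸ E.odd
  prime₁ := E.prime₂
  prime₂ := E.prime₁
  signed ψ φ := E.signed φ ψ
  orth ψ φ ψ' φ' hne := E.orth φ ψ φ' ψ' fun e => hne (by
    simp only [Prod.mk.injEq] at e ⊢
    exact ⟨e.2, e.1⟩)
  one := E.one
  eq_on ψ φ b a hb ha := by
    have hc : (b : G) * a = (a : G) * b := (E.selfNorm.2.2.2.1 a a.2 b b.2).symm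
    show η φ ψ ((b : G) * a) = _
    rw [hc, E.eq_on φ ψ a b ha hb, mul_comm]
  off ψ φ g hg := by
    show η φ ψ g = η 1 ψ g + η φ 1 g - 1
    rw [E.off φ ψ g (by rwa [offSet_swap] at hg)]
    ring
  additive θ hθ hv ψ φ := by
    show classInner θ (η φ ψ) = classInner θ (η 1 ψ) + classInner θ (η φ 1) - classInner θ (η 1 1)
    rw [E.additive θ hθ (by rwa [offSet_swap] at hv) φ ψ]
    ring
  galois σ ψ φ g := E.galois σ φ ψ g

/-- Existence of the array. -/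
theorem exists_etaArr [Fintype G] (W₁ W₂ : Subgroup G) (hW : IsSelfNormalizingCyclic W₁ W₂)
    (hodd : Odd (Nat.card ↥(W₁ ⊔ W₂))) (hq : (Nat.card W₁).Prime) (hp : (Nat.card W₂).Prime) :
    ∃ η, EtaArr W₁ W₂ η := by
  classical
  obtain ⟨χ, hχ⟩ := exists_family hW hodd
  obtain ⟨hW1, hW2, hdisj, hcomm, hcyc, hnorm⟩ := id hW
  set π₁ := pr1 W₁ W₂ hdisj hcomm
  set π₂ := pr2 W₁ W₂ hdisj hcomm
  let w : (↥W₁ →* ℂˣ) → (↥W₂ →* ℂˣ) → (↥(W₁ ⊔ W₂) →* ℂˣ) := fun φ ψ => φ.comp π₁ * ψ.comp π₂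
  have hw_left : ∀ φ ψ (a : W₁), w φ ψ ⟨a, Subgroup.mem_sup_left a.2⟩ = φ a := by
    intro φ ψ a
    have e2 : π₂ ⟨a, Subgroup.mem_sup_left a.2⟩ = 1 :=
      (pr2_eq_one_iff W₁ W₂ hdisj hcomm _).2 a.2
    simp [w, π₁, e2, pr1_of_mem W₁ W₂ hdisj hcomm a]
  have hw_right : ∀ φ ψ (b : W₂), w φ ψ ⟨b, Subgroup.mem_sup_right b.2⟩ = ψ b := by
    intro φ ψ b
    have e1 : π₁ ⟨b, Subgroup.mem_sup_right b.2⟩ = 1 :=
      (pr1_eq_one_iff W₁ W₂ hdisj hcomm _).2 b.2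
    simp [w, π₂, e1, pr2_of_mem W₁ W₂ hdisj hcomm b]
  have hw_inj : ∀ φ ψ φ' ψ', w φ ψ = w φ' ψ' → (φ, ψ) = (φ', ψ') := by
    intro φ ψ φ' ψ' e
    refine Prod.ext (MonoidHom.ext fun a => ?_) (MonoidHom.ext fun b => ?_)
    · exact (hw_left φ ψ a).symm.trans (e ▸ hw_left φ' ψ' a)
    · exact (hw_right φ ψ b).symm.trans (e ▸ hw_right φ' ψ' b)
  have hw_mul : ∀ φ ψ, w φ 1 * w 1 ψ = w φ ψ := fun φ ψ => by
    refine MonoidHom.ext fun x => ?_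
    simp [w]
  have hwD1 : ∀ φ, w φ 1 ∈ D1 W₁ W₂ := fun φ x hx => by
    have e1 : π₁ x = 1 := (pr1_eq_one_iff W₁ W₂ hdisj hcomm x).2 hx
    simp [w, e1]
  have hwD2 : ∀ ψ, w 1 ψ ∈ D2 W₁ W₂ := fun ψ x hx => by
    have e1 : π₂ x = 1 := (pr2_eq_one_iff W₁ W₂ hdisj hcomm x).2 hx
    simp [w, e1]
  have hw1 : w 1 1 = 1 := MonoidHom.ext fun x => by simp [w]
  refine ⟨fun φ ψ => χ (w φ ψ), ⟨hW, hodd, hq, hp, fun φ ψ => hχ.irr_or_neg _, ?_, ?_, ?_, ?_, ?_, ?_⟩⟩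
  · intro φ ψ φ' ψ' hne
    rw [hχ.orthonormal, if_neg fun e => hne (hw_inj _ _ _ _ e)]
  · show χ (w 1 1) = _
    rw [hw1, hχ.map_one]
  · intro φ ψ a b ha hb
    have hoff := mem_offSet.1 (mem_offSet_mul hW ha hb)
    show χ (w φ ψ) ((a : G) * b) = _
    rw [hχ.eq_on (w φ ψ) ⟨(a : G) * b, hoff.1⟩ hoff.2.1 hoff.2.2]
    rw [show (⟨(a : G) * b, hoff.1⟩ : ↥(W₁ ⊔ W₂)) =
      ⟨a, Subgroup.mem_sup_left a.2⟩ * ⟨b, Subgroup.mem_sup_right b.2⟩ from rfl, map_mul,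
      hw_left, hw_right, Units.val_mul]
  · intro φ ψ g hg
    show χ (w φ ψ) g = χ (w φ 1) g + χ (w 1 ψ) g - 1
    by_cases hφ : φ = 1
    · subst hφ
      rw [hw1, hχ.map_one]; ring
    by_cases hψ : ψ = 1
    · subst hψ
      rw [hw1, hχ.map_one]; ring
    have h1 : w φ 1 ≠ 1 := fun e => hφ (Prod.ext_iff.1 (hw_inj _ _ _ _ (e.trans hw1.symm))).1
    have h2 : w 1 ψ ≠ 1 := fun e => hψ (Prod.ext_iff.1 (hw_inj _ _ _ _ (e.trans hw1.symm))).2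
    have hi := congrFun (hχ.induced_eq (w φ 1) (w 1 ψ) h1 h2 (hwD1 φ) (hwD2 ψ)) g
    simp only [hw_mul] at hi
    have hz : indFun (W₁ ⊔ W₂) (fun v => 1 - (w φ 1 v : ℂ) - (w 1 ψ v : ℂ) +
        (w φ 1 v : ℂ) * (w 1 ψ v : ℂ)) g = 0 := by
      rw [CharInd.indFun_apply, Finset.sum_eq_zero, mul_zero]
      intro x _
      by_cases hm : x⁻¹ * g * x ∈ W₁ ⊔ W₂
      · rw [CharInd.extendByZero_mem _ hm]
        have hb := beta_vanish W₁ W₂ (hwD1 φ) (hwD2 ψ) ⟨_, hm⟩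
        have hor : x⁻¹ * g * x ∈ W₁ ∨ x⁻¹ * g * x ∈ W₂ := by
          by_contra hne
          exact hg x (mem_offSet.2 ⟨hm, fun h => hne (Or.inl h), fun h => hne (Or.inr h)⟩)
        exact hb hor
      · exact CharInd.extendByZero_notMem _ hm
    rw [hz] at hi
    linear_combination -hi
  · intro θ hθ hv φ ψ
    show classInner θ (χ (w φ ψ)) =
      classInner θ (χ (w φ 1)) + classInner θ (χ (w 1 ψ)) - classInner θ (χ (w 1 1))
    rw [← hw_mul φ ψ, hw1]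
    exact coeff_additive hχ hθ (fun v a b => hv _ (mem_offSet.2 ⟨v.2, a, b⟩)) (hwD1 φ) (hwD2 ψ)
  · intro σ φ ψ g
    show σ (χ (w φ ψ) g) = χ (w (mapCh σ φ) (mapCh σ ψ)) g
    have key : (fun x => σ (χ (w φ ψ) x)) = χ (w (mapCh σ φ) (mapCh σ ψ)) := by
      refine family_unique hW hodd hχ ?_ _ fun x a b => ?_
      · rcases hχ.irr_or_neg (w φ ψ) with h | h
        · exact Or.inl (isIrrCharacter_map σ h)
        · refine Or.inr ?_
          have e := isIrrCharacter_map σ h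
          simp only [Pi.neg_apply, map_neg] at e
          exact e
      · show σ (χ (w φ ψ) x) = _
        rw [hχ.eq_on _ x a b]
        simp [w]
    exact congrFun key g

variable [Fintype G] {W₁ W₂ : Subgroup G} {η : (↥W₁ →* ℂˣ) → (↥W₂ →* ℂˣ) → G → ℂ}

theorem EtaArr.gen (E : EtaArr W₁ W₂ η) (φ : ↥W₁ →* ℂˣ) (ψ : ↥W₂ →* ℂˣ) :
    IsGeneralizedCharacter G (η φ ψ) := (E.signed φ ψ).isGeneralizedCharacter

theorem EtaArr.classFun (E : EtaArr W₁ W₂ η) (φ : ↥W₁ →* ℂˣ) (ψ : ↥W₂ →* ℂˣ) :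
    IsClassFunction G (η φ ψ) :=
  CharCore.IsGeneralizedCharacter.isClassFunction (E.gen φ ψ)

theorem EtaArr.norm_one (E : EtaArr W₁ W₂ η) (φ : ↥W₁ →* ℂˣ) (ψ : ↥W₂ →* ℂˣ) :
    classInner (η φ ψ) (η φ ψ) = 1 := signed_inner_self (E.signed φ ψ)

/-- In a dual of prime order every non-trivial character is carried to every other one. -/
theorem exists_pow_eq {A : Type*} [Group A] [Finite A] (hA : (Nat.card A).Prime)
    {ψ ψ' : A →* ℂˣ} (hψ : ψ ≠ 1) (hψ' : ψ' ≠ 1) :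
    ∃ k : ℕ, k.Coprime (Nat.card A) ∧ ∀ a : A, (ψ' a : ℂ) = (ψ a : ℂ) ^ k := by
  haveI := Fact.mk hA
  obtain ⟨a, ha⟩ := (isCyclic_of_prime_card (α := A) rfl).exists_generator
  have hpow : ∀ φ : A →* ℂˣ, ((φ a : ℂˣ) : ℂ) ^ Nat.card A = 1 := fun φ => by
    rw [← Units.val_pow_eq_pow_val, ← map_pow, pow_card_eq_one', map_one, Units.val_one]
  have hne : ∀ φ : A →* ℂˣ, φ ≠ 1 → ((φ a : ℂˣ) : ℂ) ≠ 1 := fun φ hφ e => hφ (MonoidHom.ext fun x => by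
    obtain ⟨i, hi⟩ := Subgroup.mem_zpowers_iff.1 (ha x)
    rw [← hi, map_zpow, MonoidHom.one_apply, Units.ext (show ((φ a : ℂˣ) : ℂ) = ((1 : ℂˣ) : ℂ) by
      simpa using e), one_zpow])
  have hprim : IsPrimitiveRoot ((ψ a : ℂˣ) : ℂ) (Nat.card A) := by
    refine IsPrimitiveRoot.iff_orderOf.2 ?_
    exact orderOf_eq_prime (hpow ψ) (hne ψ hψ)
  haveI : NeZero (Nat.card A) := ⟨hA.ne_zero⟩
  obtain ⟨k, hk, e⟩ := hprim.eq_pow_of_pow_eq_one (hpow ψ')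
  refine ⟨k, Nat.coprime_comm.1 (hA.coprime_iff_not_dvd.2 fun hd => ?_), fun x => ?_⟩
  · have : k = 0 := Nat.eq_zero_of_dvd_of_lt hd hk
    rw [this, pow_zero] at e
    exact hne ψ' hψ' e.symm
  · obtain ⟨i, hi⟩ := (mem_powers_iff_mem_zpowers (x := a)).2 (ha x)
    rw [← hi, map_pow, map_pow, Units.val_pow_eq_pow_val, Units.val_pow_eq_pow_val, ← e, ← pow_mul,
      ← pow_mul, mul_comm]

/-- An endomorphism of `ℂ` moving one non-trivial character to another and fixing prescribed roots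
of unity of coprime order. -/
theorem exists_ringHom_move {A : Type*} [Group A] [Finite A] (hA : (Nat.card A).Prime)
    {ψ ψ' : A →* ℂˣ} (hψ : ψ ≠ 1) (hψ' : ψ' ≠ 1) {n : ℕ} (hn : n ≠ 0)
    (hcop : n.Coprime (Nat.card A)) :
    ∃ σ : ℂ →+* ℂ, mapCh σ ψ = ψ' ∧ ∀ μ : ℂ, μ ^ n = 1 → σ μ = μ := by
  obtain ⟨k, hk, hkψ⟩ := exists_pow_eq hA hψ hψ'
  obtain ⟨c, hc1, hc2⟩ := Nat.chineseRemainder hcop 1 k
  have hpw : ∀ (z : ℂ) (m i j : ℕ), z ^ m = 1 → i ≡ j [MOD m] → z ^ i = z ^ j := fun z m i j hz hij => by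
    rw [pow_eq_pow_mod i hz, pow_eq_pow_mod j hz, hij]
  obtain ⟨σ, hσ⟩ := CharClifford.exists_ringHom_pow (mul_ne_zero hn hA.ne_zero)
    (m := c) (Nat.Coprime.mul_right (by rw [Nat.coprime_iff_gcd_eq_one, hc1.gcd_eq, Nat.gcd_one_left])
      (by rw [Nat.coprime_iff_gcd_eq_one, hc2.gcd_eq]; exact hk))
  refine ⟨σ, MonoidHom.ext fun a => Units.ext ?_, fun μ hμ => ?_⟩
  · have h1 : ((ψ a : ℂˣ) : ℂ) ^ Nat.card A = 1 := by
      rw [← Units.val_pow_eq_pow_val, ← map_pow, pow_card_eq_one', map_one, Units.val_one]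
    rw [mapCh_apply, hσ _ (by rw [mul_comm, pow_mul, h1, one_pow]), hkψ a]
    exact hpw _ _ _ _ h1 hc2
  · rw [hσ μ (by rw [pow_mul, hμ, one_pow]), hpw μ n c 1 hμ hc1, pow_one]

/-- An endomorphism fixing the roots of unity of order `|g|` fixes virtual characters at `g`. -/
theorem map_gen_eq_self {f : G → ℂ} (hf : IsGeneralizedCharacter G f) {g : G} {σ : ℂ →+* ℂ}
    (hσ : ∀ μ : ℂ, μ ^ orderOf g = 1 → σ μ = μ) : σ (f g) = f g := by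
  obtain ⟨a, b, ⟨n, ρ, rfl⟩, ⟨m, τ, rfl⟩, rfl⟩ := hf
  have key : ∀ {d : ℕ} (π : Representation ℂ G (Fin d → ℂ)), σ (π.character g) = π.character g := by
    intro d π
    rw [CharClifford.map_character π σ g (orderOf_pos g).ne' (pow_orderOf_eq_one g) (m := 1)
      (fun μ hμ => by rw [pow_one]; exact hσ μ hμ), pow_one]
  simp only [Pi.sub_apply, map_sub, key]

/-- The value of `η 1 ψ` at an element of order prime to `|W₂|` does not depend on `ψ ≠ 1`. -/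
theorem EtaArr.indep_right (E : EtaArr W₁ W₂ η) {ψ ψ' : ↥W₂ →* ℂˣ} (hψ : ψ ≠ 1) (hψ' : ψ' ≠ 1)
    {g : G} (hg : (orderOf g).Coprime (Nat.card W₂)) : η 1 ψ g = η 1 ψ' g := by
  obtain ⟨σ, hσψ, hσ⟩ := exists_ringHom_move E.prime₂ hψ hψ' (orderOf_pos g).ne' hg
  rw [← hσψ, ← mapCh_one (A := W₁) σ, ← E.galois, mapCh_one]
  exact (map_gen_eq_self (E.gen 1 ψ) hσ).symm

/-- The value of `η 1 ψ` at an element of order prime to `|W₂|` is an integer. -/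
theorem EtaArr.int_right (E : EtaArr W₁ W₂ η) (ψ : ↥W₂ →* ℂˣ) {g : G}
    (hg : (orderOf g).Coprime (Nat.card W₂)) : ∃ z : ℤ, η 1 ψ g = z := by
  by_cases hψ : ψ = 1
  · exact ⟨1, by rw [hψ, E.one]; simp⟩
  refine CharClifford.exists_int_of_fixed
    (CharClifford.isIntegral_of_isGeneralizedCharacter (E.gen 1 ψ) g) fun σ => ?_
  have hne : mapCh σ ψ ≠ 1 := fun e => hψ (MonoidHom.ext fun a => Units.ext (σ.injective (by
    have := congrArg (fun f : ↥W₂ →* ℂˣ => ((f a : ℂˣ) : ℂ)) e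
    simpa using this)))
  rw [E.galois, mapCh_one]
  exact E.indep_right hne hψ hg

/-- `η 1 ψ` agrees with `ψ` on `W₂` modulo `1 - ζ`, `ζ` of order `|W₁|`. -/
theorem EtaArr.congr_right (E : EtaArr W₁ W₂ η) (ψ : ↥W₂ →* ℂˣ) {b : W₂} (hb : b ≠ 1) {ζ : ℂ}
    (hζ : IsPrimitiveRoot ζ (Nat.card W₁)) :
    ∃ ω : ℂ, IsIntegral ℤ ω ∧ (ψ b : ℂ) - η 1 ψ b = (1 - ζ) * ω := by
  obtain ⟨a, ha⟩ : ∃ a : W₁, a ≠ 1 := by
    haveI : Nontrivial W₁ := Finite.one_lt_card_iff_nontrivial.1 E.prime₁.one_lt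
    exact exists_ne 1
  obtain ⟨ω, hω, e⟩ := isGeneralizedCharacter_mul_congr (E.gen 1 ψ) E.prime₁.ne_zero
    (x := (a : G)) (y := (b : G))
    (congrArg Subtype.val (pow_card_eq_one' (x := a)))
    (E.selfNorm.2.2.2.1 a a.2 b b.2) hζ
  refine ⟨ω, hω, ?_⟩
  rw [E.eq_on 1 ψ a b ha hb] at e
  simpa using e

end Cfsg.Agent.PF14
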