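import Cfsg.Agent.PF14.Glue
import Cfsg.Agent.PF7.Kernel
import Cfsg.Agent.FT.Global

/-!
# The maximal subgroups of Type I as coherent Frobenius kernels (Peterfalvi (7), (14))
-/

set_option autoImplicit false

namespace Cfsg.Agent.PF14

open Cfsg Subgroup

universe u

variable {G : Type u} [Group G] [Fintype G] (hG : IsMinSimpleOddOrder G) (h : Earlier G)
include hG h

omit h in
theorem sigmaCore_of_typeI {L : Subgroup G} (hL : IsCoatom L) (hI : IsOfTypeI L) :
    sigmaCore L = fittingHallOf L :=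
  (BGSummary.oneData hG hL (PF8.kappa_of_typeI hG L hL hI)).core

theorem Earlier.typeA_eq {L : Subgroup G} (hL : IsCoatom L) (hI : IsOfTypeI L) :
    typeA L = (fittingHallOf L : Set G) \ {1} :=
  PFTypeOne.typeA_eq hI (h.frobenius hG hL hI)

theorem Earlier.kernelData {L : Subgroup G} [Fintype L] (hL : IsCoatom L) (hI : IsOfTypeI L) :
    ∃ τ₁, PF7.KernelData (typeA L) L (supportR L) (fittingHall L) τ₁ := by
  have hfr := h.frobenius hG hL hI
  have f := h.typeIFacts hG hL hI
  obtain ⟨-, τ₁, hiso, hag⟩ := f.coherent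
  obtain ⟨-, -, hne, htop, -⟩ := hI.1
  have hmem : ∀ x : L, (x : G) ∈ fittingHallOf L ↔ x ∈ fittingHall L := fun x =>
    mem_map_iff_mem (Subgroup.subtype_injective L)
  refine ⟨τ₁, inferInstance, hne, htop, hG.1.of_dvd_nat (card_subgroup_dvd_card L),
    fun n hn hn1 x hx => (hmem x).mp (hfr n ((hmem n).mpr hn) (fun e => hn1 (Subtype.ext e))
      ⟨x.2, mem_centralizer_singleton_iff.mpr
        (congrArg Subtype.val (mem_centralizer_singleton_iff.mp hx))⟩),
    f.dade, fun x => ?_, hiso, hag⟩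
  rw [h.typeA_eq hG hL hI]
  exact and_congr (hmem x) ⟨fun e e1 => e (by rw [e1]; rfl), fun e e1 => e (Subtype.ext e1)⟩

theorem Earlier.dadeSupp_eq {L : Subgroup G} (hL : IsCoatom L) (hI : IsOfTypeI L) :
    Coherence.dadeSupp (typeA L) (supportR L) = FT.tilde L := by
  rw [h.typeA_eq hG hL hI, FT.tilde, sigmaCore_of_typeI hG hL hI]
  ext g
  constructor
  · rintro ⟨a, ha, u, hu, x, he⟩
    exact ⟨a, ha, u, hu, x⁻¹, by rw [← he]; group⟩
  · rintro ⟨a, ha, r, hr, y, rfl⟩
    exact ⟨a, ha, r, hr, y⁻¹, by group⟩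

/-- The supports of non-conjugate maximal subgroups of Type I are disjoint. -/
theorem Earlier.dadeSupp_disjoint {L M : Subgroup G} (hL : IsCoatom L) (hI : IsOfTypeI L)
    (hM : IsCoatom M) (hJ : IsOfTypeI M)
    (hne : ∀ g : G, M ≠ L.map (MulAut.conj g).toMonoidHom) :
    Disjoint (Coherence.dadeSupp (typeA L) (supportR L))
      (Coherence.dadeSupp (typeA M) (supportR M)) := by
  rw [h.dadeSupp_eq hG hL hI, h.dadeSupp_eq hG hM hJ]
  exact FT.tilde_disjoint hG hL hM hne

end Cfsg.Agent.PF14
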