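import Cfsg.Agent.PF14.Side
import Cfsg.Agent.CharDeep.FpfCyclic
import Cfsg.Agent.PF14.Coeff
import Mathlib.GroupTheory.Nilpotent

/-!
The action of one side on the kernel and on its characters: the complement is cyclic, its order
divides `(p ^ q - 1) / (p - 1)` or `p - 1`, and the stable sets of non-trivial characters are large.
-/

set_option autoImplicit false
set_option linter.unusedVariables false
set_option linter.unusedSectionVars false

namespace Cfsg.Agent.PF14

open Cfsg Subgroup

variable {G : Type*} [Group G] [Finite G] {S P U W₁ W₂ : Subgroup G}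

/-- Conjugation by an element of `S` on `P`. -/
noncomputable def Side.cP (D : Side S P U W₁ W₂) (s : S) : P ≃* P where
  toFun x := ⟨(s : G) * x * (s : G)⁻¹, D.conj_mem s.2 x.2⟩
  invFun x := ⟨(s : G)⁻¹ * x * (s : G), by
    simpa using D.conj_mem (S.inv_mem s.2) x.2⟩
  left_inv x := Subtype.ext (by simp [mul_assoc])
  right_inv x := Subtype.ext (by simp [mul_assoc])
  map_mul' x y := Subtype.ext (by simp [mul_assoc])

@[simp] theorem Side.cP_apply (D : Side S P U W₁ W₂) (s : S) (x : P) :
    ((D.cP s x : P) : G) = (s : G) * x * (s : G)⁻¹ := rfl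

theorem Side.cP_mul (D : Side S P U W₁ W₂) (s t : S) (x : P) :
    D.cP (s * t) x = D.cP s (D.cP t x) := Subtype.ext (by simp [mul_assoc])

theorem Side.U_isCyclic (D : Side S P U W₁ W₂) : IsCyclic U := by
  letI : MulDistribMulAction U P :=
    { smul := fun u x => D.cP ⟨u, D.U_le u.2⟩ x
      one_smul := fun x => Subtype.ext (by show (1 : G) * x * (1 : G)⁻¹ = x; simp)
      mul_smul := fun a b x => D.cP_mul ⟨a, D.U_le a.2⟩ ⟨b, D.U_le b.2⟩ x
      smul_mul := fun a x y => map_mul (D.cP ⟨a, D.U_le a.2⟩) x y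
      smul_one := fun a => map_one (D.cP ⟨a, D.U_le a.2⟩) }
  haveI : Nontrivial P := by
    refine Finite.one_lt_card_iff_nontrivial.1 ?_
    rw [D.card_P]
    exact Nat.one_lt_pow D.prime₁.ne_zero D.prime₂.one_lt
  haveI : IsZGroup U := CharDeep.Zass.isZGroup_of_fpf (V := U) (K := P)
    (D.odd.of_dvd_nat (card_subgroup_dvd_card U))
    (by
      rw [D.card_P]
      exact Nat.Coprime.pow_right _ (Nat.coprime_comm.1 (D.prime₂.coprime_iff_not_dvd.2 D.not_dvd_U)))
    fun v hv x hx => by
      by_contra hx1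
      have h : (v : G) * x * (v : G)⁻¹ = x := congrArg Subtype.val hx
      exact hx1 (Subtype.ext (D.fpf v v.2 (fun e => hv (Subtype.ext e)) x x.2
        (mul_inv_eq_iff_eq_mul.1 h)))
  letI : CommGroup U :=
    { (inferInstance : Group U) with
      mul_comm := fun a b => Subtype.ext (D.U_comm a a.2 b b.2) }
  infer_instance

/-- Independence of eigen-elements with distinct exponents. -/
theorem prod_eigen {M : Type*} [CommGroup M] {p : ℕ} (hp : ∀ m : M, m ^ p = 1) (hpp : p.Prime)
    (T : M →* M) {ι : Type*} [DecidableEq ι] (s : Finset ι) (a : ι → ℕ) (z : ι → M)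
    (hz : ∀ i ∈ s, T (z i) = z i ^ a i)
    (ha : ∀ i ∈ s, ∀ j ∈ s, a i ≡ a j [MOD p] → i = j)
    (h : ∏ i ∈ s, z i = 1) : ∀ i ∈ s, z i = 1 := by
  induction s using Finset.induction_on generalizing z with
  | empty => simp
  | insert i₀ s hi₀ ih =>
    have h1 : ∏ i ∈ s, z i ^ ((a i : ℤ) - a i₀) = 1 := by
      have hT : ∏ i ∈ insert i₀ s, z i ^ a i = 1 := by
        rw [← map_one T, ← h, map_prod]
        exact Finset.prod_congr rfl fun i hi => (hz i hi).symm
      rw [Finset.prod_insert hi₀] at hT h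
      simp only [zpow_sub, zpow_natCast, Finset.prod_mul_distrib, Finset.prod_inv_distrib,
        Finset.prod_pow]
      rw [eq_inv_of_mul_eq_one_right h, eq_inv_of_mul_eq_one_right hT, inv_pow, inv_inv,
        inv_mul_cancel]
    have h2 := ih (fun i => z i ^ ((a i : ℤ) - a i₀))
      (fun i hi => by
        rw [map_zpow, hz i (Finset.mem_insert_of_mem hi), ← zpow_natCast, ← zpow_natCast,
          ← zpow_mul, ← zpow_mul, mul_comm])
      (fun i hi j hj => ha i (Finset.mem_insert_of_mem hi) j (Finset.mem_insert_of_mem hj)) h1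
    have hrest : ∀ i ∈ s, z i = 1 := by
      intro i hi
      by_contra hne
      haveI := Fact.mk hpp
      have ho : orderOf (z i) = p := orderOf_eq_prime (hp _) hne
      have hd := orderOf_dvd_iff_zpow_eq_one.2 (h2 i hi)
      rw [ho] at hd
      exact hi₀ (ha i (Finset.mem_insert_of_mem hi) i₀ (Finset.mem_insert_self _ _)
        ((Nat.modEq_iff_dvd.2 hd).symm) ▸ hi)
    intro i hi
    rcases Finset.mem_insert.1 hi with e | hi
    · subst e
      rw [Finset.prod_insert hi₀, Finset.prod_eq_one hrest, mul_one] at h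
      exact h
    · exact hrest i hi

/-- If a prime of `u` divides `p - 1` then `u` divides `p - 1`. -/
theorem Side.U_dvd_of_prime (D : Side S P U W₁ W₂) {r : ℕ} (hr : r.Prime) (hru : r ∣ Nat.card U)
    (hrp : r ∣ Nat.card W₂ - 1) : Nat.card U ∣ Nat.card W₂ - 1 := by
  classical
  set p := Nat.card W₂ with hpdef
  set q := Nat.card W₁ with hqdef
  haveI := Fact.mk hr
  haveI := Fact.mk D.prime₂
  have hcyc := D.U_isCyclic
  obtain ⟨x, hx⟩ := exists_prime_orderOf_dvd_card' (G := U) r hru
  have hxG : orderOf (x : G) = r := by rw [Subgroup.orderOf_coe, hx]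
  -- `x` fixes a subgroup of order `p`
  let Line := {y : P // y ≠ 1}
  have hrq : r ≠ q := fun e => by
    have := D.card_U_mod
    rw [← hqdef, ← e, Nat.mod_eq_zero_of_dvd hru] at this
    exact absurd this zero_ne_one
  have hp1 : p ≡ 1 [MOD r] := ((Nat.modEq_iff_dvd' D.prime₂.one_le).2 hrp).symm
  obtain ⟨y, hy1, a, hya⟩ : ∃ y : P, y ≠ 1 ∧ ∃ a : ℕ, D.cP ⟨x, D.U_le x.2⟩ y = y ^ a := by
    let X := zpowers (x : U)
    let Lines := {Y : Subgroup P // Nat.card Y = p}
    letI : MulAction U Lines :=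
      { smul := fun t Y => ⟨Y.1.map (D.cP ⟨t, D.U_le t.2⟩).toMonoidHom, by
          rw [Subgroup.card_map_of_injective (MulEquiv.injective _)]; exact Y.2⟩
        one_smul := fun Y => Subtype.ext (by
          show Y.1.map _ = Y.1
          ext z
          simp only [Subgroup.mem_map]
          constructor
          · rintro ⟨z', hz', rfl⟩
            convert hz' using 1
            exact Subtype.ext (by simp)
          · exact fun hz => ⟨z, hz, Subtype.ext (by simp)⟩)
        mul_smul := fun t t' Y => Subtype.ext (by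
          show Y.1.map _ = (Y.1.map _).map _
          rw [Subgroup.map_map]
          congr 1
          ext z
          simp [mul_assoc]) }
    have hX : IsPGroup r X := IsPGroup.of_card (n := 1) (by rw [Nat.card_zpowers, hx, pow_one])
    have hcount : Nat.card Lines * (p - 1) = p ^ q - 1 := by
      have e : Line ≃ Σ Y : Lines, {y : Y.1 // y ≠ 1} := by
        refine
          { toFun := fun y => ⟨⟨zpowers y.1, ?_⟩, ⟨⟨y.1, mem_zpowers _⟩, fun h => y.2 (congrArg Subtype.val h)⟩⟩
            invFun := fun z => ⟨z.2.1.1, fun h => z.2.2 (Subtype.ext h)⟩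
            left_inv := fun y => rfl
            right_inv := fun z => ?_ }
        · rw [Nat.card_zpowers]
          exact orderOf_eq_prime (Subtype.ext (D.P_exp y.1 y.1.2)) y.2
        · obtain ⟨⟨Y, hY⟩, ⟨⟨y, hyY⟩, hy⟩⟩ := z
          have hYeq : zpowers y = Y := by
            refine Subgroup.eq_of_le_of_card_ge ((zpowers_le).2 hyY) ?_
            rw [hY, Nat.card_zpowers,
              orderOf_eq_prime (Subtype.ext (D.P_exp y y.2)) fun h => hy (Subtype.ext h)]
          subst hYeq
          rfl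
      haveI : Fintype Lines := Fintype.ofFinite _
      have hne : ∀ (H : Type _) [Group H] [Finite H], Nat.card {y : H // y ≠ 1} = Nat.card H - 1 := by
        intro H _ _
        haveI := Fintype.ofFinite H
        rw [Nat.card_eq_fintype_card, Fintype.card_subtype_compl, Fintype.card_subtype_eq,
          Nat.card_eq_fintype_card]
      have := Nat.card_congr e
      rw [hne P, D.card_P, Nat.card_sigma, Finset.sum_congr rfl fun Y _ => (hne Y.1).trans
        (by rw [Y.2]), Finset.sum_const, Finset.card_univ, smul_eq_mul,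
        ← Nat.card_eq_fintype_card] at this
      exact this.symm
    have hLq : Nat.card Lines ≡ q [MOD r] := by
      have hgeom := Nat.geomSum_eq D.prime₂.two_le q
      have hN : Nat.card Lines = ∑ k ∈ Finset.range q, p ^ k := by
        rw [hgeom, ← hcount, Nat.mul_div_cancel _ (by have := D.prime₂.two_le; omega)]
      rw [hN]
      have : ∀ k ∈ Finset.range q, p ^ k ≡ 1 [MOD r] := fun k _ => by simpa using hp1.pow k
      calc (∑ k ∈ Finset.range q, p ^ k) ≡ ∑ _k ∈ Finset.range q, 1 [MOD r] :=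
            Nat.ModEq.sum this
        _ = q := by simp
    haveI : Finite Lines := Subtype.finite
    have hfix := hX.card_modEq_card_fixedPoints Lines
    have hne : Nonempty (MulAction.fixedPoints X Lines) := by
      by_contra hemp
      rw [not_nonempty_iff] at hemp
      rw [Nat.card_of_isEmpty (α := MulAction.fixedPoints X Lines)] at hfix
      have : r ∣ q := (Nat.modEq_zero_iff_dvd).1 (hLq.symm.trans hfix)
      exact hrq ((Nat.prime_dvd_prime_iff_eq hr D.prime₁).1 this)
    obtain ⟨⟨Y, hY⟩, hYfix⟩ := hne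
    obtain ⟨y, hyY, hy1⟩ := (Subgroup.bot_or_exists_ne_one Y).resolve_left fun h => by
      rw [h, Subgroup.card_bot] at hY; exact D.prime₂.ne_one hY.symm
    have hYeq : zpowers y = Y := by
      refine Subgroup.eq_of_le_of_card_ge ((zpowers_le).2 hyY) ?_
      rw [hY, Nat.card_zpowers, orderOf_eq_prime (Subtype.ext (D.P_exp y y.2)) hy1]
    have h : Y.map (D.cP ⟨x, D.U_le x.2⟩).toMonoidHom = Y :=
      congrArg Subtype.val (hYfix ⟨x, mem_zpowers _⟩)
    have hm : D.cP ⟨x, D.U_le x.2⟩ y ∈ zpowers y := by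
      rw [hYeq, ← h]; exact ⟨y, hyY, rfl⟩
    obtain ⟨a, ha⟩ := (mem_powers_iff_mem_zpowers (x := y)).2 hm
    exact ⟨y, hy1, a, ha.symm⟩
  -- the eigen subgroup
  have hcomm : ∀ u v : P, u * v = v * u := fun u v => Subtype.ext (D.P_comm u u.2 v v.2)
  letI : CommGroup P := { (inferInstance : Group P) with mul_comm := hcomm }
  let T : P →* P := (D.cP ⟨x, D.U_le x.2⟩).toMonoidHom
  let E : Subgroup P :=
    { carrier := {z | T z = z ^ a}
      one_mem' := by simp
      mul_mem' := fun {u v} hu hv => by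
        simp only [Set.mem_setOf_eq] at hu hv ⊢; rw [map_mul, hu, hv, mul_pow]
      inv_mem' := fun {u} hu => by
        simp only [Set.mem_setOf_eq] at hu ⊢; rw [map_inv, hu, inv_pow] }
  have hyE : y ∈ E := hya
  -- `W₁` moves `x` to a power
  obtain ⟨w, hw⟩ : ∃ w : W₁, w ≠ 1 := by
    haveI : Nontrivial W₁ := Finite.one_lt_card_iff_nontrivial.1 D.prime₁.one_lt
    exact exists_ne 1
  have hwq : orderOf (w : G) = q := by
    haveI := Fact.mk D.prime₁
    rw [Subgroup.orderOf_coe]
    exact orderOf_eq_prime pow_card_eq_one' hw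
  have hconjU : ∀ i : ℕ, (w : G) ^ i * x * ((w : G) ^ i)⁻¹ ∈ U := fun i =>
    (Subgroup.mem_set_normalizer_iff.1 (pow_mem (D.U_normal w.2) i) _).1 x.2
  have hpow : ∀ i : ℕ, ∃ b : ℕ, (w : G) ^ i * x * ((w : G) ^ i)⁻¹ = (x : G) ^ b := by
    intro i
    have hm : (⟨_, hconjU i⟩ : U) ∈ zpowers x := by
      haveI : Fintype U := Fintype.ofFinite U
      have hle := IsCyclic.card_pow_eq_one_le (α := U) hr.pos
      have hsub : (Finset.univ.filter (fun z : U => z ∈ zpowers x)) ⊆
          Finset.univ.filter (fun z : U => z ^ r = 1) := fun z hz => by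
        obtain ⟨k, rfl⟩ := (mem_powers_iff_mem_zpowers (x := x)).2 (Finset.mem_filter.1 hz).2
        exact Finset.mem_filter.2 ⟨Finset.mem_univ _, by
          show (x ^ k) ^ r = 1
          rw [← pow_mul, mul_comm, pow_mul, ← hx, pow_orderOf_eq_one, one_pow]⟩
      have heq := Finset.eq_of_subset_of_card_le hsub (hle.trans (le_of_eq (by
        rw [← Fintype.card_subtype, ← Nat.card_eq_fintype_card]
        exact ((Nat.card_zpowers x).trans hx).symm)))
      have hin : (⟨_, hconjU i⟩ : U) ∈ Finset.univ.filter (fun z : U => z ^ r = 1) :=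
        Finset.mem_filter.2 ⟨Finset.mem_univ _, Subtype.ext (by
          show ((w : G) ^ i * x * ((w : G) ^ i)⁻¹) ^ r = 1
          rw [conj_pow, ← hxG, pow_orderOf_eq_one, mul_one, mul_inv_cancel])⟩
      rw [← heq] at hin
      exact (Finset.mem_filter.1 hin).2
    obtain ⟨b, hb⟩ := (mem_powers_iff_mem_zpowers (x := x)).2 hm
    exact ⟨b, by rw [← SubmonoidClass.coe_pow]; exact (congrArg Subtype.val hb).symm⟩
  choose b hb using hpow
  let e : ℕ → P ≃* P := fun i => D.cP ⟨((w : G) ^ i)⁻¹, S.inv_mem (pow_mem (D.W₁_le w.2) i)⟩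
  have hTpow : ∀ (n : ℕ) (z : P), z ∈ E → T^[n] z = z ^ (a ^ n) := by
    intro n z hz
    induction n with
    | zero => simp
    | succ n ih =>
      rw [Function.iterate_succ_apply', ih, map_pow, show T z = z ^ a from hz, ← pow_mul, pow_succ']
  have hTiter : ∀ (n : ℕ) (z : P), ((T^[n] z : P) : G) = (x : G) ^ n * z * ((x : G) ^ n)⁻¹ := by
    intro n z
    induction n with
    | zero => simp
    | succ n ih =>
      rw [Function.iterate_succ_apply', show ∀ v : P, ((T v : P) : G) = (x : G) * v * (x : G)⁻¹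
        from fun v => rfl, ih, pow_succ']
      group
  have hTe : ∀ (i : ℕ) (z : P), z ∈ E → T (e i z) = (e i z) ^ (a ^ b i) := by
    intro i z hz
    rw [← map_pow, ← hTpow (b i) z hz]
    refine Subtype.ext ?_
    show (x : G) * (((w : G) ^ i)⁻¹ * z * (((w : G) ^ i)⁻¹)⁻¹) * (x : G)⁻¹ =
      ((w : G) ^ i)⁻¹ * ((T^[b i] z : P) : G) * (((w : G) ^ i)⁻¹)⁻¹
    rw [hTiter, ← hb i]
    group
  have hord : ∀ i j : ℕ, i < q → j < q → a ^ b i ≡ a ^ b j [MOD p] → i = j := by
    intro i j hi hj hmod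
    by_contra hne
    have hy' : (y : P) ^ (a ^ b i) = y ^ (a ^ b j) := by
      refine pow_eq_pow_iff_modEq.2 ?_
      rwa [orderOf_eq_prime (Subtype.ext (D.P_exp y y.2)) hy1]
    rw [← hTpow _ y hyE, ← hTpow _ y hyE] at hy'
    have h2 : (x : G) ^ b i * y * ((x : G) ^ b i)⁻¹ = (x : G) ^ b j * y * ((x : G) ^ b j)⁻¹ := by
      rw [← hTiter, ← hTiter, hy']
    have h3 : ((x : G) ^ b j)⁻¹ * (x : G) ^ b i = 1 := by
      by_contra h3
      refine hy1 (Subtype.ext (D.fpf _ (U.mul_mem (U.inv_mem (pow_mem x.2 _)) (pow_mem x.2 _)) h3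
        y y.2 ?_))
      calc ((x : G) ^ b j)⁻¹ * (x : G) ^ b i * y
          = ((x : G) ^ b j)⁻¹ * ((x : G) ^ b i * y * ((x : G) ^ b i)⁻¹) * (x : G) ^ b i := by group
        _ = ((x : G) ^ b j)⁻¹ * ((x : G) ^ b j * y * ((x : G) ^ b j)⁻¹) * (x : G) ^ b i := by rw [h2]
        _ = (y : G) * (((x : G) ^ b j)⁻¹ * (x : G) ^ b i) := by group
    have h4 : (w : G) ^ i * x * ((w : G) ^ i)⁻¹ = (w : G) ^ j * x * ((w : G) ^ j)⁻¹ := by
      rw [hb, hb, ← inv_mul_eq_one.1 h3]
    set v := ((w : G) ^ j)⁻¹ * (w : G) ^ i with hv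
    have h5 : v * x = x * v := by
      rw [hv]
      calc ((w : G) ^ j)⁻¹ * (w : G) ^ i * x
          = ((w : G) ^ j)⁻¹ * ((w : G) ^ i * x * ((w : G) ^ i)⁻¹) * (w : G) ^ i := by group
        _ = ((w : G) ^ j)⁻¹ * ((w : G) ^ j * x * ((w : G) ^ j)⁻¹) * (w : G) ^ i := by rw [h4]
        _ = (x : G) * (((w : G) ^ j)⁻¹ * (w : G) ^ i) := by group
    have h6 : v ≠ 1 := fun h6 => by
      have := (inv_mul_eq_one.1 h6)
      rw [pow_eq_pow_iff_modEq, hwq] at this
      exact hne (Nat.ModEq.eq_of_lt_of_lt this hj hi).symm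
    have h7 := D.fpf₁ v (W₁.mul_mem (W₁.inv_mem (pow_mem w.2 _)) (pow_mem w.2 _)) h6 x x.2 h5
    rw [h7, orderOf_one] at hxG
    exact hr.ne_one hxG.symm
  -- the translates of `E` are independent
  have hinj : Function.Injective fun f : Fin q → E => ∏ i : Fin q, e i (f i : P) := by
    intro f g hfg
    funext i
    have hprod : ∏ i : Fin q, e i ((f i * (g i)⁻¹ : E) : P) = 1 := by
      simp only [Subgroup.coe_mul, InvMemClass.coe_inv, map_mul, map_inv, Finset.prod_mul_distrib,
        Finset.prod_inv_distrib]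
      rw [show (∏ i : Fin q, e i (f i : P)) = ∏ i : Fin q, e i (g i : P) from hfg]
      exact mul_inv_cancel _
    have := prod_eigen (M := P) (p := p) (fun m => Subtype.ext (D.P_exp m m.2)) D.prime₂ T
      Finset.univ (fun i : Fin q => a ^ b i) (fun i => e i ((f i * (g i)⁻¹ : E) : P))
      (fun i _ => hTe i _ (f i * (g i)⁻¹).2)
      (fun i _ j _ h => Fin.ext (hord i j i.2 j.2 h)) hprod i (Finset.mem_univ _)
    rw [map_eq_one_iff _ (MulEquiv.injective _)] at this
    exact mul_inv_eq_one.1 (Subtype.ext this)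
  have hE : Nat.card E ≤ p := by
    have h1 := Nat.card_le_card_of_injective _ hinj
    rw [Nat.card_fun, Nat.card_fin, D.card_P] at h1
    exact le_of_pow_le_pow_left₀ D.prime₁.ne_zero (Nat.zero_le _) h1
  have hEy : E = zpowers y := (Subgroup.eq_of_le_of_card_ge ((zpowers_le).2 hyE) (by
    rw [Nat.card_zpowers, orderOf_eq_prime (Subtype.ext (D.P_exp y y.2)) hy1]; exact hE)).symm
  -- `U` acts on `⟨y⟩`
  have hEU : ∀ t : U, D.cP ⟨t, D.U_le t.2⟩ y ∈ E := by
    intro t
    show T (D.cP ⟨t, D.U_le t.2⟩ y) = D.cP ⟨t, D.U_le t.2⟩ y ^ a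
    rw [← map_pow, ← show T y = y ^ a from hyE]
    refine Subtype.ext ?_
    show (x : G) * ((t : G) * y * (t : G)⁻¹) * (x : G)⁻¹ = (t : G) * ((x : G) * y * (x : G)⁻¹) * (t : G)⁻¹
    have hc := D.U_comm x x.2 t t.2
    calc (x : G) * ((t : G) * y * (t : G)⁻¹) * (x : G)⁻¹
        = ((x : G) * t) * y * ((x : G) * t)⁻¹ := by group
      _ = ((t : G) * x) * y * ((t : G) * x)⁻¹ := by rw [hc]
      _ = _ := by group
  have hexp : ∀ t : U, ∃ c : ℕ, D.cP ⟨t, D.U_le t.2⟩ y = y ^ c := fun t => by
    obtain ⟨c, hc⟩ := (mem_powers_iff_mem_zpowers (x := y)).2 (hEy ▸ hEU t)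
    exact ⟨c, hc.symm⟩
  choose c hc using hexp
  have hy_ord : orderOf y = p := orderOf_eq_prime (Subtype.ext (D.P_exp y y.2)) hy1
  have hcmul : ∀ t t' : U, c (t * t') ≡ c t * c t' [MOD p] := fun t t' => by
    rw [← hy_ord, ← pow_eq_pow_iff_modEq, ← hc, mul_comm, pow_mul', ← hc t, ← map_pow, ← hc t']
    exact (congrArg _ rfl).trans (D.cP_mul ⟨t, D.U_le t.2⟩ ⟨t', D.U_le t'.2⟩ y)
  have hc1 : c 1 ≡ 1 [MOD p] := by
    rw [← hy_ord, ← pow_eq_pow_iff_modEq, ← hc, pow_one]
    exact Subtype.ext (by simp)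
  let χ : U →* (ZMod p)ˣ := MonoidHom.toHomUnits
    { toFun := fun t => (c t : ZMod p)
      map_one' := by
        have := (ZMod.natCast_eq_natCast_iff _ _ _).2 hc1
        simpa using this
      map_mul' := fun t t' => by
        rw [← Nat.cast_mul]
        exact (ZMod.natCast_eq_natCast_iff _ _ _).2 (hcmul t t') }
  have hχ : Function.Injective χ := by
    rw [injective_iff_map_eq_one]
    intro t ht
    by_contra hne
    have h1 : (c t : ZMod p) = ((1 : ℕ) : ZMod p) := by
      rw [Nat.cast_one]; exact congrArg Units.val ht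
    have h2 : y ^ c t = y := by
      conv_rhs => rw [← pow_one y]
      rw [pow_eq_pow_iff_modEq, hy_ord]
      exact (ZMod.natCast_eq_natCast_iff _ _ _).1 h1
    rw [← hc] at h2
    exact hy1 (Subtype.ext (D.fpf t t.2 (fun e => hne (Subtype.ext e)) y y.2
      (mul_inv_eq_iff_eq_mul.1 (congrArg Subtype.val h2))))
  have := Subgroup.card_dvd_of_injective χ hχ
  rwa [Nat.card_eq_fintype_card (α := (ZMod p)ˣ), ZMod.card_units] at this

/-- `u` divides `(p ^ q - 1) / (p - 1)` or `p - 1`. -/
theorem Side.card_U_cases (D : Side S P U W₁ W₂) :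
    Nat.card U * (Nat.card W₂ - 1) ∣ Nat.card W₂ ^ Nat.card W₁ - 1 ∨
      Nat.card U ∣ Nat.card W₂ - 1 := by
  by_cases h : (Nat.card U).Coprime (Nat.card W₂ - 1)
  · refine Or.inl (Nat.Coprime.mul_dvd_of_dvd_of_dvd h D.card_U_dvd ?_)
    simpa using Nat.sub_dvd_pow_sub_pow (Nat.card W₂) 1 (Nat.card W₁)
  · obtain ⟨r, hr, h1, h2⟩ := Nat.Prime.not_coprime_iff_dvd.1 h
    exact Or.inr (D.U_dvd_of_prime hr h1 h2)

/-- Conjugation moves no non-trivial character of `P` by a non-identity element of `U`. -/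
theorem Side.dual_free (D : Side S P U W₁ W₂) {l : P →* ℂˣ} (hl : l ≠ 1) {s : S}
    (hs : (s : G) ∈ U) (hs1 : (s : G) ≠ 1) : l.comp (D.cP s).toMonoidHom ≠ l := by
  intro h
  refine hl (MonoidHom.ext fun z => ?_)
  have hinj : Function.Injective fun x : P => D.cP s x * x⁻¹ := by
    intro a b hab
    have hc : ∀ u v : P, u * v = v * u := fun u v => Subtype.ext (D.P_comm u u.2 v v.2)
    simp only at hab
    have h2 : D.cP s (a * b⁻¹) = a * b⁻¹ := by
      rw [map_mul, map_inv]
      have h3 := eq_mul_of_mul_inv_eq hab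
      rw [h3, hc (D.cP s b * b⁻¹) a, mul_assoc, hc (D.cP s b) b⁻¹, mul_assoc,
        mul_inv_cancel, mul_one]
    refine mul_inv_eq_one.1 (Subtype.ext ?_)
    exact D.fpf s hs hs1 _ (a * b⁻¹).2 (mul_inv_eq_iff_eq_mul.1 (congrArg Subtype.val h2))
  obtain ⟨x, rfl⟩ := Finite.injective_iff_surjective.1 hinj z
  have := DFunLike.congr_fun h x
  simp only [MonoidHom.coe_comp, Function.comp_apply, MulEquiv.toMonoidHom_eq_coe,
    MonoidHom.coe_coe] at this
  simp [this]

/-- A set of characters of `P` stable under `U W₁` and under the powers prime to `p` has at least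
`q u` members besides the trivial one, as soon as `q < p`. -/
theorem Side.orbit_le (D : Side S P U W₁ W₂) (hqp : Nat.card W₁ < Nat.card W₂)
    (t : Finset (P →* ℂˣ)) {l : P →* ℂˣ} (hl : l ≠ 1) (hlt : l ∈ t)
    (hstable : ∀ m ∈ t, ∀ s : S, m.comp (D.cP s).toMonoidHom ∈ t)
    (hpow : ∀ m ∈ t, ∀ k : ℕ, ¬ Nat.card W₂ ∣ k → m ^ k ∈ t) :
    Nat.card W₁ * Nat.card U ≤ t.card := by
  classical
  haveI : Fintype U := Fintype.ofFinite U
  haveI : Fintype W₁ := Fintype.ofFinite W₁
  have hcc : ∀ (m : P →* ℂˣ) (s s' : S),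
      (m.comp (D.cP s).toMonoidHom).comp (D.cP s').toMonoidHom =
        m.comp (D.cP (s * s')).toMonoidHom :=
    fun m s s' => MonoidHom.ext fun z => by simp [D.cP_mul]
  have hone : ∀ m : P →* ℂˣ, m.comp (D.cP 1).toMonoidHom = m := fun m =>
    MonoidHom.ext fun z => by
      simp only [MonoidHom.coe_comp, Function.comp_apply, MulEquiv.toMonoidHom_eq_coe,
        MonoidHom.coe_coe]
      congr 1
      exact Subtype.ext (by simp)
  let inU : U → S := fun u => ⟨u, D.U_le u.2⟩
  let inW : W₁ → S := fun w => ⟨w, D.W₁_le w.2⟩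
  by_cases hA : ∃ v : U, ∀ w : W₁, (l.comp (D.cP (inU v)).toMonoidHom).comp (D.cP (inW w)).toMonoidHom =
      l.comp (D.cP (inU v)).toMonoidHom
  · obtain ⟨v, hv⟩ := hA
    set l₀ := l.comp (D.cP (inU v)).toMonoidHom with hl₀
    have hl₀1 : l₀ ≠ 1 := fun e => hl (MonoidHom.ext fun z => by
      have := DFunLike.congr_fun e ((D.cP (inU v)).symm z)
      simpa [hl₀] using this)
    have hl₀t : l₀ ∈ t := hstable l hlt _
    set p := Nat.card W₂ with hp
    let F : U × Fin (p - 1) → (P →* ℂˣ) := fun sk => (l₀.comp (D.cP (inU sk.1)).toMonoidHom) ^ ((sk.2 : ℕ) + 1)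
    have hnd : ∀ k : Fin (p - 1), ¬ p ∣ (k : ℕ) + 1 := fun k hd => by
      have := Nat.le_of_dvd (Nat.succ_pos _) hd
      have := k.2
      omega
    have hF : Function.Injective F := by
      rintro ⟨s, k⟩ ⟨s', k'⟩ h
      have hp0 := Fact.mk D.prime₂
      have hk0 : (((k : ℕ) + 1 : ℕ) : ZMod p) ≠ 0 := fun e => hnd k ((ZMod.natCast_eq_zero_iff _ _).1 e)
      obtain ⟨j, hj⟩ : ∃ j : ℕ, ((k : ℕ) + 1) * j ≡ 1 [MOD p] :=
        ⟨((((k : ℕ) + 1 : ℕ) : ZMod p)⁻¹).val, by
          rw [← ZMod.natCast_eq_natCast_iff, Nat.cast_mul, ZMod.natCast_zmod_val,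
            mul_inv_cancel₀ hk0, Nat.cast_one]⟩
      have hexp : ∀ (m : P →* ℂˣ) (z : P), (m z) ^ p = 1 := fun m z => by
        rw [← map_pow, show z ^ p = 1 from Subtype.ext (D.P_exp z z.2), map_one]
      set i := ((k' : ℕ) + 1) * j
      have h2 : ∀ z, l₀.comp (D.cP (inU s)).toMonoidHom z =
          (l₀.comp (D.cP (inU s')).toMonoidHom z) ^ i := fun z => by
        have := congrArg (fun u : ℂˣ => u ^ j) (DFunLike.congr_fun h z)
        simp only [F, MonoidHom.pow_apply, ← pow_mul] at this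
        rwa [pow_eq_pow_iff_modEq.2 (hj.of_dvd (orderOf_dvd_of_pow_eq_one (hexp _ z))), pow_one]
          at this
      -- `l₀ ∘ s = (l₀ ∘ s') ^ i`
      have h3 : l₀.comp (D.cP (inU s * (inU s')⁻¹)).toMonoidHom = l₀ ^ i := by
        refine MonoidHom.ext fun z => ?_
        have h4 := h2 (D.cP (inU s')⁻¹ z)
        simp only [MonoidHom.coe_comp, Function.comp_apply, MulEquiv.toMonoidHom_eq_coe,
          MonoidHom.coe_coe, MonoidHom.pow_apply, ← D.cP_mul, mul_inv_cancel] at h4 ⊢
        rw [h4]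
        congr 2
        exact Subtype.ext (by simp)
      have hd1 : inU s * (inU s')⁻¹ = 1 := by
        by_contra hne
        set d := inU s * (inU s')⁻¹ with hd
        have hdU : (d : G) ∈ U := U.mul_mem s.2 (U.inv_mem s'.2)
        haveI : Nontrivial W₁ := Finite.one_lt_card_iff_nontrivial.1 D.prime₁.one_lt
        obtain ⟨w, hw⟩ := exists_ne (1 : W₁)
        have h5 : (l₀.comp (D.cP d).toMonoidHom).comp (D.cP (inW w)).toMonoidHom =
            l₀.comp (D.cP d).toMonoidHom := by
          rw [h3]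
          refine MonoidHom.ext fun z => ?_
          simp only [MonoidHom.coe_comp, Function.comp_apply, MonoidHom.pow_apply]
          congr 1
          exact DFunLike.congr_fun (hv w) z
        rw [hcc] at h5
        have h6 : l₀.comp (D.cP ((inW w)⁻¹ * d * inW w)).toMonoidHom =
            l₀.comp (D.cP d).toMonoidHom := by
          rw [mul_assoc, ← hcc]
          have h7 : l₀.comp (D.cP (inW w)⁻¹).toMonoidHom = l₀ := by
            conv_lhs => rw [← hv w, hcc, mul_inv_cancel, hone]
          rw [h7, h5]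
        have h8 : l₀.comp (D.cP ((inW w)⁻¹ * d * inW w * d⁻¹)).toMonoidHom = l₀ := by
          rw [← hcc, h6, hcc, mul_inv_cancel, hone]
        have hmem : ((((inW w)⁻¹ * d * inW w * d⁻¹ : S)) : G) ∈ U := by
          push_cast
          refine U.mul_mem ?_ (U.inv_mem hdU)
          have := (Subgroup.mem_set_normalizer_iff.1 (D.U_normal (W₁.inv_mem w.2)) _).1 hdU
          simpa using this
        have h9 : ((((inW w)⁻¹ * d * inW w * d⁻¹ : S)) : G) = 1 := by
          by_contra h9
          exact D.dual_free hl₀1 hmem h9 h8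
        push_cast at h9
        refine hne (Subtype.ext (D.fpf₁ w w.2 (fun e => hw (Subtype.ext e)) _ hdU ?_))
        have h10 := mul_inv_eq_one.1 h9
        calc (w : G) * (d : G) = (w : G) * ((w : G)⁻¹ * d * w) := by rw [show ((w : G)⁻¹ * d * w) = (d : G) from h10]
          _ = (d : G) * w := by group
      have hs : s = s' := mul_inv_eq_one.1 (Subtype.ext (by simpa [inU] using congrArg Subtype.val hd1))
      subst hs
      have h11 : l₀ ^ ((k : ℕ) + 1) = l₀ ^ ((k' : ℕ) + 1) := by
        refine MonoidHom.ext fun z => ?_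
        have := DFunLike.congr_fun h ((D.cP (inU s)).symm z)
        simpa [F] using this
      obtain ⟨z, hz⟩ := DFunLike.ne_iff.1 hl₀1
      have h11 := DFunLike.congr_fun h11 z
      simp only [MonoidHom.pow_apply] at h11
      rw [pow_eq_pow_iff_modEq, orderOf_eq_prime (hexp l₀ z) hz] at h11
      have := Nat.ModEq.eq_of_lt_of_lt h11 (by have := k.2; omega) (by have := k'.2; omega)
      exact Prod.ext rfl (Fin.ext (by simpa using this))
    have h := Finset.card_le_card (s := Finset.univ.image F) (t := t) fun m hm => by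
      obtain ⟨sk, -, rfl⟩ := Finset.mem_image.1 hm
      exact hpow _ (hstable _ hl₀t _) _ (hnd _)
    rw [Finset.card_image_of_injective _ hF, Finset.card_univ, Fintype.card_prod, Fintype.card_fin,
      ← Nat.card_eq_fintype_card] at h
    refine le_trans ?_ h
    rw [mul_comm]
    exact Nat.mul_le_mul_left _ (by omega)
  · push Not at hA
    let F : U × W₁ → (P →* ℂˣ) := fun sw => l.comp (D.cP (inU sw.1 * inW sw.2)).toMonoidHom
    have hF : Function.Injective F := by
      rintro ⟨s, w⟩ ⟨s', w'⟩ h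
      have hw' : inW w * (inW w')⁻¹ = inW (w * w'⁻¹) := Subtype.ext rfl
      have h2 : l.comp (D.cP (inU s * inW (w * w'⁻¹) * (inU s')⁻¹)).toMonoidHom = l := by
        have := congrArg (fun m : P →* ℂˣ =>
          m.comp (D.cP ((inW w')⁻¹ * (inU s')⁻¹)).toMonoidHom) h
        simp only [F, hcc] at this
        rw [← hw']
        refine (congrArg (fun g => l.comp (D.cP g).toMonoidHom) ?_).trans
          (this.trans ((congrArg (fun g => l.comp (D.cP g).toMonoidHom) ?_).trans (hone l)))
        · group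
        · group
      set v := w * w'⁻¹ with hv
      have hmemU : (v : G) * (s' : G)⁻¹ * (v : G)⁻¹ ∈ U :=
        (Subgroup.mem_set_normalizer_iff.1 (D.U_normal v.2) _).1 (U.inv_mem s'.2)
      set t₀ : U := s * ⟨_, hmemU⟩ with ht₀
      have heq : inU s * inW v * (inU s')⁻¹ = inU t₀ * inW v := Subtype.ext (by
        simp [inU, inW, t₀, mul_assoc])
      rw [heq] at h2
      by_cases hv1 : v = 1
      · have hw : w = w' := mul_inv_eq_one.1 hv1
        subst hw
        have hst : inU t₀ = 1 := by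
          by_contra hne
          rw [show inW v = 1 from by rw [hv1]; rfl, mul_one] at h2
          exact D.dual_free hl t₀.2 (fun e => hne (Subtype.ext e)) h2
        have h4 : (s : G) * ((v : G) * (s' : G)⁻¹ * (v : G)⁻¹) = 1 := congrArg Subtype.val hst
        rw [hv1] at h4
        simp only [OneMemClass.coe_one, one_mul, inv_one, mul_one] at h4
        exact Prod.ext (Subtype.ext (mul_inv_eq_one.1 h4)) rfl
      · obtain ⟨r, hr, hrv⟩ := D.exists_conj_W₁ t₀.2 v.2 (fun e => hv1 (Subtype.ext e))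
        obtain ⟨w₂, hw₂⟩ := hA ⟨r, hr⟩
        refine absurd ?_ hw₂
        set r' : S := inU ⟨r, hr⟩
        have h5 : (l.comp (D.cP r').toMonoidHom).comp (D.cP (inW v)).toMonoidHom =
            l.comp (D.cP r').toMonoidHom := by
          rw [hcc]
          have e : r' * inW v = (inU t₀ * inW v) * r' := Subtype.ext (by
            show r * (v : G) = (t₀ : G) * v * r
            rw [hrv]; group)
          rw [e, ← hcc, h2]
        -- `v` generates `W₁`
        haveI := Fact.mk D.prime₁
        have hgen : w₂ ∈ zpowers v := by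
          rw [zpowers_eq_top_of_prime_card rfl hv1]; exact mem_top _
        obtain ⟨n, rfl⟩ := (mem_powers_iff_mem_zpowers (x := v)).2 hgen
        clear hgen hw₂
        induction n with
        | zero => rw [show inW (v ^ 0) = 1 from Subtype.ext (by simp [inW])]; exact hone _
        | succ n ih =>
          have e : inW (v ^ (n + 1)) = inW (v ^ n) * inW v := Subtype.ext (by simp [inW, pow_succ])
          rw [e, ← hcc, ih, h5]
    have h := Finset.card_le_card (s := Finset.univ.image F) (t := t) fun m hm => by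
      obtain ⟨sk, -, rfl⟩ := Finset.mem_image.1 hm
      exact hstable l hlt _
    rw [Finset.card_image_of_injective _ hF, Finset.card_univ, Fintype.card_prod,
      ← Nat.card_eq_fintype_card, ← Nat.card_eq_fintype_card] at h
    rwa [mul_comm]

end Cfsg.Agent.PF14
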