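import Cfsg.Agent.PF14.Glue
import Cfsg.Agent.PF14.GlueKernel
import Cfsg.Agent.PF14.Arith
import Cfsg.Agent.PF14.Bound
import Cfsg.Agent.PF14.Eta
import Cfsg.Agent.PF14.Orbit
import Cfsg.Agent.BGSummary.SupportPrimes

/-!
# The sides of a pair and small facts on the maximal subgroup containing `N(U)`
-/

set_option autoImplicit false

namespace Cfsg.Agent.PF14

open Cfsg Subgroup

universe u

section Hall

variable {G : Type u} [Group G] [Finite G]

theorem pow_natCard_of_mem {X : Subgroup G} {x : G} (hx : x ∈ X) : x ^ Nat.card X = 1 :=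
  congrArg Subtype.val (pow_card_eq_one' (x := (⟨x, hx⟩ : X)))

/-- A normal Hall subgroup contains every solution of `x ^ |X| = 1`. -/
theorem mem_hall_of_pow {X K : Subgroup G} (hX : X ≤ K) (hn : K ≤ normalizer (X : Set G))
    (hcop : (Nat.card X).Coprime (X.relIndex K)) {x : G} (hx : x ∈ K) (hp : x ^ Nat.card X = 1) :
    x ∈ X := by
  haveI : (X.subgroupOf K).Normal := (normal_subgroupOf_iff_le_normalizer hX).mpr hn
  have h1 : x ^ X.relIndex K ∈ X :=
    mem_subgroupOf.mp (Subgroup.pow_index_mem (X.subgroupOf K) (⟨x, hx⟩ : K))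
  obtain ⟨k, hk⟩ := exists_pow_eq_self_of_coprime
    (n := X.relIndex K) (x := x) (hcop.symm.coprime_dvd_right (orderOf_dvd_of_pow_eq_one hp))
  rw [← hk]
  exact pow_mem h1 k

/-- A Hall subgroup of a nilpotent group is normal. -/
theorem normal_of_hall {K : Type*} [Group K] [Finite K] [Group.IsNilpotent K] (X : Subgroup K)
    (hcop : (Nat.card X).Coprime X.index) : X.Normal := by
  rw [← Subgroup.normalizer_eq_top_iff]
  by_contra hne
  obtain ⟨g, hg, hgN⟩ := SetLike.exists_of_lt
    ((Group.normalizerCondition_of_isNilpotent (G := K)) (normalizer (X : Set K))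
      (lt_top_iff_ne_top.mpr hne))
  refine hgN ?_
  have key : ∀ a : K, a ∈ normalizer ((normalizer (X : Set K) : Subgroup K) : Set K) →
      ∀ x ∈ X, a * x * a⁻¹ ∈ X := by
    intro a ha x hx
    refine mem_hall_of_pow (Subgroup.le_normalizer) le_rfl
      (hcop.coprime_dvd_right (Subgroup.relIndex_dvd_index_of_le Subgroup.le_normalizer))
      ((mem_normalizer_iff.mp ha x).mp (Subgroup.le_normalizer hx)) ?_
    rw [conj_pow, pow_natCard_of_mem hx, mul_one, mul_inv_cancel]
  refine mem_normalizer_iff.mpr fun x => ⟨key g hg x, fun hx => ?_⟩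
  have := key g⁻¹ (inv_mem hg) _ hx
  simpa [mul_assoc] using this

/-- The normalizer of a nilpotent subgroup normalizes its Hall subgroups. -/
theorem normalizer_of_hall {H X : Subgroup G} [Group.IsNilpotent H] (hX : X ≤ H)
    (hcop : (Nat.card X).Coprime (X.relIndex H)) :
    normalizer (H : Set G) ≤ normalizer (X : Set G) := by
  haveI : (X.subgroupOf H).Normal := normal_of_hall _ (by
    rwa [Nat.card_congr (subgroupOfEquivOfLe hX).toEquiv])
  have hn : H ≤ normalizer (X : Set G) :=
    (normal_subgroupOf_iff_le_normalizer hX).mp inferInstance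
  have key : ∀ a ∈ normalizer (H : Set G), ∀ x ∈ X, a * x * a⁻¹ ∈ X := fun a ha x hx =>
    mem_hall_of_pow hX hn hcop ((mem_normalizer_iff.mp ha x).mp (hX hx))
      (by rw [conj_pow, pow_natCard_of_mem hx, mul_one, mul_inv_cancel])
  refine fun g hg => mem_normalizer_iff.mpr fun x => ⟨key g hg x, fun hx => ?_⟩
  have := key g⁻¹ (inv_mem hg) _ hx
  simpa [mul_assoc] using this

/-- The normalizer of a cyclic subgroup normalizes its subgroups. -/
theorem normalizer_of_cyclic {H X : Subgroup G} [IsCyclic H] (hX : X ≤ H) :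
    normalizer (H : Set G) ≤ normalizer (X : Set G) := by
  classical
  haveI := Fintype.ofFinite H
  have key : ∀ a ∈ normalizer (H : Set G), ∀ x ∈ X, a * x * a⁻¹ ∈ X := by
    intro a ha x hx
    by_contra hno
    let A : Finset H := Finset.univ.filter fun y : H => (y : G) ∈ X
    have hsub : insert (⟨a * x * a⁻¹, (mem_normalizer_iff.mp ha x).mp (hX hx)⟩ : H) A ⊆
        Finset.univ.filter fun y : H => y ^ Nat.card X = 1 := by
      intro y hy
      rw [Finset.mem_filter]
      refine ⟨Finset.mem_univ _, Subtype.ext ?_⟩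
      show (y : G) ^ Nat.card X = 1
      rcases Finset.mem_insert.1 hy with rfl | hy'
      · show (a * x * a⁻¹) ^ Nat.card X = 1
        rw [conj_pow, pow_natCard_of_mem hx, mul_one, mul_inv_cancel]
      · exact congrArg Subtype.val
          (pow_card_eq_one' (x := (⟨y, (Finset.mem_filter.1 hy').2⟩ : X)))
    have hA : A.card = Nat.card X := by
      rw [← Fintype.card_subtype, ← Nat.card_eq_fintype_card]
      exact Nat.card_congr
        ⟨fun y => ⟨(y.1 : G), y.2⟩, fun y => ⟨⟨y.1, hX y.2⟩, y.2⟩, fun _ => rfl, fun _ => rfl⟩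
    have hle := (Finset.card_le_card hsub).trans (IsCyclic.card_pow_eq_one_le (α := H) Nat.card_pos)
    have hnot : (⟨a * x * a⁻¹, (mem_normalizer_iff.mp ha x).mp (hX hx)⟩ : H) ∉ A :=
      fun hm => hno (Finset.mem_filter.1 hm).2
    rw [Finset.card_insert_of_notMem hnot, hA] at hle
    omega
  refine fun g hg => mem_normalizer_iff.mpr fun x => ⟨key g hg x, fun hx => ?_⟩
  have := key g⁻¹ (inv_mem hg) _ hx
  simpa [mul_assoc] using this

/-- The order of a join `A ⊔ B` with `A ⊓ B = ⊥` and `B` normalizing `A`. -/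
theorem card_sup_of_disjoint {A B : Subgroup G} (hn : B ≤ normalizer (A : Set G))
    (hinf : A ⊓ B = ⊥) : Nat.card ↥(A ⊔ B) = Nat.card A * Nat.card B := by
  have h1 := Thompson.card_sup_mul_card_inf hn
  rwa [hinf, card_bot, mul_one] at h1

/-- The index of `L_F` is the order of a complement. -/
theorem index_fittingHall {L E : Subgroup G} (hE : E ≤ L) (hinf : fittingHallOf L ⊓ E = ⊥)
    (hsup : fittingHallOf L ⊔ E = L) : (fittingHall L).index = Nat.card E := by
  have hn : E ≤ normalizer (fittingHallOf L : Set G) :=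
    hE.trans (BGSummary.le_normalizer_fittingHallOf L)
  have h1 := card_sup_of_disjoint hn hinf
  rw [hsup, BGUniq.card_fittingHallOf, ← (fittingHall L).card_mul_index] at h1
  exact Nat.eq_of_mul_eq_mul_left Nat.card_pos h1

/-- No element of order `p` in the kernel of a maximal subgroup not conjugate to `S`. -/
theorem Side.not_dvd_fittingHallOf {S P U W₁ W₂ L : Subgroup G} (D : Side S P U W₁ W₂)
    (hS : IsCoatom S) (hL : IsCoatom L)
    (hnc : ∀ g : G, L ≠ S.map (MulAut.conj g).toMonoidHom) :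
    ¬ Nat.card W₂ ∣ Nat.card (fittingHallOf L) := by
  intro hd
  haveI := Fact.mk D.prime₂
  haveI : Group.IsNilpotent (fittingHallOf L) :=
    Group.nilpotent_of_mulEquiv (_h := BGUniq.fittingHall_isNilpotent L)
      ((fittingHall L).equivMapOfInjective L.subtype L.subtype_injective)
  obtain ⟨R₀⟩ : Nonempty (Sylow (Nat.card W₂) (fittingHallOf L)) := inferInstance
  set R : Subgroup G := (R₀ : Subgroup (fittingHallOf L)).map (fittingHallOf L).subtype with hR
  have hRle : R ≤ fittingHallOf L := map_subtype_le _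
  have hRc : Nat.card R = Nat.card (R₀ : Subgroup (fittingHallOf L)) :=
    (Nat.card_congr ((R₀ : Subgroup (fittingHallOf L)).equivMapOfInjective _
      (fittingHallOf L).subtype_injective).toEquiv).symm
  have hR1 : R ≠ ⊥ := by
    intro e
    have h1 : Nat.card W₂ ∣ Nat.card R := by
      rw [hRc]; exact R₀.dvd_card_of_dvd_card hd
    rw [e, card_bot] at h1
    exact D.prime₂.ne_one (Nat.dvd_one.mp h1)
  have hLR : L ≤ normalizer (R : Set G) := by
    refine (BGSummary.le_normalizer_fittingHallOf L).trans (normalizer_of_hall hRle ?_)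
    rw [show R.relIndex (fittingHallOf L) = (R₀ : Subgroup (fittingHallOf L)).index from
      congrArg Subgroup.index (comap_map_eq_self_of_injective
        (fittingHallOf L).subtype_injective _), hRc]
    exact R₀.card_coprime_index
  obtain ⟨Q, hQ⟩ := (R₀.isPGroup'.map (fittingHallOf L).subtype).exists_le_sylow
  let P₀ : Sylow (Nat.card W₂) G := D.isPGroup.toSylow D.not_dvd_index
  obtain ⟨y, hy⟩ := MulAction.exists_smul_eq G Q P₀
  have hmem : ∀ r ∈ R, y * r * y⁻¹ ∈ P := by
    intro r hr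
    have h2 : (y • Q : Sylow (Nat.card W₂) G).toSubgroup = P := by rw [hy]; rfl
    rw [← h2, Sylow.coe_subgroup_smul]
    exact ⟨r, hQ hr, by simp [MulAut.conj_apply]⟩
  obtain ⟨r, hr, hr1⟩ := (Subgroup.bot_or_exists_ne_one R).resolve_left hR1
  have hle : L.map (MulAut.conj y).toMonoidHom ≤ S := by
    rintro _ ⟨l, hl, rfl⟩
    refine D.TI _ (hmem r hr) (fun e => hr1 (conj_eq_one_iff.mp e)) _ ?_
    show y * l * y⁻¹ * (y * r * y⁻¹) * (y * l * y⁻¹)⁻¹ ∈ P
    rw [show y * l * y⁻¹ * (y * r * y⁻¹) * (y * l * y⁻¹)⁻¹ = y * (l * r * l⁻¹) * y⁻¹ by group]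
    exact hmem _ ((mem_normalizer_iff.mp (hLR hl) r).mp hr)
  have heq : L.map (MulAut.conj y).toMonoidHom = S :=
    ((BGSigma.isCoatom_map_conj hL y).le_iff.mp hle).resolve_left hS.1 |>.symm
  exact hnc y⁻¹ (by rw [← heq, BGSigma.map_conj_comp, inv_mul_cancel, BGSigma.map_conj_one])

/-- `|W₁ W₂^y| = q p` for `y` centralizing `W₁`. -/
theorem card_W_conj {W₁ W₂ : Subgroup G} (hsn : IsSelfNormalizingCyclic W₁ W₂) {y : G}
    (hy : y ∈ centralizer (W₁ : Set G)) :
    Nat.card ↥(W₁ ⊔ W₂.map (MulAut.conj y).toMonoidHom) = Nat.card W₁ * Nat.card W₂ := by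
  obtain ⟨-, -, hdisj, hcomm, -, -⟩ := id hsn
  have hfix : W₁.map (MulAut.conj y).toMonoidHom = W₁ := by
    have key : ∀ w ∈ W₁, y * w * y⁻¹ = w := fun w hw => by
      rw [← mem_centralizer_iff.mp hy w hw]; group
    refine le_antisymm ?_ fun w hw => ⟨w, hw, key w hw⟩
    rintro _ ⟨w, hw, rfl⟩
    show y * w * y⁻¹ ∈ W₁
    rw [key w hw]; exact hw
  calc Nat.card ↥(W₁ ⊔ W₂.map (MulAut.conj y).toMonoidHom)
      = Nat.card ↥((W₁ ⊔ W₂).map (MulAut.conj y).toMonoidHom) := by rw [Subgroup.map_sup, hfix]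
    _ = Nat.card ↥(W₁ ⊔ W₂) :=
        (Nat.card_congr ((W₁ ⊔ W₂).equivMapOfInjective _ (MulAut.conj y).injective).toEquiv).symm
    _ = Nat.card W₁ * Nat.card W₂ := card_sup_of_disjoint (fun b hb =>
        Subgroup.centralizer_le_normalizer _
          (mem_centralizer_iff.mpr fun a ha => hcomm a ha b hb)) hdisj

end Hall

section Pair

variable {G : Type u} [Group G] [Fintype G] (hG : IsMinSimpleOddOrder G) (h : Earlier G)
variable {S T W₁ W₂ U V : Subgroup G} (d : FT.Pair S T W₁ W₂ U V)
include hG h d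

theorem Earlier.complement_ne_bot : U ≠ ⊥ := by
  rcases (h.member hG d).cases with h2 | h3
  · exact (PF13.typeII_complement hG d.coatomS d.typeS h2).1
  · intro h0
    haveI : Fintype S := Fintype.ofFinite _
    exact (PF13.system_of_34 hG d.coatomS d.typeS (Or.inl h3)).1 (by rw [h0, bot_subgroupOf])

/-- The data of the member `S`. -/
theorem Earlier.side : Side S (fittingHallOf S) U W₁ W₂ := by
  have m := h.member hG d
  have hP := d.typeS
  obtain ⟨hdS, hW₁S, hdW, hSmul⟩ := hP.W₁_compl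
  obtain ⟨hFd, hUd, hFU, hdmul⟩ := hP.U_compl
  have hUS : U ≤ S := hUd.trans hdS
  have hnF : S ≤ normalizer (fittingHallOf S : Set G) := BGSummary.le_normalizer_fittingHallOf S
  have hW₂F : W₂ ≤ fittingHallOf S := hP.W₂_le.trans inf_le_left
  refine
    { odd := hG.1
      selfNorm := hP.selfNormalizing
      prime₁ := m.prime
      prime₂ := (h.member hG d.symm).prime
      ne := card_ne_of_selfNormalizing hP.selfNormalizing
      P_le := hFd.trans hdS
      U_le := hUS
      W₁_le := hW₁S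
      normal := hnF
      U_normal := hP.U_normal
      decomp := fun s hs => ?_
      card_S := ?_
      card_P := m.card_core
      P_exp := fun x hx => m.elementary.2 x hx
      P_comm := fun x hx y hy => ?_
      W₂_le := hW₂F
      cent := fun w hw hw1 x hx e => ?_
      U_ne := h.complement_ne_bot hG d
      U_comm := fun a ha b hb => ?_
      fpf := m.regular
      fpf₁ := fun w hw hw1 v hv e => ?_
      TI := fun x hx hx1 g hgx => ?_ }
  · obtain ⟨z, hz, w, hw, rfl⟩ := hSmul s hs
    obtain ⟨x, hx, v, hv, rfl⟩ := hdmul z hz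
    exact ⟨x, hx, v, hv, w, hw, rfl⟩
  · have h1 := card_sup_of_disjoint (hUS.trans hnF) hFU
    have h2 := card_sup_of_disjoint
      (hW₁S.trans (Coprime.le_normalizer_commutator_left S S)) hdW
    rw [BGSummary.TypeCore.sup_eq hP.U_compl] at h1
    rw [BGSummary.TypeCore.sup_eq hP.W₁_compl, h1] at h2
    exact h2
  · haveI := m.elementary.1
    exact congrArg Subtype.val
      (mul_comm' (⟨x, hx⟩ : fittingHallOf S) ⟨y, hy⟩)
  · rw [← hP.W₂_centralizer w hw hw1]
    exact ⟨hFd hx, mem_centralizer_singleton_iff.mpr e.symm⟩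
  · haveI := m.U_comm
    exact congrArg Subtype.val (mul_comm' (⟨a, ha⟩ : U) ⟨b, hb⟩)
  · have hvW : v ∈ W₂ := by
      rw [← hP.W₂_centralizer w hw hw1]
      exact ⟨hUd hv, mem_centralizer_singleton_iff.mpr e.symm⟩
    exact mem_bot.mp (hFU.le ⟨hW₂F hvW, hv⟩)
  · by_contra hgS
    exact hx1 (m.core_TI g (fun h0 => hgS (m.core_normalizer.le h0)) x hx hgx)

theorem Earlier.exists_eta : ∃ η, EtaArr W₁ W₂ η :=
  exists_etaArr W₁ W₂ d.typeS.selfNormalizing
    (hG.1.of_dvd_nat (card_subgroup_dvd_card _)) (h.member hG d).prime (h.member hG d.symm).prime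

/-- A maximal subgroup of Type I is not conjugate to a member of a pair. -/
theorem Earlier.ne_conj_member {L : Subgroup G} (hL : IsCoatom L) (hI : IsOfTypeI L) (g : G) :
    L ≠ S.map (MulAut.conj g).toMonoidHom := fun e => by
  obtain ⟨k, hk⟩ := FT.kappa_nonempty hG d.coatomS d.typeS
  have e' : S = L.map (MulAut.conj g⁻¹).toMonoidHom := by
    rw [e, BGSigma.map_conj_comp, inv_mul_cancel, BGSigma.map_conj_one]
  rw [e'] at hk
  have hk' := BGSummary.Support.kappa_conj hG hL hk
  rw [PF8.kappa_of_typeI hG L hL hI] at hk'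
  exact hk'

/-- `p` does not divide the kernel of a maximal subgroup of Type I. -/
theorem Earlier.not_dvd_kernel {L : Subgroup G} (hL : IsCoatom L) (hI : IsOfTypeI L) :
    ¬ Nat.card W₂ ∣ Nat.card (fittingHallOf L) :=
  (h.side hG d).not_dvd_fittingHallOf d.coatomS hL (h.ne_conj_member hG d hL hI)

/-- The elements of `A(L)` have order prime to `p q`. -/
theorem Earlier.orderOf_typeA_coprime {L : Subgroup G} (hL : IsCoatom L) (hI : IsOfTypeI L)
    {a : G} (ha : a ∈ typeA L) : (orderOf a).Coprime (Nat.card W₁ * Nat.card W₂) := by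
  rw [h.typeA_eq hG hL hI] at ha
  have hd := Subgroup.orderOf_dvd_natCard (fittingHallOf L) ha.1
  refine Nat.Coprime.coprime_dvd_left hd (Nat.Coprime.mul_right ?_ ?_)
  · rw [Nat.coprime_comm, (h.member hG d).prime.coprime_iff_not_dvd]
    exact h.not_dvd_kernel hG d.symm hL hI
  · rw [Nat.coprime_comm, (h.member hG d.symm).prime.coprime_iff_not_dvd]
    exact h.not_dvd_kernel hG d hL hI

omit hG h in
/-- In the first alternative of S1549 the index of `L_F` is `q`. -/
theorem index_kernel_first {L : Subgroup G} (hinf : fittingHallOf L ⊓ W₁ = ⊥)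
    (hsup : fittingHallOf L ⊔ W₁ = L) : (fittingHall L).index = Nat.card W₁ :=
  index_fittingHall (le_sup_right.trans hsup.le) hinf hsup

/-- In the second alternative of S1549 the index of `L_F` is `q p`. -/
theorem index_kernel_second {L : Subgroup G} {y : G} (hy : y ∈ fittingHallOf T)
    (hinf : fittingHallOf L ⊓ (W₁ ⊔ W₂.map (MulAut.conj y).toMonoidHom) = ⊥)
    (hsup : fittingHallOf L ⊔ (W₁ ⊔ W₂.map (MulAut.conj y).toMonoidHom) = L) :
    (fittingHall L).index = Nat.card W₁ * Nat.card W₂ := by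
  rw [index_fittingHall (le_sup_right.trans hsup.le) hinf hsup]
  refine card_W_conj d.typeS.selfNormalizing (mem_centralizer_iff.mpr fun w hw => ?_)
  haveI := (h.member hG d.symm).elementary.1
  exact congrArg Subtype.val
    (mul_comm' (⟨w, (d.typeT.W₂_le.trans inf_le_left) hw⟩ : fittingHallOf T) ⟨y, hy⟩)

/-- If a conjugate of `W₂` normalizes `U` inside a Frobenius `L`, then `u = (p^q-1)/(p-1)`. -/
theorem full_order_of_normalizes (hqp : Nat.card W₁ < Nat.card W₂) {L : Subgroup G}
    (hL : IsCoatom L) (hI : IsOfTypeI L) (hUL : U ≤ fittingHallOf L) {y : G}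
    (hyL : W₂.map (MulAut.conj y).toMonoidHom ≤ L)
    (hy1 : fittingHallOf L ⊓ W₂.map (MulAut.conj y).toMonoidHom = ⊥)
    (hyU : W₂.map (MulAut.conj y).toMonoidHom ≤ normalizer (U : Set G)) :
    Nat.card U * (Nat.card W₂ - 1) = Nat.card W₂ ^ Nat.card W₁ - 1 := by
  have D := h.side hG d
  have D' := h.side hG d.symm
  obtain ⟨η, E⟩ := h.exists_eta hG d
  set Y := W₂.map (MulAut.conj y).toMonoidHom with hY
  have hYc : Nat.card Y = Nat.card W₂ :=
    (Nat.card_congr (W₂.equivMapOfInjective _ (MulAut.conj y).injective).toEquiv).symm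
  have hY1 : Y ≠ ⊥ := by
    intro e
    rw [e, card_bot] at hYc
    exact D.prime₂.ne_one hYc.symm
  have hfix : U ⊓ centralizer (Y : Set G) = ⊥ := by
    refine le_bot_iff.mp fun u hu => mem_bot.mpr (by_contra fun hu1 => ?_)
    obtain ⟨w, hw, hw1⟩ := (Subgroup.bot_or_exists_ne_one Y).resolve_left hY1
    refine hw1 (mem_bot.mp (hy1.le ⟨h.frobenius hG hL hI u (hUL hu.1) hu1 ⟨hyL hw, ?_⟩, hw⟩))
    exact mem_centralizer_singleton_iff.mpr (mem_centralizer_iff.mp hu.2 w hw)
  have hup := card_mod_of_prime_fpf D.prime₂ U Y hYc hyU hfix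
  have hodd : ∀ X : Subgroup G, Odd (Nat.card X) := fun X =>
    hG.1.of_dvd_nat (card_subgroup_dvd_card X)
  obtain ⟨m, hm, hm3⟩ := bound_arith D.prime₂ D.prime₁ hqp (by have := D.two_lt.1; omega)
    (hodd U) D.one_lt_U D.card_U_mod D.card_U_cases D'.two_q_lt_U
    (fun hlt => D.ineq D' E hqp hlt)
  haveI := Fact.mk D.prime₂
  have hmu : ((m : ZMod (Nat.card W₂)) * (Nat.card U : ZMod (Nat.card W₂))) = 1 := by
    have := congrArg (Nat.cast : ℕ → ZMod (Nat.card W₂)) hm
    push_cast [Nat.cast_sub D.prime₂.one_le,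
      Nat.cast_sub (Nat.one_le_pow (Nat.card W₁) _ D.prime₂.pos)] at this
    rw [ZMod.natCast_self, zero_pow D.prime₁.ne_zero] at this
    linear_combination -this
  have hu1 : (Nat.card U : ZMod (Nat.card W₂)) = 1 := by
    rw [← ZMod.natCast_mod, hup, Nat.cast_one]
  rw [hu1, mul_one] at hmu
  have hm1 : m = 1 := by
    have hmp : m < Nat.card W₂ := by
      rcases hm3 with rfl | rfl | ⟨hp11, -, rfl⟩
      · exact D.prime₂.one_lt
      · exact hqp
      · omega
    have h1 := congrArg ZMod.val hmu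
    rwa [ZMod.val_natCast, Nat.mod_eq_of_lt hmp, ZMod.val_one] at h1
  rw [hm1, one_mul] at hm
  exact hm

end Pair

end Cfsg.Agent.PF14
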