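import Cfsg.Agent.PF14.Eta
import Cfsg.Agent.Coherence.Extend

/-!
Rigidity of small-norm virtual characters with additive coefficients on the array of `W₁ × W₂`.
-/

set_option autoImplicit false
set_option linter.unusedVariables false
set_option linter.unusedSectionVars false

namespace Cfsg.Agent.PF14

open Cfsg OddChar OddChar.CycTI
open scoped ComplexConjugate

/-- An additive integer grid with at most two non-zero entries is zero. -/
theorem grid_rigid {α β : Type*} [Fintype α] [Fintype β] [DecidableEq α] [DecidableEq β]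
    (i₀ : α) (j₀ : β) (hα : 3 ≤ Fintype.card α) (hβ : 3 ≤ Fintype.card β)
    (a : α → ℤ) (b e : β → ℤ) (ha : a i₀ = 0) (hb : b j₀ = 0) (he : e j₀ = 0)
    (he2 : (∀ j, e j = 0) ∨ ∃ j j', j ≠ j₀ ∧ j' ≠ j₀ ∧ e j ≠ 0 ∧ e j' ≠ 0 ∧ e j ≠ e j')
    (h : ∑ z : α × β, (if z.1 = i₀ then e z.2 + b z.2 else a z.1 + b z.2) ^ 2 ≤ 2) :
    (∀ i, a i = 0) ∧ ∀ j, b j = 0 := by
  let F : α × β → ℤ := fun z => if z.1 = i₀ then e z.2 + b z.2 else a z.1 + b z.2
  have three : ∀ x y z : α × β, F x ≠ 0 → F y ≠ 0 → F z ≠ 0 → x ≠ y → x ≠ z → y ≠ z → False := by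
    intro x y z hx hy hz hxy hxz hyz
    have h3 : ∑ w ∈ ({x, y, z} : Finset (α × β)), F w ^ 2 ≤ ∑ w, F w ^ 2 :=
      Finset.sum_le_sum_of_subset_of_nonneg (Finset.subset_univ _) fun _ _ _ => sq_nonneg _
    rw [Finset.sum_insert (by simp [hxy, hxz]), Finset.sum_insert (by simp [hyz]),
      Finset.sum_singleton] at h3
    have h1 : ∀ t : ℤ, t ≠ 0 → 1 ≤ t ^ 2 := fun t ht => by
      have : 0 < t ^ 2 := by positivity
      omega
    have := h1 _ hx
    have := h1 _ hy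
    have := h1 _ hz
    change ∑ w, F w ^ 2 ≤ 2 at h
    omega
  have hF : ∀ i j, i ≠ i₀ → F (i, j) = a i + b j := fun i j hi => if_neg hi
  have hF₀ : ∀ j, F (i₀, j) = e j + b j := fun j => if_pos rfl
  obtain ⟨i₁, i₂, hi₁, hi₂, hi₁₂⟩ : ∃ i₁ i₂ : α, i₁ ≠ i₀ ∧ i₂ ≠ i₀ ∧ i₁ ≠ i₂ := by
    have hc : 1 < ((Finset.univ : Finset α).erase i₀).card := by
      rw [Finset.card_erase_of_mem (Finset.mem_univ _), Finset.card_univ]; omega
    obtain ⟨x, hx, y, hy, hxy⟩ := Finset.one_lt_card.1 hc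
    exact ⟨x, y, Finset.ne_of_mem_erase hx, Finset.ne_of_mem_erase hy, hxy⟩
  obtain ⟨j₁, j₂, hj₁, hj₂, hj₁₂⟩ : ∃ j₁ j₂ : β, j₁ ≠ j₀ ∧ j₂ ≠ j₀ ∧ j₁ ≠ j₂ := by
    have hc : 1 < ((Finset.univ : Finset β).erase j₀).card := by
      rw [Finset.card_erase_of_mem (Finset.mem_univ _), Finset.card_univ]; omega
    obtain ⟨x, hx, y, hy, hxy⟩ := Finset.one_lt_card.1 hc
    exact ⟨x, y, Finset.ne_of_mem_erase hx, Finset.ne_of_mem_erase hy, hxy⟩
  by_cases ha0 : ∀ i, a i = 0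
  · refine ⟨ha0, fun j => by_contra fun hbj => ?_⟩
    have hj : j ≠ j₀ := fun e' => hbj (e' ▸ hb)
    have h1 : F (i₁, j) ≠ 0 := by rw [hF _ _ hi₁, ha0]; simpa using hbj
    have h2 : F (i₂, j) ≠ 0 := by rw [hF _ _ hi₂, ha0]; simpa using hbj
    have hne : ((i₁, j) : α × β) ≠ (i₂, j) := fun e' => hi₁₂ (Prod.ext_iff.1 e').1
    have hz : ∀ k, F (i₀, k) = 0 := fun k => by_contra fun hk =>
      three _ _ (i₀, k) h1 h2 hk hne (fun e' => hi₁ (Prod.ext_iff.1 e').1)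
        fun e' => hi₂ (Prod.ext_iff.1 e').1
    have hb0 : ∀ k, k ≠ j → b k = 0 := fun k hk => by_contra fun hbk =>
      three _ _ (i₁, k) h1 h2 (by rw [hF _ _ hi₁, ha0]; simpa using hbk) hne
        (fun e' => hk (Prod.ext_iff.1 e').2.symm) fun e' => hi₁₂ (Prod.ext_iff.1 e').1.symm
    rcases he2 with he2 | ⟨k, k', hk, hk', hek, hek', hkk⟩
    · have := hz j
      rw [hF₀, he2] at this
      exact hbj (by simpa using this)
    · have e1 := hz k
      have e2 := hz k'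
      rw [hF₀] at e1 e2
      rcases eq_or_ne k j with hkj | hkj
      · have := hb0 k' fun e' => hkk (by rw [hkj, e'])
        omega
      · have := hb0 k hkj
        omega
  · push Not at ha0
    obtain ⟨i, hai⟩ := ha0
    have hi : i ≠ i₀ := fun e' => hai (e' ▸ ha)
    have h0 : F (i, j₀) ≠ 0 := by rw [hF _ _ hi, hb]; simpa using hai
    obtain ⟨i', hi', hii'⟩ : ∃ i', i' ≠ i₀ ∧ i' ≠ i := by
      rcases eq_or_ne i₁ i with h' | h'
      · exact ⟨i₂, hi₂, fun e' => hi₁₂ (h'.trans e'.symm)⟩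
      · exact ⟨i₁, hi₁, h'⟩
    by_cases hai' : a i' = 0
    · have key : ∀ j, j ≠ j₀ → F (i, j) ≠ 0 ∨ F (i', j) ≠ 0 := fun j hj => by
        rw [hF _ _ hi, hF _ _ hi', hai', zero_add]
        by_cases hbj : b j = 0
        · exact Or.inl (by rw [hbj]; simpa using hai)
        · exact Or.inr hbj
      have d0 : ∀ j, j ≠ j₀ → ∀ k : α, ((i, j₀) : α × β) ≠ (k, j) := fun j hj k e' =>
        hj (Prod.ext_iff.1 e').2.symm
      rcases key j₁ hj₁ with x | x <;> rcases key j₂ hj₂ with y | y <;>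
        exact (three _ _ _ h0 x y (d0 j₁ hj₁ _) (d0 j₂ hj₂ _)
          fun e' => hj₁₂ (Prod.ext_iff.1 e').2).elim
    · have h0' : F (i', j₀) ≠ 0 := by rw [hF _ _ hi', hb]; simpa using hai'
      have hne : ((i, j₀) : α × β) ≠ (i', j₀) := fun e' => hii' (Prod.ext_iff.1 e').1.symm
      have hz : ∀ k l, (k, l) ≠ ((i, j₀) : α × β) → (k, l) ≠ ((i', j₀) : α × β) → F (k, l) = 0 :=
        fun k l n1 n2 => by_contra fun hk => three _ _ _ h0 h0' hk hne n1.symm n2.symm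
      have hbj : ∀ j, j ≠ j₀ → b j = -a i := fun j hj => by
        have := hz i j (fun e' => hj (Prod.ext_iff.1 e').2) (fun e' => hj (Prod.ext_iff.1 e').2)
        rw [hF _ _ hi] at this
        omega
      have hej : ∀ j, j ≠ j₀ → e j = a i := fun j hj => by
        have := hz i₀ j (fun e' => hj (Prod.ext_iff.1 e').2) (fun e' => hj (Prod.ext_iff.1 e').2)
        rw [hF₀, hbj j hj] at this
        omega
      rcases he2 with he2 | ⟨k, k', hk, hk', -, -, hkk⟩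
      · exact absurd ((hej j₁ hj₁).symm.trans (he2 j₁)) hai
      · exact absurd ((hej k hk).trans (hej k' hk').symm) hkk

variable {G : Type*} [Group G] [Fintype G] {W₁ W₂ : Subgroup G}
variable {η : (↥W₁ →* ℂˣ) → (↥W₂ →* ℂˣ) → G → ℂ}

/-- A virtual character of norm zero vanishes. -/
theorem eq_zero_of_norm {f : G → ℂ} (h : classInner f f = 0) : f = 0 := by
  exact Coherence.inner_self_eq_zero.1 h

/-- Bessel: an orthonormal family of integer coefficients has square sum at most the norm. -/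
theorem bessel_int {ι : Type*} [Fintype ι] (f : ι → G → ℂ) (ξ : G → ℂ) (c : ι → ℤ)
    (h1 : ∀ i, classInner (f i) (f i) = 1) (h0 : ∀ i j, i ≠ j → classInner (f i) (f j) = 0)
    (hc : ∀ i, classInner ξ (f i) = c i) :
    ((∑ i, c i ^ 2 : ℤ) : ℝ) ≤ (classInner ξ ξ).re := by
  classical
  have h := Coherence.bessel Finset.univ f (fun _ => (1 : ℝ)) (fun i => (c i : ℝ)) (ξ := ξ)
    (fun _ _ => one_ne_zero) (fun i _ => by rw [h1, Complex.ofReal_one])
    (fun i _ j _ hij => h0 i j hij) (fun i _ => by rw [hc]; push_cast; rfl)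
  rw [Coherence.inner_self, Complex.ofReal_re]
  have := Coherence.normSqFn_nonneg
    (ξ - ∑ i ∈ Finset.univ, (((c i : ℝ) / 1 : ℝ) : ℂ) • f i)
  push_cast
  simp only [div_one] at h this
  linarith

theorem EtaArr.dual_finite₁ (E : EtaArr W₁ W₂ η) : Finite (↥W₁ →* ℂˣ) :=
  dual_finite (haveI := Fact.mk E.prime₁; isCyclic_of_prime_card rfl)

theorem EtaArr.dual_finite₂ (E : EtaArr W₁ W₂ η) : Finite (↥W₂ →* ℂˣ) :=
  dual_finite (haveI := Fact.mk E.prime₂; isCyclic_of_prime_card rfl)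

theorem EtaArr.card_dual₁ (E : EtaArr W₁ W₂ η) : Nat.card (↥W₁ →* ℂˣ) = Nat.card W₁ :=
  dual_card (haveI := Fact.mk E.prime₁; isCyclic_of_prime_card rfl)

theorem EtaArr.card_dual₂ (E : EtaArr W₁ W₂ η) : Nat.card (↥W₂ →* ℂˣ) = Nat.card W₂ :=
  dual_card (haveI := Fact.mk E.prime₂; isCyclic_of_prime_card rfl)

/-- Coefficient of `θ` on a member of the array is an integer. -/
theorem EtaArr.coeff_int (E : EtaArr W₁ W₂ η) {θ : G → ℂ} (hθ : IsGeneralizedCharacter G θ)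
    (φ : ↥W₁ →* ℂˣ) (ψ : ↥W₂ →* ℂˣ) : ∃ z : ℤ, classInner θ (η φ ψ) = z :=
  CharCore.IsGeneralizedCharacter.exists_classInner_eq_intCast hθ (E.gen φ ψ)

/-- A virtual character of norm at most `2`, orthogonal to `1`, vanishing on `W₁W₂ \ (W₁ ∪ W₂)`,
is orthogonal to the whole array. -/
theorem EtaArr.orth_of_small (E : EtaArr W₁ W₂ η) (h2 : 2 < Nat.card W₁) (h2' : 2 < Nat.card W₂)
    {θ : G → ℂ} (hθ : IsGeneralizedCharacter G θ) (hv : ∀ v ∈ offSet W₁ W₂, θ v = 0)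
    (h1 : classInner θ (fun _ => 1) = 0) (hn : (classInner θ θ).re ≤ 2) :
    ∀ φ ψ, classInner θ (η φ ψ) = 0 := by
  classical
  haveI := E.dual_finite₁
  haveI := E.dual_finite₂
  haveI := Fintype.ofFinite (↥W₁ →* ℂˣ)
  haveI := Fintype.ofFinite (↥W₂ →* ℂˣ)
  choose c hc using E.coeff_int hθ
  have hc11 : c 1 1 = 0 := by
    have := hc 1 1; rw [E.one, h1] at this; exact_mod_cast this.symm
  have hadd : ∀ φ ψ, c φ ψ = c φ 1 + c 1 ψ := fun φ ψ => by
    have h := E.additive θ (CharCore.IsGeneralizedCharacter.isClassFunction hθ) hv φ ψ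
    rw [hc, hc, hc, hc, hc11] at h
    simp only [Int.cast_zero, sub_zero] at h
    exact_mod_cast h
  have hb := bessel_int (fun z : (↥W₁ →* ℂˣ) × (↥W₂ →* ℂˣ) => η z.1 z.2) θ (fun z => c z.1 z.2)
    (fun z => E.norm_one _ _) (fun z z' hne => E.orth _ _ _ _ hne) (fun z => hc _ _)
  have hle : (∑ z : (↥W₁ →* ℂˣ) × (↥W₂ →* ℂˣ), c z.1 z.2 ^ 2) ≤ 2 := by
    exact_mod_cast hb.trans hn
  obtain ⟨hA, hB⟩ := grid_rigid (1 : ↥W₁ →* ℂˣ) (1 : ↥W₂ →* ℂˣ)
    (by rw [← Nat.card_eq_fintype_card, E.card_dual₁]; omega)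
    (by rw [← Nat.card_eq_fintype_card, E.card_dual₂]; omega)
    (fun φ => c φ 1) (fun ψ => c 1 ψ) (fun _ => 0) hc11 hc11 rfl (Or.inl fun _ => rfl)
    (le_trans (le_of_eq (Finset.sum_congr rfl fun z _ => by
      split_ifs with h
      · rw [h, zero_add]
      · rw [hadd z.1 z.2])) hle)
  intro φ ψ
  rw [hc, hadd, hA φ, hB ψ]
  simp

/-- A virtual character of norm `2` with the values of `η 1 ψ - η 1 ψ'` on `W₁W₂ \ (W₁ ∪ W₂)`
is `η 1 ψ - η 1 ψ'`. -/
theorem EtaArr.eq_sub_of_norm (E : EtaArr W₁ W₂ η) (h2 : 2 < Nat.card W₁)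
    (h2' : 2 < Nat.card W₂) {ψ ψ' : ↥W₂ →* ℂˣ} (hψ : ψ ≠ 1) (hψ' : ψ' ≠ 1) (hne : ψ ≠ ψ')
    {θ : G → ℂ} (hθ : IsGeneralizedCharacter G θ)
    (hv : ∀ v ∈ offSet W₁ W₂, θ v = η 1 ψ v - η 1 ψ' v)
    (h1 : classInner θ (fun _ => 1) = 0) (hn : classInner θ θ = 2) :
    θ = η 1 ψ - η 1 ψ' := by
  classical
  haveI := E.dual_finite₁
  haveI := E.dual_finite₂
  haveI := Fintype.ofFinite (↥W₁ →* ℂˣ)
  haveI := Fintype.ofFinite (↥W₂ →* ℂˣ)
  set δ : G → ℂ := η 1 ψ - η 1 ψ' with hδ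
  have hδgen : IsGeneralizedCharacter G δ := CharCore.isGeneralized_sub (E.gen 1 ψ) (E.gen 1 ψ')
  set e : (↥W₂ →* ℂˣ) → ℤ := fun χ => (if χ = ψ then 1 else 0) - if χ = ψ' then 1 else 0
    with he
  have hδc : ∀ φ χ, classInner δ (η φ χ) = if φ = 1 then (e χ : ℂ) else 0 := by
    intro φ χ
    have hx : ∀ κ, classInner (η 1 κ) (η φ χ) = if φ = 1 ∧ χ = κ then 1 else 0 := by
      intro κ
      split_ifs with h
      · rw [h.1, h.2, E.norm_one]
      · exact E.orth _ _ _ _ fun h' => h ⟨(Prod.ext_iff.1 h').1.symm, (Prod.ext_iff.1 h').2.symm⟩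
    rw [hδ, CharCore.classInner_sub_left, hx, hx]
    by_cases hφ : φ = 1
    · simp only [hφ, true_and, if_true, he]
      push_cast
      rfl
    · simp [hφ]
  clear_value δ
  choose c hc using E.coeff_int hθ
  have hc11 : c 1 1 = 0 := by
    have := hc 1 1; rw [E.one, h1] at this; exact_mod_cast this.symm
  have he1 : e 1 = 0 := by simp [he, hψ.symm, hψ'.symm]
  have hadd : ∀ φ χ, c φ χ = if φ = 1 then c 1 χ else c φ 1 + (c 1 χ - e χ) := fun φ χ => by
    split_ifs with hφ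
    · rw [hφ]
    · have h := E.additive (θ - δ) (CharCore.IsGeneralizedCharacter.isClassFunction
        (CharCore.isGeneralized_sub hθ hδgen))
        (fun v hv' => by rw [Pi.sub_apply, hv v hv', hδ, Pi.sub_apply, sub_self]) φ χ
      simp only [CharCore.classInner_sub_left, hc, hδc, hφ, if_false, if_true, he1, hc11,
        Int.cast_zero, sub_zero] at h
      have h' : ((c φ χ : ℤ) : ℂ) = ((c φ 1 + (c 1 χ - e χ) : ℤ) : ℂ) := by
        push_cast; exact h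
      exact_mod_cast h'
  have hb := bessel_int (fun z : (↥W₁ →* ℂˣ) × (↥W₂ →* ℂˣ) => η z.1 z.2) θ (fun z => c z.1 z.2)
    (fun z => E.norm_one _ _) (fun z z' hne => E.orth _ _ _ _ hne) (fun z => hc _ _)
  have hle : (∑ z : (↥W₁ →* ℂˣ) × (↥W₂ →* ℂˣ), c z.1 z.2 ^ 2) ≤ 2 := by
    rw [hn, show (2 : ℂ).re = 2 from rfl] at hb
    exact_mod_cast hb
  obtain ⟨hA, hB⟩ := grid_rigid (1 : ↥W₁ →* ℂˣ) (1 : ↥W₂ →* ℂˣ)
    (by rw [← Nat.card_eq_fintype_card, E.card_dual₁]; omega)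
    (by rw [← Nat.card_eq_fintype_card, E.card_dual₂]; omega)
    (fun φ => if φ = 1 then 0 else c φ 1) (fun χ => c 1 χ - e χ) e (if_pos rfl)
    (by rw [hc11, he1, sub_zero]) he1 (Or.inr ⟨ψ, ψ', hψ, hψ', by simp [he, hne], by simp [he, hne.symm], by simp [he, hne, hne.symm]⟩)
    (le_trans (le_of_eq (Finset.sum_congr rfl fun z _ => by
      rw [hadd z.1 z.2]
      split_ifs <;> ring)) hle)
  have hcoef : ∀ φ χ, (c φ χ : ℂ) = if φ = 1 then (e χ : ℂ) else 0 := fun φ χ => by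
    rw [hadd]
    split_ifs with h
    · rw [show c 1 χ = e χ from sub_eq_zero.1 (hB χ)]
    · have := hA φ; rw [if_neg h] at this
      rw [this, show c 1 χ - e χ = 0 from hB χ]; simp
  have hθδ : classInner θ δ = 2 := by
    rw [hδ, CharCore.classInner_sub_right, hc, hc, hcoef, hcoef]
    simp [he, hne, hne.symm]
    norm_num
  have hδn : classInner δ δ = 2 := by
    nth_rewrite 2 [hδ]
    rw [CharCore.classInner_sub_right, hδc, hδc]
    simp [he, hne, hne.symm]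
    norm_num
  refine sub_eq_zero.1 (eq_zero_of_norm ?_)
  rw [CharCore.classInner_sub_left, CharCore.classInner_sub_right, CharCore.classInner_sub_right,
    hn, hθδ, hδn, ← CharInd.classInner_swap θ δ, hθδ, map_ofNat]
  ring

end Cfsg.Agent.PF14
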