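import Cfsg.Agent.PF14.Orbit
import Cfsg.Agent.PF14.Partition
import Cfsg.Agent.PF14.Grid

/-!
The bridge of one side: `Ind_{PW₁}^G (1 - λ) = 1 - η 1 ψ + Γ` with `Γ` real, independent of the
character, and of small norm away from the array.
-/

set_option autoImplicit false
set_option linter.unusedVariables false
set_option linter.unusedSectionVars false

namespace Cfsg.Agent.PF14

open Cfsg OddChar OddChar.CycTI Subgroup
open scoped ComplexConjugate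

variable {G : Type*} [Group G] [Finite G] {S P U W₁ W₂ : Subgroup G}

theorem Side.mem_PW (D : Side S P U W₁ W₂) {g : G} (hg : g ∈ P ⊔ W₁) :
    ∃ x ∈ P, ∃ w ∈ W₁, g = x * w := by
  have h : g ∈ (↑(W₁ ⊔ P) : Set G) := by rw [sup_comm]; exact hg
  rw [Subgroup.coe_mul_of_left_le_normalizer_right W₁ P (D.W₁_le.trans D.normal)] at h
  obtain ⟨w, hw, x, hx, rfl⟩ := Set.mem_mul.1 h
  exact ⟨w * x * w⁻¹, D.conj_mem (D.W₁_le hw) hx, w, hw, by group⟩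

theorem Side.eq_one_of_mem_both (D : Side S P U W₁ W₂) {g : G} (h1 : g ∈ P) (h2 : g ∈ W₁) :
    g = 1 :=
  orderOf_eq_one_iff.1 (Nat.eq_one_of_dvd_coprimes D.coprime
    (Subgroup.orderOf_dvd_natCard _ h2) (orderOf_dvd_of_pow_eq_one (D.P_exp g h1)))

theorem Side.PW_unique (D : Side S P U W₁ W₂) {x x' w w' : G} (hx : x ∈ P) (hx' : x' ∈ P)
    (hw : w ∈ W₁) (hw' : w' ∈ W₁) (h : x * w = x' * w') : x = x' ∧ w = w' := by
  have h2 : x'⁻¹ * x = w' * w⁻¹ := by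
    rw [eq_mul_inv_iff_mul_eq, mul_assoc, h, inv_mul_cancel_left]
  have h3 := D.eq_one_of_mem_both (P.mul_mem (P.inv_mem hx') hx)
    (h2 ▸ W₁.mul_mem hw' (W₁.inv_mem hw))
  have e : x = x' := (inv_mul_eq_one.1 h3).symm
  exact ⟨e, mul_left_cancel (e ▸ h)⟩

theorem Side.card_PW (D : Side S P U W₁ W₂) :
    Nat.card ↥(P ⊔ W₁) = Nat.card P * Nat.card W₁ := by
  rw [← Nat.card_prod]
  refine (Nat.card_congr (Equiv.ofBijective (fun z : P × W₁ =>
    (⟨(z.1 : G) * z.2, Subgroup.mul_mem_sup z.1.2 z.2.2⟩ : ↥(P ⊔ W₁))) ⟨?_, ?_⟩)).symm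
  · rintro ⟨x, w⟩ ⟨x', w'⟩ h
    obtain ⟨e, e'⟩ := D.PW_unique x.2 x'.2 w.2 w'.2 (congrArg Subtype.val h)
    exact Prod.ext (Subtype.ext e) (Subtype.ext e')
  · rintro ⟨g, hg⟩
    obtain ⟨x, hx, w, hw, e⟩ := D.mem_PW hg
    exact ⟨(⟨x, hx⟩, ⟨w, hw⟩), Subtype.ext e.symm⟩

/-- The projection of `P W₁` to `W₂`. -/
theorem Side.exists_proj (D : Side S P U W₁ W₂) :
    ∃ π : ↥(P ⊔ W₁) →* ↥W₂, (∀ w : W₁, π ⟨w, Subgroup.mem_sup_right w.2⟩ = 1) ∧
      ∀ b : W₂, π ⟨b, Subgroup.mem_sup_left (D.W₂_le b.2)⟩ = b := by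
  classical
  haveI : Fintype W₁ := Fintype.ofFinite W₁
  letI : CommGroup P := { (inferInstance : Group P) with
    mul_comm := fun a b => Subtype.ext (D.P_comm a a.2 b b.2) }
  choose fP hfP fW hfW he using fun g : ↥(P ⊔ W₁) => D.mem_PW g.2
  let inW : W₁ → S := fun a => ⟨a, D.W₁_le a.2⟩
  let N : P →* P := ∏ a : W₁, (D.cP (inW a)).toMonoidHom
  have hN : ∀ x, N x = ∏ a : W₁, D.cP (inW a) x := fun x => by simp [N]
  have hNinv : ∀ (b : W₁) (x : P), N (D.cP (inW b) x) = N x := fun b x => by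
    rw [hN, hN]
    refine Fintype.prod_equiv (Equiv.mulRight b) _ _ fun a => ?_
    rw [← D.cP_mul]
    rfl
  have hNW : ∀ x, ((N x : P) : G) ∈ W₂ := fun x => by
    haveI : Nontrivial W₁ := Finite.one_lt_card_iff_nontrivial.1 D.prime₁.one_lt
    obtain ⟨b, hb⟩ := exists_ne (1 : W₁)
    refine D.cent b b.2 (fun e => hb (Subtype.ext e)) _ (N x).2 ?_
    have h : D.cP (inW b) (N x) = N x := by
      rw [hN, map_prod]
      refine Fintype.prod_equiv (Equiv.mulLeft b) _ _ fun a => ?_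
      rw [← D.cP_mul]
      rfl
    exact mul_inv_eq_iff_eq_mul.1 (congrArg Subtype.val h)
  obtain ⟨k, hk⟩ : ∃ k : ℕ, Nat.card W₁ * k ≡ 1 [MOD Nat.card W₂] := by
    haveI := Fact.mk D.prime₂
    refine ⟨(((Nat.card W₁ : ℕ) : ZMod (Nat.card W₂))⁻¹).val, ?_⟩
    rw [← ZMod.natCast_eq_natCast_iff, Nat.cast_mul, ZMod.natCast_zmod_val, mul_inv_cancel₀,
      Nat.cast_one]
    rw [ne_eq, ZMod.natCast_eq_zero_iff]
    exact fun h => D.ne ((Nat.prime_dvd_prime_iff_eq D.prime₂ D.prime₁).1 h).symm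
  let nW : P →* W₂ :=
    { toFun := fun x => ⟨(N x : G), hNW x⟩
      map_one' := Subtype.ext (by simp)
      map_mul' := fun x y => Subtype.ext (by simp) }
  have hfP_mul : ∀ g h : ↥(P ⊔ W₁), (⟨fP (g * h), hfP _⟩ : P) =
      ⟨fP g, hfP g⟩ * D.cP (inW ⟨fW g, hfW g⟩) ⟨fP h, hfP h⟩ := by
    intro g h
    refine Subtype.ext (D.PW_unique (w := fW (g * h)) (w' := fW g * fW h) (hfP _)
      (P.mul_mem (hfP g) (D.conj_mem (D.W₁_le (hfW g)) (hfP h))) (hfW _)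
      (W₁.mul_mem (hfW g) (hfW h)) ?_).1
    calc fP (g * h) * fW (g * h) = ((g * h : ↥(P ⊔ W₁)) : G) := (he _).symm
      _ = (g : G) * h := rfl
      _ = (fP g * fW g) * (fP h * fW h) := by rw [← he, ← he]
      _ = fP g * (fW g * fP h * (fW g)⁻¹) * (fW g * fW h) := by group
  have hunique : ∀ (g : ↥(P ⊔ W₁)) (x : G), x ∈ P → ∀ w ∈ W₁, (g : G) = x * w → fP g = x :=
    fun g x hx w hw h => (D.PW_unique (hfP g) hx (hfW g) hw ((he g).symm.trans h)).1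
  let π : ↥(P ⊔ W₁) →* ↥W₂ :=
    MonoidHom.mk' (fun g => (nW ⟨fP g, hfP g⟩) ^ k) fun g h => by
      rw [hfP_mul, map_mul]
      haveI := Fact.mk D.prime₂
      letI : CommGroup W₂ := (isCyclic_of_prime_card (α := W₂) rfl).commGroup
      rw [show nW (D.cP (inW ⟨fW g, hfW g⟩) ⟨fP h, hfP h⟩) = nW ⟨fP h, hfP h⟩ from
        Subtype.ext (by show (N _ : G) = N _; rw [hNinv]), mul_pow]
  refine ⟨π, fun w => ?_, fun b => ?_⟩
  · show (nW _) ^ k = 1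
    rw [show (⟨fP ⟨w, _⟩, hfP _⟩ : P) = 1 from
      Subtype.ext (hunique _ 1 P.one_mem w w.2 (one_mul _).symm), map_one, one_pow]
  · show (nW _) ^ k = b
    rw [show (⟨fP ⟨b, _⟩, hfP _⟩ : P) = ⟨b, D.W₂_le b.2⟩ from
      Subtype.ext (hunique _ b (D.W₂_le b.2) 1 W₁.one_mem (mul_one _).symm)]
    have hq : nW ⟨b, D.W₂_le b.2⟩ = b ^ Nat.card W₁ := by
      refine Subtype.ext ?_
      show ((N ⟨b, D.W₂_le b.2⟩ : P) : G) = ((b ^ Nat.card W₁ : W₂) : G)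
      rw [hN, Finset.prod_congr rfl (g := fun _ => (⟨b, D.W₂_le b.2⟩ : P)) fun a _ => Subtype.ext (by
        rw [D.cP_apply]
        show (a : G) * b * (a : G)⁻¹ = b
        rw [D.selfNorm.2.2.2.1 a a.2 b b.2, mul_inv_cancel_right])]
      simp [Finset.card_univ]
    rw [hq, ← pow_mul]
    conv_rhs => rw [← pow_one b]
    exact pow_eq_pow_iff_modEq.2 (hk.of_dvd (orderOf_dvd_natCard b))

/-- A chosen projection of `P W₁` to `W₂`. -/
noncomputable def Side.proj (D : Side S P U W₁ W₂) : ↥(P ⊔ W₁) →* ↥W₂ :=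
  D.exists_proj.choose

theorem Side.proj_W₁ (D : Side S P U W₁ W₂) (w : W₁) :
    D.proj ⟨w, Subgroup.mem_sup_right w.2⟩ = 1 := D.exists_proj.choose_spec.1 w

theorem Side.proj_W₂ (D : Side S P U W₁ W₂) (b : W₂) :
    D.proj ⟨b, Subgroup.mem_sup_left (D.W₂_le b.2)⟩ = b := D.exists_proj.choose_spec.2 b

/-- The extension of `ψ` to `P W₁`, trivial on `W₁`. -/
noncomputable def Side.lhat (D : Side S P U W₁ W₂) (ψ : ↥W₂ →* ℂˣ) : ↥(P ⊔ W₁) →* ℂˣ :=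
  ψ.comp D.proj

/-- Its restriction to `P`. -/
noncomputable def Side.lP (D : Side S P U W₁ W₂) (ψ : ↥W₂ →* ℂˣ) : ↥P →* ℂˣ :=
  (D.lhat ψ).comp (Subgroup.inclusion le_sup_left)

theorem Side.lP_W₂ (D : Side S P U W₁ W₂) (ψ : ↥W₂ →* ℂˣ) (b : W₂) :
    D.lP ψ ⟨b, D.W₂_le b.2⟩ = ψ b := congrArg ψ (D.proj_W₂ b)

theorem Side.lP_inj (D : Side S P U W₁ W₂) {ψ ψ' : ↥W₂ →* ℂˣ} (h : D.lP ψ = D.lP ψ') : ψ = ψ' :=
  MonoidHom.ext fun b => by rw [← D.lP_W₂ ψ b, h, D.lP_W₂]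

theorem Side.lP_fixed (D : Side S P U W₁ W₂) (ψ : ↥W₂ →* ℂˣ) (w : W₁) :
    (D.lP ψ).comp (D.cP ⟨w, D.W₁_le w.2⟩).toMonoidHom = D.lP ψ := by
  refine MonoidHom.ext fun x => ?_
  show D.lhat ψ (Subgroup.inclusion le_sup_left (D.cP ⟨w, D.W₁_le w.2⟩ x)) = _
  rw [show (Subgroup.inclusion le_sup_left (D.cP ⟨w, D.W₁_le w.2⟩ x) : ↥(P ⊔ W₁)) =
    ⟨w, Subgroup.mem_sup_right w.2⟩ * ⟨x, Subgroup.mem_sup_left x.2⟩ *
      (⟨w, Subgroup.mem_sup_right w.2⟩)⁻¹ from Subtype.ext (by simp)]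
  show ψ (D.proj _) = ψ (D.proj _)
  rw [map_mul D.proj, map_mul D.proj, map_inv D.proj, D.proj_W₁, one_mul, inv_one, mul_one]
  rfl

/-- Two translates of the fixed characters under `U` agree only if equal. -/
theorem Side.lP_translate (D : Side S P U W₁ W₂) {ψ ψ' : ↥W₂ →* ℂˣ} (hψ : ψ ≠ 1) {v v' : U}
    (h : (D.lP ψ).comp (D.cP ⟨v, D.U_le v.2⟩).toMonoidHom =
      (D.lP ψ').comp (D.cP ⟨v', D.U_le v'.2⟩).toMonoidHom) : ψ = ψ' ∧ v = v' := by
  set l := D.lP ψ with hl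
  set l' := D.lP ψ' with hl'
  have hcc : ∀ (m : P →* ℂˣ) (s s' : S),
      (m.comp (D.cP s).toMonoidHom).comp (D.cP s').toMonoidHom =
        m.comp (D.cP (s * s')).toMonoidHom :=
    fun m s s' => MonoidHom.ext fun z => by simp [D.cP_mul]
  have hone : ∀ m : P →* ℂˣ, m.comp (D.cP 1).toMonoidHom = m := fun m => MonoidHom.ext fun z =>
    congrArg m (Subtype.ext (by simp))
  have hl1 : l ≠ 1 := fun e => hψ (D.lP_inj (ψ' := 1) (by rw [← hl, e]; rfl))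
  set d : S := ⟨v, D.U_le v.2⟩ * (⟨v', D.U_le v'.2⟩)⁻¹ with hd
  have hdU : (d : G) ∈ U := U.mul_mem v.2 (U.inv_mem v'.2)
  have h1 : l.comp (D.cP d).toMonoidHom = l' := by
    rw [hd, ← hcc, h, hcc, mul_inv_cancel, hone]
  have hd1 : d = 1 := by
    by_contra hne
    haveI : Nontrivial W₁ := Finite.one_lt_card_iff_nontrivial.1 D.prime₁.one_lt
    obtain ⟨w, hw⟩ := exists_ne (1 : W₁)
    set s : S := ⟨w, D.W₁_le w.2⟩
    have h2 : l.comp (D.cP (d * s)).toMonoidHom = l.comp (D.cP d).toMonoidHom := by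
      rw [← hcc, h1, D.lP_fixed]
    have h3 : l.comp (D.cP (s⁻¹ * d * s * d⁻¹)).toMonoidHom = l := by
      have hs : l.comp (D.cP s⁻¹).toMonoidHom = l := by
        conv_lhs => rw [hl, ← D.lP_fixed ψ w, hcc, mul_inv_cancel, hone]
      rw [mul_assoc s⁻¹ d s, mul_assoc, ← hcc, hs, ← hcc, h2, hcc, mul_inv_cancel, hone]
    have hmem : (((s⁻¹ * d * s * d⁻¹ : S)) : G) ∈ U := by
      push_cast
      refine U.mul_mem ?_ (U.inv_mem hdU)
      have := (Subgroup.mem_set_normalizer_iff.1 (D.U_normal (W₁.inv_mem w.2)) _).1 hdU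
      simpa using this
    have h9 : (((s⁻¹ * d * s * d⁻¹ : S)) : G) = 1 := by
      by_contra h9
      exact D.dual_free hl1 hmem h9 h3
    push_cast at h9
    refine hne (Subtype.ext (D.fpf₁ w w.2 (fun e => hw (Subtype.ext e)) _ hdU ?_))
    have h10 : (w : G)⁻¹ * d * w = (d : G) := mul_inv_eq_one.1 h9
    calc (w : G) * (d : G) = (w : G) * ((w : G)⁻¹ * d * w) := by rw [h10]
      _ = (d : G) * w := by group
  refine ⟨D.lP_inj ?_, Subtype.ext (mul_inv_eq_one.1 (congrArg Subtype.val hd1))⟩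
  rw [← hl, ← hl', ← h1, hd1, hone]

/-- An element of `P W₁` on which `lhat ψ` is non-trivial. -/
theorem Side.lhat_support (D : Side S P U W₁ W₂) {ψ : ↥W₂ →* ℂˣ} {x : ↥(P ⊔ W₁)}
    (hx : D.lhat ψ x ≠ 1) : (x : G) ∈ bridgeSet S P W₁ W₂ := by
  obtain ⟨x', hx', w, hw, e⟩ := D.mem_PW x.2
  rcases eq_or_ne w 1 with hw1 | hw1
  · refine Or.inl ⟨by rw [e, hw1, mul_one]; exact hx', fun h => hx ?_⟩
    rw [Set.mem_singleton_iff] at h
    rw [show x = 1 from Subtype.ext h, map_one]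
  · obtain ⟨y, hy, a, ha, hya⟩ := D.exists_conj_W₂ hx' hw hw1
    have hxa : D.lhat ψ x = ψ ⟨a, ha⟩ := by
      have e2 : x = ⟨y, Subgroup.mem_sup_left hy⟩ * (⟨a, Subgroup.mem_sup_left (D.W₂_le ha)⟩ *
          ⟨w, Subgroup.mem_sup_right hw⟩) * (⟨y, Subgroup.mem_sup_left hy⟩)⁻¹ :=
        Subtype.ext (by rw [e, hya]; rfl)
      rw [e2]
      show ψ (D.proj _) = _
      rw [map_mul D.proj, map_mul D.proj, map_inv D.proj, map_mul D.proj ⟨a, _⟩, D.proj_W₂ ⟨a, ha⟩, D.proj_W₁ ⟨w, hw⟩,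
        mul_one]
      congr 1
      haveI := Fact.mk D.prime₂
      letI : CommGroup W₂ := (isCyclic_of_prime_card (α := W₂) rfl).commGroup
      exact mul_inv_cancel_comm _ _
    have ha1 : a ≠ 1 := fun h => hx (by
      rw [hxa, show (⟨a, ha⟩ : W₂) = 1 from Subtype.ext h, map_one])
    refine Or.inr ⟨y, D.P_le hy, w * a, mem_offSet_mul D.selfNorm (a := ⟨w, hw⟩) (b := ⟨a, ha⟩)
      (fun h => hw1 (congrArg Subtype.val h)) (fun h => ha1 (congrArg Subtype.val h)), ?_⟩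
    rw [D.selfNorm.2.2.2.1 w hw a ha, e, hya]

theorem conjSet_bridge (S P W₁ W₂ : Subgroup G) :
    conjSet (bridgeSet S P W₁ W₂) =
      conjSet ((P : Set G) \ {1}) ∪ conjSet (offSet W₁ W₂) := by
  rw [bridgeSet, conjSet_union]
  congr 1
  ext g
  constructor
  · rintro ⟨_, ⟨s, -, a, ha, rfl⟩, x, hx⟩
    exact ⟨a, ha, s⁻¹ * x, by
      calc s⁻¹ * x * g * (s⁻¹ * x)⁻¹ = s⁻¹ * (x * g * x⁻¹) * s := by group
        _ = a := by rw [hx]; group⟩
  · rintro ⟨a, ha, x, hx⟩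
    exact ⟨a, ⟨1, S.one_mem, a, ha, by simp⟩, x, hx⟩

section Ind

variable [Fintype G]

theorem Side.dvd_orderOf_bridgeSet (D : Side S P U W₁ W₂) {g : G}
    (hg : g ∈ conjSet (bridgeSet S P W₁ W₂)) : Nat.card W₂ ∣ orderOf g := by
  obtain ⟨a, ha, x, hx⟩ := hg
  have e : orderOf g = orderOf a := by
    rw [← hx]; exact (MulEquiv.orderOf_eq (MulAut.conj x) g).symm
  rw [e]
  rcases ha with h | ⟨s, -, v, hv, rfl⟩
  · rw [D.P_sdiff_order h]
  · rw [show orderOf (s * v * s⁻¹) = orderOf v from MulEquiv.orderOf_eq (MulAut.conj s) v]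
    by_contra hnd
    obtain ⟨hvW, hv1, hv2⟩ := mem_offSet.1 hv
    have hc := Subgroup.orderOf_dvd_natCard _ hvW
    rw [card_sup_eq D.selfNorm] at hc
    have hq : orderOf v ∣ Nat.card W₁ :=
      (Nat.coprime_comm.1 (D.prime₂.coprime_iff_not_dvd.2 hnd)).dvd_of_dvd_mul_right hc
    obtain ⟨hW1, hW2, hdisj, hcomm, hcyc, hnorm⟩ := id D.selfNorm
    have h2 : ((pr2 W₁ W₂ hdisj hcomm ⟨v, hvW⟩ : W₂) : G) ^ Nat.card W₁ = 1 := by
      rw [← SubmonoidClass.coe_pow, ← map_pow,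
        show (⟨v, hvW⟩ : ↥(W₁ ⊔ W₂)) ^ Nat.card W₁ = 1 from
          Subtype.ext (orderOf_dvd_iff_pow_eq_one.1 hq), map_one, OneMemClass.coe_one]
    have h3 := orderOf_eq_one_iff.1 (Nat.eq_one_of_dvd_coprimes D.coprime
      (orderOf_dvd_of_pow_eq_one h2)
      (Subgroup.orderOf_dvd_natCard _ (pr2 W₁ W₂ hdisj hcomm ⟨v, hvW⟩).2))
    exact hv1 ((pr2_eq_one_iff W₁ W₂ hdisj hcomm _).1 (Subtype.ext h3))


/-- `Ind_{PW₁}^G (1 - lhat ψ)`. -/
noncomputable def Side.betaG (D : Side S P U W₁ W₂) (ψ : ↥W₂ →* ℂˣ) : G → ℂ :=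
  indFun (P ⊔ W₁) (fun x => 1 - (D.lhat ψ x : ℂ))

theorem Side.ind_eq_zero (D : Side S P U W₁ W₂) {f : ↥(P ⊔ W₁) → ℂ}
    (hf : ∀ x : ↥(P ⊔ W₁), f x ≠ 0 → (x : G) ∈ bridgeSet S P W₁ W₂) {g : G}
    (hg : g ∉ conjSet (bridgeSet S P W₁ W₂)) : indFun (P ⊔ W₁) f g = 0 := by
  classical
  rw [CharInd.indFun_apply, Finset.sum_eq_zero, mul_zero]
  intro x _
  by_cases hm : x⁻¹ * g * x ∈ P ⊔ W₁
  · rw [CharInd.extendByZero_mem _ hm]
    by_contra h
    exact hg ⟨_, hf _ h, x⁻¹, by simp⟩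
  · exact CharInd.extendByZero_notMem _ hm

open Classical in
/-- On the bridge set only conjugation inside `S` contributes. -/
theorem Side.ind_apply (D : Side S P U W₁ W₂) {f : ↥(P ⊔ W₁) → ℂ}
    (hf : ∀ x : ↥(P ⊔ W₁), f x ≠ 0 → (x : G) ∈ bridgeSet S P W₁ W₂) {g : G}
    (hg : g ∈ bridgeSet S P W₁ W₂) :
    indFun (P ⊔ W₁) f g = (Nat.card ↥(P ⊔ W₁) : ℂ)⁻¹ *
      ∑ s : S, extendByZero (P ⊔ W₁) f ((s : G)⁻¹ * g * s) := by
  rw [CharInd.indFun_apply]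
  congr 1
  rw [← Finset.sum_filter_add_sum_filter_not Finset.univ (fun x : G => x ∈ S),
    Finset.sum_subtype (p := fun x => x ∈ S) (Finset.univ.filter fun x : G => x ∈ S)
      (fun x => by simp), Finset.sum_eq_zero (s := Finset.univ.filter fun x : G => ¬ x ∈ S),
    add_zero]
  intro x hx
  by_contra hne
  by_cases hm : x⁻¹ * g * x ∈ P ⊔ W₁
  · rw [CharInd.extendByZero_mem _ hm] at hne
    have hmem := hf _ hne
    have hD := D.dade_bridge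
    obtain ⟨t, ht, htg⟩ := hD.fusion g hg x⁻¹ (by simpa using hmem)
    have hc : t⁻¹ * x⁻¹ ∈ centralizer ({g} : Set G) := by
      refine mem_centralizer_singleton_iff.2 ?_
      calc t⁻¹ * x⁻¹ * g = t⁻¹ * (x⁻¹ * g * x⁻¹⁻¹) * x⁻¹ := by group
        _ = t⁻¹ * (t * g * t⁻¹) * x⁻¹ := by rw [htg]
        _ = g * (t⁻¹ * x⁻¹) := by group
    rw [← hD.sup_eq g hg, bot_sup_eq] at hc
    have := S.mul_mem ht hc.1
    rw [mul_inv_cancel_left] at this
    exact (Finset.mem_filter.1 hx).2 (S.inv_mem_iff.1 this)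
  · exact hne (CharInd.extendByZero_notMem _ hm)

/-- Value on `W₁W₂ \ (W₁ ∪ W₂)`. -/
theorem Side.ind_apply_offSet (D : Side S P U W₁ W₂) {f : ↥(P ⊔ W₁) → ℂ}
    (hf : ∀ x : ↥(P ⊔ W₁), f x ≠ 0 → (x : G) ∈ bridgeSet S P W₁ W₂)
    (hcl : ∀ x y : ↥(P ⊔ W₁), f (x * y * x⁻¹) = f y) {a : W₁} {b : W₂} (ha : a ≠ 1) (hb : b ≠ 1) :
    indFun (P ⊔ W₁) f ((a : G) * b) = f (⟨a, Subgroup.mem_sup_right a.2⟩ *
      ⟨b, Subgroup.mem_sup_left (D.W₂_le b.2)⟩) := by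
  classical
  have hoff := mem_offSet_mul D.selfNorm ha hb
  rw [D.ind_apply hf (Or.inr ⟨1, S.one_mem, _, hoff, by simp⟩)]
  set ab : ↥(P ⊔ W₁) := ⟨a, Subgroup.mem_sup_right a.2⟩ * ⟨b, Subgroup.mem_sup_left (D.W₂_le b.2)⟩
  have hWle : W₁ ⊔ W₂ ≤ P ⊔ W₁ := sup_le le_sup_right (D.W₂_le.trans le_sup_left)
  have hterm : ∀ s : S, extendByZero (P ⊔ W₁) f ((s : G)⁻¹ * ((a : G) * b) * s) =
      if (s : G) ∈ P ⊔ W₁ then f ab else 0 := by
    intro s
    split_ifs with hs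
    · have hm : (s : G)⁻¹ * ((a : G) * b) * s ∈ P ⊔ W₁ :=
        mul_mem (mul_mem (inv_mem hs) ab.2) hs
      rw [CharInd.extendByZero_mem _ hm, ← hcl (⟨s, hs⟩)⁻¹ ab]
      congr 1
      exact Subtype.ext (by simp [ab])
    · by_cases hm : (s : G)⁻¹ * ((a : G) * b) * s ∈ P ⊔ W₁
      · rw [CharInd.extendByZero_mem _ hm]
        by_contra hne
        obtain ⟨x, hx, w, hw, e⟩ := D.mem_PW hm
        have hord : orderOf ((s : G)⁻¹ * ((a : G) * b) * s) = orderOf ((a : G) * b) := by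
          simpa using MulEquiv.orderOf_eq (MulAut.conj (s : G)⁻¹) ((a : G) * b)
        have hw1 : w ≠ 1 := fun h => D.offSet_order hoff (by
          rw [← hord, e, h, mul_one]
          exact orderOf_dvd_of_pow_eq_one (D.P_exp x hx))
        obtain ⟨y, hy, a', ha', hya⟩ := D.exists_conj_W₂ hx hw hw1
        have ha1 : a' ≠ 1 := fun h => by
          have h1 : orderOf ((a : G) * b) ∣ Nat.card W₁ := by
            rw [← hord, e, hya, h, one_mul,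
              show orderOf (y * w * y⁻¹) = orderOf w from MulEquiv.orderOf_eq (MulAut.conj y) w]
            exact Subgroup.orderOf_dvd_natCard _ hw
          obtain ⟨h2, h3, -⟩ := (mem_offSet.1 hoff)
          have h4 : ((b : G)) ^ Nat.card W₁ = 1 := by
            have h5 := orderOf_dvd_iff_pow_eq_one.1 h1
            rwa [(show Commute (a : G) b from D.selfNorm.2.2.2.1 a a.2 b b.2).mul_pow,
              show (a : G) ^ Nat.card W₁ = 1 from congrArg Subtype.val (pow_card_eq_one' (x := a)),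
              one_mul] at h5
          exact hb (Subtype.ext (orderOf_eq_one_iff.1 (Nat.eq_one_of_dvd_coprimes D.coprime
            (orderOf_dvd_of_pow_eq_one h4) (Subgroup.orderOf_dvd_natCard _ b.2))))
        have hv : w * a' ∈ offSet W₁ W₂ := mem_offSet_mul D.selfNorm (a := ⟨w, hw⟩) (b := ⟨a', ha'⟩)
          (fun h => hw1 (congrArg Subtype.val h)) (fun h => ha1 (congrArg Subtype.val h))
        have hz : ((s : G) * y)⁻¹ * ((a : G) * b) * (((s : G) * y)⁻¹)⁻¹ = w * a' := by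
          calc _ = y⁻¹ * ((s : G)⁻¹ * ((a : G) * b) * s) * y := by group
            _ = y⁻¹ * (y * (a' * w) * y⁻¹) * y := by rw [e, hya]
            _ = a' * w := by group
            _ = w * a' := (D.selfNorm.2.2.2.1 w hw a' ha').symm
        have hsy := hWle (mem_W_of_conj D.selfNorm hoff (hz ▸ hv))
        have h6 := mul_mem (inv_mem hsy) (inv_mem (Subgroup.mem_sup_left hy : y ∈ P ⊔ W₁))
        rw [inv_inv, mul_inv_cancel_right] at h6
        exact hs h6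
      · exact CharInd.extendByZero_notMem _ hm
  rw [Finset.sum_congr rfl fun s _ => hterm s, Finset.sum_ite, Finset.sum_const_zero, add_zero,
    Finset.sum_const, nsmul_eq_mul]
  have hle : P ⊔ W₁ ≤ S := sup_le D.P_le D.W₁_le
  have hcard : (Finset.univ.filter fun s : S => (s : G) ∈ P ⊔ W₁).card = Nat.card ↥(P ⊔ W₁) := by
    rw [← Fintype.card_subtype, ← Nat.card_eq_fintype_card]
    exact Nat.card_congr (Subgroup.subgroupOfEquivOfLe hle).toEquiv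
  rw [hcard, ← mul_assoc, inv_mul_cancel₀ (Nat.cast_ne_zero.2 Nat.card_pos.ne'), one_mul]

open Classical in
/-- Value on `P \ {1}`. -/
theorem Side.ind_apply_P (D : Side S P U W₁ W₂) {f : ↥(P ⊔ W₁) → ℂ}
    (hf : ∀ x : ↥(P ⊔ W₁), f x ≠ 0 → (x : G) ∈ bridgeSet S P W₁ W₂)
    (hcl : ∀ x y : ↥(P ⊔ W₁), f (x * y * x⁻¹) = f y) {x : P} (hx : x ≠ 1) :
    indFun (P ⊔ W₁) f x =
      ∑ v : U, f (Subgroup.inclusion le_sup_left (D.cP (⟨v, D.U_le v.2⟩)⁻¹ x)) := by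
  haveI : Fintype W₁ := Fintype.ofFinite W₁
  rw [D.ind_apply hf (Or.inl ⟨x.2, fun h => hx (Subtype.ext h)⟩)]
  let F : P × U × W₁ → S := fun z =>
    ⟨(z.1 : G) * z.2.1 * z.2.2,
      S.mul_mem (S.mul_mem (D.P_le z.1.2) (D.U_le z.2.1.2)) (D.W₁_le z.2.2.2)⟩
  have hFb : Function.Bijective F := by
    have hsurj : Function.Surjective F := fun s => by
      obtain ⟨y, hy, v, hv, w, hw, e⟩ := D.decomp s s.2
      exact ⟨(⟨y, hy⟩, ⟨v, hv⟩, ⟨w, hw⟩), Subtype.ext e.symm⟩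
    refine (Nat.bijective_iff_surjective_and_card F).2 ⟨hsurj, ?_⟩
    rw [Nat.card_prod, Nat.card_prod, D.card_S, mul_assoc]
  set g : U → ℂ := fun v =>
    f (Subgroup.inclusion le_sup_left (D.cP (⟨v, D.U_le v.2⟩)⁻¹ x)) with hg
  have hterm : ∀ z : P × U × W₁,
      extendByZero (P ⊔ W₁) f ((F z : G)⁻¹ * (x : G) * (F z : G)) = g z.2.1 := by
    rintro ⟨y, v, w⟩
    set x' := D.cP (⟨v, D.U_le v.2⟩)⁻¹ x with hx'
    set w' : ↥(P ⊔ W₁) := ⟨w, Subgroup.mem_sup_right w.2⟩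
    have e : ((y : G) * v * w)⁻¹ * (x : G) * ((y : G) * v * w) =
        ((w'⁻¹ * Subgroup.inclusion le_sup_left x' * w'⁻¹⁻¹ : ↥(P ⊔ W₁)) : G) := by
      have hyx : (y : G)⁻¹ * x * y = x := by
        rw [D.P_comm _ (P.inv_mem y.2) x x.2, inv_mul_cancel_right]
      calc _ = (w : G)⁻¹ * ((v : G)⁻¹ * ((y : G)⁻¹ * x * y) * v) * w := by group
        _ = (w : G)⁻¹ * ((v : G)⁻¹ * x * v) * w := by rw [hyx]
        _ = _ := by simp [w', hx', mul_assoc]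
    show extendByZero (P ⊔ W₁) f (((y : G) * v * w)⁻¹ * x * ((y : G) * v * w)) = _
    rw [e, CharInd.extendByZero_coe, hcl]
  show _ = ∑ v, g v
  rw [← Fintype.sum_bijective F hFb _ _ fun z => rfl, Finset.sum_congr rfl fun z _ => hterm z]
  simp only [Fintype.sum_prod_type, Finset.sum_const, nsmul_eq_mul, Finset.card_univ]
  rw [← Finset.mul_sum, D.card_PW, Nat.cast_mul, ← Nat.card_eq_fintype_card (α := P),
    ← Nat.card_eq_fintype_card (α := W₁)]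
  have h1 : (Nat.card P : ℂ) ≠ 0 := Nat.cast_ne_zero.2 Nat.card_pos.ne'
  have h2 : (Nat.card W₁ : ℂ) ≠ 0 := Nat.cast_ne_zero.2 Nat.card_pos.ne'
  field_simp

end Ind

end Cfsg.Agent.PF14
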