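import Cfsg.Agent.PF14.Bridge
import Cfsg.Agent.PF14.Values

/-!
The norm of the bridge of one side, and the decomposition `Ind (1 - λ) = 1 - η 1 ψ + Γ`.
-/

set_option autoImplicit false
set_option linter.unusedVariables false
set_option linter.unusedSectionVars false

namespace Cfsg.Agent.PF14

open Cfsg OddChar OddChar.CycTI Subgroup
open scoped ComplexConjugate

/-- Orthogonality of linear characters. -/
theorem sum_hom_conj {A : Type*} [Group A] [Fintype A] [DecidableEq (A →* ℂˣ)] (l l' : A →* ℂˣ) :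
    ∑ x : A, (l x : ℂ) * conj (l' x : ℂ) = if l = l' then (Nat.card A : ℂ) else 0 := by
  split_ifs with h
  · subst h
    rw [Finset.sum_congr rfl (g := fun _ => (1 : ℂ)) fun x _ => by
      rw [Complex.mul_conj, Complex.normSq_eq_norm_sq, CycTI.norm_hom_apply]; norm_num,
      Finset.sum_const, Finset.card_univ, Nat.card_eq_fintype_card, nsmul_eq_mul, mul_one]
  · have hne : l / l' ≠ 1 := fun e => h (div_eq_one.1 e)
    rw [Finset.sum_congr rfl (g := fun x => (((l / l') x : ℂˣ) : ℂ)) fun x _ => ?_]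
    · exact sum_hom_units_eq_zero ((Units.coeHom ℂ).comp (l / l'))
        fun e => hne (MonoidHom.ext fun x => Units.ext (DFunLike.congr_fun e x))
    · rw [MonoidHom.div_apply, Units.val_div_eq_div_val, div_eq_mul_inv,
        Complex.inv_eq_conj (CycTI.norm_hom_apply l' x)]

universe uG

variable {G : Type uG} [Group G] [Fintype G] {S P U W₁ W₂ : Subgroup G}
variable {η : (↥W₁ →* ℂˣ) → (↥W₂ →* ℂˣ) → G → ℂ}

/-- `Ind_{PW₁}^G (lhat a - lhat b)`. -/
noncomputable def Side.br (D : Side S P U W₁ W₂) (a b : ↥W₂ →* ℂˣ) : G → ℂ :=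
  indFun (P ⊔ W₁) (fun x => (D.lhat a x : ℂ) - (D.lhat b x : ℂ))

theorem Side.br_fun_support (D : Side S P U W₁ W₂) (a b : ↥W₂ →* ℂˣ) :
    ∀ x : ↥(P ⊔ W₁), (D.lhat a x : ℂ) - (D.lhat b x : ℂ) ≠ 0 →
      (x : G) ∈ bridgeSet S P W₁ W₂ := by
  intro x hx
  by_cases ha : D.lhat a x = 1
  · exact D.lhat_support (ψ := b) fun hb => hx (by rw [ha, hb, sub_self])
  · exact D.lhat_support ha

theorem Side.br_fun_conj (D : Side S P U W₁ W₂) (a b : ↥W₂ →* ℂˣ) (x y : ↥(P ⊔ W₁)) :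
    (D.lhat a (x * y * x⁻¹) : ℂ) - (D.lhat b (x * y * x⁻¹) : ℂ) =
      (D.lhat a y : ℂ) - (D.lhat b y : ℂ) := by
  simp only [map_mul, map_inv, mul_inv_cancel_comm]

theorem Side.br_support (D : Side S P U W₁ W₂) (a b : ↥W₂ →* ℂˣ) {g : G}
    (hg : g ∉ conjSet (bridgeSet S P W₁ W₂)) : D.br a b g = 0 :=
  D.ind_eq_zero (D.br_fun_support a b) hg

theorem Side.br_gen (D : Side S P U W₁ W₂) (a b : ↥W₂ →* ℂˣ) :
    IsGeneralizedCharacter G (D.br a b) := by
  haveI := Fintype.ofFinite ↥(P ⊔ W₁)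
  exact CharInd.isGeneralizedCharacter_indFun _ (CharCore.isGeneralized_sub
    (CharCore.irr_isGeneralized ⟨_, CharCore.isIrrCharacter_hom (D.lhat a)⟩)
    (CharCore.irr_isGeneralized ⟨_, CharCore.isIrrCharacter_hom (D.lhat b)⟩))

theorem Side.br_sub (D : Side S P U W₁ W₂) (a b : ↥W₂ →* ℂˣ) :
    D.br a b = D.br 1 b - D.br 1 a := by
  rw [Side.br, Side.br, Side.br, ← CharInd.indFun_sub]
  congr 1
  funext x
  simp only [Pi.sub_apply]
  ring

theorem Side.br_offSet (D : Side S P U W₁ W₂) (a b : ↥W₂ →* ℂˣ) {s : W₁} {t : W₂} (hs : s ≠ 1)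
    (ht : t ≠ 1) : D.br a b ((s : G) * t) = (a t : ℂ) - (b t : ℂ) := by
  rw [Side.br, D.ind_apply_offSet (D.br_fun_support a b) (D.br_fun_conj a b) hs ht]
  have h : ∀ c : ↥W₂ →* ℂˣ, D.lhat c (⟨s, Subgroup.mem_sup_right s.2⟩ *
      ⟨t, Subgroup.mem_sup_left (D.W₂_le t.2)⟩) = c t := fun c => by
    show c (D.proj _) = _
    rw [map_mul D.proj, D.proj_W₁, D.proj_W₂, one_mul]
  rw [h, h]

theorem Side.br_one_inner (D : Side S P U W₁ W₂) [DecidableEq (↥W₂ →* ℂˣ)] (a b : ↥W₂ →* ℂˣ) :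
    classInner (D.br a b) (fun _ => 1) =
      (if a = 1 then 1 else 0) - (if b = 1 then 1 else 0) := by
  classical
  haveI := Fintype.ofFinite ↥(P ⊔ W₁)
  rw [Side.br, CharInd.classInner_indFun_left _ _ (fun _ _ => rfl)]
  have h : ∀ c : ↥W₂ →* ℂˣ, classInner (fun x : ↥(P ⊔ W₁) => (D.lhat c x : ℂ)) (fun _ => 1) =
      if c = 1 then 1 else 0 := fun c => by
    have h1 := sum_hom_conj (D.lhat c) 1
    simp only [MonoidHom.one_apply, Units.val_one, map_one, mul_one] at h1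
    rw [CharCore.classInner_def]
    simp only [map_one, mul_one, h1]
    have hiff : D.lhat c = 1 ↔ c = 1 :=
      ⟨fun e => D.lP_inj (ψ' := 1) (by rw [Side.lP, e]; rfl), fun e => by subst e; rfl⟩
    simp only [hiff]
    split_ifs
    · rw [inv_mul_cancel₀ (Nat.cast_ne_zero.2 Nat.card_pos.ne')]
    · rw [mul_zero]
  rw [show (fun x : ↥(P ⊔ W₁) => (D.lhat a x : ℂ) - (D.lhat b x : ℂ)) =
    (fun x => (D.lhat a x : ℂ)) - fun x => (D.lhat b x : ℂ) from rfl,
    CharCore.classInner_sub_left, h, h]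

/-- The translates of `lP c` under `U`. -/
noncomputable def Side.tr (D : Side S P U W₁ W₂) (c : ↥W₂ →* ℂˣ) (v : U) : ↥P →* ℂˣ :=
  (D.lP c).comp (D.cP (⟨v, D.U_le v.2⟩)⁻¹).toMonoidHom

theorem Side.br_P (D : Side S P U W₁ W₂) (a b : ↥W₂ →* ℂˣ) [Fintype U] {x : P} (hx : x ≠ 1) :
    D.br a b x = ∑ v : U, ((D.tr a v x : ℂ) - (D.tr b v x : ℂ)) := by
  classical
  rw [Side.br, D.ind_apply_P (D.br_fun_support a b) (D.br_fun_conj a b) hx]
  exact Finset.sum_congr (by ext; simp) fun v _ => rfl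

theorem Side.tr_one (D : Side S P U W₁ W₂) (v : U) : D.tr 1 v = 1 :=
  MonoidHom.ext fun x => rfl

theorem Side.tr_inj (D : Side S P U W₁ W₂) {c c' : ↥W₂ →* ℂˣ} {v v' : U}
    (h : D.tr c v = D.tr c' v') : c = c' := by
  by_cases hc : c = 1
  · by_contra hne
    have e : D.tr c' v' = 1 := by rw [← h, hc, D.tr_one]
    refine hne (hc.trans (D.lP_inj (ψ := 1) (MonoidHom.ext fun y => ?_)))
    have := DFunLike.congr_fun e ((D.cP (⟨v', D.U_le v'.2⟩)⁻¹).symm y)
    simp only [Side.tr, MonoidHom.comp_apply, MulEquiv.coe_toMonoidHom,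
      MulEquiv.apply_symm_apply, MonoidHom.one_apply] at this
    rw [this]
    rfl
  · exact (D.lP_translate hc (v := v⁻¹) (v' := v'⁻¹) h).1

theorem Side.tr_inj' (D : Side S P U W₁ W₂) {c : ↥W₂ →* ℂˣ} (hc : c ≠ 1) {v v' : U}
    (h : D.tr c v = D.tr c v') : v = v' :=
  inv_injective (D.lP_translate hc (v := v⁻¹) (v' := v'⁻¹) h).2

/-- The number of coincidences among the translates of `lP c`. -/
theorem Side.sum_tr_eq (D : Side S P U W₁ W₂) (c : ↥W₂ →* ℂˣ) [Fintype U]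
    [DecidableEq (↥P →* ℂˣ)] [DecidableEq (↥W₂ →* ℂˣ)] :
    ∑ v : U, ∑ w : U, (if D.tr c v = D.tr c w then (Nat.card P : ℂ) else 0) =
      (Nat.card P : ℂ) * if c = 1 then (Nat.card U : ℂ) ^ 2 else (Nat.card U : ℂ) := by
  split_ifs with h
  · subst h
    simp only [D.tr_one, if_true, Finset.sum_const, Finset.card_univ, nsmul_eq_mul,
      ← Nat.card_eq_fintype_card]
    ring
  · classical
    rw [Finset.sum_congr rfl (g := fun _ => (Nat.card P : ℂ)) fun v _ => by
      rw [Finset.sum_eq_single v (fun w _ hw => if_neg fun e => hw (D.tr_inj' h e).symm)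
        (fun hh => absurd (Finset.mem_univ _) hh), if_pos rfl]]
    simp only [Finset.sum_const, Finset.card_univ, nsmul_eq_mul, ← Nat.card_eq_fintype_card]
    ring

theorem Side.br_norm (D : Side S P U W₁ W₂) [DecidableEq (↥W₂ →* ℂˣ)] (a b : ↥W₂ →* ℂˣ)
    (hab : a ≠ b) :
    (classInner (D.br a b) (D.br a b)).re =
      ((if a = 1 then (Nat.card U : ℝ) ^ 2 else (Nat.card U : ℝ)) +
          (if b = 1 then (Nat.card U : ℝ) ^ 2 else (Nat.card U : ℝ))) /
        ((Nat.card U : ℝ) * Nat.card W₁) + 2 * ((Nat.card W₁ : ℝ) - 1) / Nat.card W₁ := by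
  classical
  haveI : Fintype U := Fintype.ofFinite U
  haveI : Fintype P := Fintype.ofFinite P
  haveI : Fintype W₂ := Fintype.ofFinite W₂
  haveI : Fintype W₁ := Fintype.ofFinite W₁
  have hcl := CharCore.IsGeneralizedCharacter.isClassFunction (D.br_gen a b)
  have hdis : Disjoint (conjSet ((P : Set G) \ {1})) (conjSet (offSet W₁ W₂)) := by
    refine Set.disjoint_left.2 fun g h1 ⟨v, hv, y, hy⟩ => ?_
    have e : orderOf g = orderOf v := by
      rw [← hy]; exact (MulEquiv.orderOf_eq (MulAut.conj y) g).symm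
    refine D.offSet_order hv ?_
    rw [← e, orderOf_eq_of_conjSet h1 fun x hx => D.P_sdiff_order hx]
  rw [norm_eq_mass_of_support fun g hg => D.br_support a b hg, conjSet_bridge, mass_union _ hdis,
    mass_conjSet D.dade_P hcl, mass_conjSet (dade_offSet D.selfNorm) hcl]
  congr 1
  · trans (Nat.card S : ℝ)⁻¹ * ∑ x ∈ Finset.univ.erase (1 : P), ‖D.br a b x‖ ^ 2
    · congr 1
      convert sum_subgroup_ne_one P fun g => ‖D.br a b g‖ ^ 2 using 2 <;> ext <;> simp
    rw [D.card_S]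
    set F : P → ℂ := fun x => ∑ v : U, ((D.tr a v x : ℂ) - (D.tr b v x : ℂ)) with hF
    have h1 : ∑ x ∈ Finset.univ.erase (1 : P), ‖D.br a b x‖ ^ 2 = ∑ x : P, ‖F x‖ ^ 2 := by
      rw [← Finset.add_sum_erase _ _ (Finset.mem_univ (1 : P)),
        show F 1 = 0 by simp [hF], norm_zero, zero_pow two_ne_zero, zero_add]
      exact Finset.sum_congr rfl fun x hx => by rw [D.br_P a b (Finset.ne_of_mem_erase hx)]
    have h2 : ((∑ x : P, ‖F x‖ ^ 2 : ℝ) : ℂ) = (Nat.card P : ℂ) *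
        ((if a = 1 then (Nat.card U : ℂ) ^ 2 else (Nat.card U : ℂ)) +
          if b = 1 then (Nat.card U : ℂ) ^ 2 else (Nat.card U : ℂ)) := by
      have hx : ∀ x : P, ((‖F x‖ ^ 2 : ℝ) : ℂ) = ∑ v : U, ∑ w : U,
          ((D.tr a v x : ℂ) * conj (D.tr a w x : ℂ) - (D.tr a v x : ℂ) * conj (D.tr b w x : ℂ) -
            (D.tr b v x : ℂ) * conj (D.tr a w x : ℂ) + (D.tr b v x : ℂ) * conj (D.tr b w x : ℂ)) := by
        intro x
        rw [← Complex.normSq_eq_norm_sq, ← Complex.mul_conj]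
        simp only [hF, map_sum, map_sub, Finset.sum_mul, Finset.mul_sum]
        exact Finset.sum_comm.trans (Finset.sum_congr rfl fun v _ =>
          Finset.sum_congr rfl fun w _ => by ring)
      rw [Complex.ofReal_sum, Finset.sum_congr rfl fun x _ => hx x, Finset.sum_comm,
        Finset.sum_congr rfl fun v _ => Finset.sum_comm, mul_add, ← D.sum_tr_eq a, ← D.sum_tr_eq b,
        ← Finset.sum_add_distrib]
      refine Finset.sum_congr rfl fun v _ => ?_
      rw [← Finset.sum_add_distrib]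
      refine Finset.sum_congr rfl fun w _ => ?_
      simp only [Finset.sum_add_distrib, Finset.sum_sub_distrib, sum_hom_conj]
      rw [if_neg (fun e => hab (D.tr_inj e)), if_neg (fun e => hab (D.tr_inj e).symm)]
      ring
    have h3 : (∑ x : P, ‖F x‖ ^ 2 : ℝ) = (Nat.card P : ℝ) *
        ((if a = 1 then (Nat.card U : ℝ) ^ 2 else (Nat.card U : ℝ)) +
          if b = 1 then (Nat.card U : ℝ) ^ 2 else (Nat.card U : ℝ)) := by
      apply Complex.ofReal_injective
      rw [h2]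
      split_ifs <;> push_cast <;> ring
    rw [h1, h3]
    have hP : (Nat.card P : ℝ) ≠ 0 := Nat.cast_ne_zero.2 Nat.card_pos.ne'
    push_cast
    field_simp
  · rw [sum_offSet D.selfNorm fun g => ‖D.br a b g‖ ^ 2, card_sup_eq D.selfNorm,
      Finset.sum_congr rfl fun s hs => Finset.sum_congr rfl fun t ht => by
        rw [D.br_offSet a b (Finset.ne_of_mem_erase hs) (Finset.ne_of_mem_erase ht)]]
    have h1 : ∑ t ∈ Finset.univ.erase (1 : W₂), ‖(a t : ℂ) - (b t : ℂ)‖ ^ 2 =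
        2 * (Nat.card W₂ : ℝ) := by
      rw [Finset.sum_erase (f := fun t : W₂ => ‖(a t : ℂ) - (b t : ℂ)‖ ^ 2) _ (by simp)]
      apply Complex.ofReal_injective
      rw [Complex.ofReal_sum]
      simp only [← Complex.normSq_eq_norm_sq, ← Complex.mul_conj, map_sub, sub_mul, mul_sub,
        Finset.sum_sub_distrib, sum_hom_conj, if_neg hab, if_neg (Ne.symm hab), if_true]
      push_cast
      ring
    have h1' : ∀ (i : DecidableEq W₂) (j : Fintype W₂),
        ∑ t ∈ @Finset.erase _ i (@Finset.univ _ j) (1 : W₂), ‖(a t : ℂ) - (b t : ℂ)‖ ^ 2 =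
          2 * (Nat.card W₂ : ℝ) := fun i j => by convert h1
    simp only [h1', Finset.sum_const, nsmul_eq_mul, Finset.card_erase_of_mem, Finset.mem_univ,
      Finset.card_univ, ← Nat.card_eq_fintype_card]
    rw [Nat.cast_sub Nat.card_pos]
    have hW₂ : (Nat.card W₂ : ℝ) ≠ 0 := Nat.cast_ne_zero.2 Nat.card_pos.ne'
    push_cast
    field_simp

theorem Side.betaG_eq (D : Side S P U W₁ W₂) (ψ : ↥W₂ →* ℂˣ) : D.betaG ψ = D.br 1 ψ := rfl

/-- The bridge: `Ind (1 - λ) = 1 - η 1 ψ + Γ`. -/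
theorem Side.bridge (D : Side S P U W₁ W₂) (E : EtaArr W₁ W₂ η) :
    ∃ Γ : G → ℂ, IsGeneralizedCharacter G Γ ∧ (∀ g, conj (Γ g) = Γ g) ∧
      classInner Γ (fun _ => 1) = 0 ∧
      (∀ ψ : ↥W₂ →* ℂˣ, ψ ≠ 1 → D.br 1 ψ = (fun _ => 1) - η 1 ψ + Γ) ∧
      ∀ {ι : Type uG} [Fintype ι] (f : ι → G → ℂ) (c : ι → ℤ),
        (∀ i, classInner (f i) (f i) = 1) → (∀ i j, i ≠ j → classInner (f i) (f j) = 0) →
        (∀ i φ ψ, classInner (f i) (η φ ψ) = 0) → (∀ i, classInner Γ (f i) = c i) →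
        ((∑ i, c i ^ 2 : ℤ) : ℝ) ≤ ((Nat.card U : ℝ) - 1) / Nat.card W₁ := by
  classical
  obtain ⟨ψ₁, hψ₁⟩ := exists_ne_one D.prime₂
  have h2 := D.two_lt
  haveI := E.dual_finite₂
  haveI := Fintype.ofFinite (↥W₂ →* ℂˣ)
  set Γ := D.br 1 ψ₁ - (fun _ => 1) + η 1 ψ₁ with hΓ
  have hind : ∀ ψ : ↥W₂ →* ℂˣ, ψ ≠ 1 → D.br 1 ψ = (fun _ => 1) - η 1 ψ + Γ := by
    intro ψ hψ
    rcases eq_or_ne ψ ψ₁ with e | hne
    · rw [hΓ, e]; abel
    · have hn := D.br_norm ψ₁ ψ (Ne.symm hne)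
      rw [if_neg hψ₁, if_neg hψ] at hn
      have hU : (Nat.card U : ℝ) ≠ 0 := Nat.cast_ne_zero.2 Nat.card_pos.ne'
      have hq : (Nat.card W₁ : ℝ) ≠ 0 := Nat.cast_ne_zero.2 Nat.card_pos.ne'
      have hn2 : classInner (D.br ψ₁ ψ) (D.br ψ₁ ψ) = 2 := by
        have h3 : (classInner (D.br ψ₁ ψ) (D.br ψ₁ ψ)).re = 2 := by
          rw [hn]; field_simp; ring
        rw [Coherence.inner_self] at h3 ⊢
        rw [Complex.ofReal_re] at h3
        rw [h3]; norm_num
      have h := E.eq_sub_of_norm h2.1 h2.2 hψ₁ hψ (Ne.symm hne) (D.br_gen ψ₁ ψ)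
        (fun v hv => by
          obtain ⟨hW1, hW2, hdisj, hcomm, hcyc, hnorm⟩ := id E.selfNorm
          obtain ⟨hvW, hv1, hv2⟩ := mem_offSet.1 hv
          have hm := pr_mul_pr W₁ W₂ hdisj hcomm ⟨v, hvW⟩
          simp only at hm
          have hs : pr1 W₁ W₂ hdisj hcomm ⟨v, hvW⟩ ≠ 1 :=
            fun h => hv2 ((pr1_eq_one_iff W₁ W₂ hdisj hcomm _).1 h)
          have ht : pr2 W₁ W₂ hdisj hcomm ⟨v, hvW⟩ ≠ 1 :=
            fun h => hv1 ((pr2_eq_one_iff W₁ W₂ hdisj hcomm _).1 h)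
          rw [hm, D.br_offSet _ _ hs ht, E.eq_on _ _ _ _ hs ht, E.eq_on _ _ _ _ hs ht]
          simp)
        (by rw [D.br_one_inner, if_neg hψ₁, if_neg hψ, sub_zero]) hn2
      rw [D.br_sub ψ₁ ψ] at h
      rw [hΓ, show D.br 1 ψ = D.br 1 ψ₁ + (η 1 ψ₁ - η 1 ψ) from by rw [← h]; abel]
      abel
  have hΓgen : IsGeneralizedCharacter G Γ := by
    rw [hΓ]
    exact CharCore.isGeneralized_add (CharCore.isGeneralized_sub (D.br_gen 1 ψ₁)
      (E.one ▸ E.gen 1 1)) (E.gen 1 ψ₁)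
  have hη1 : ∀ ψ : ↥W₂ →* ℂˣ, ψ ≠ 1 → classInner (η 1 ψ) (fun _ => (1 : ℂ)) = 0 := fun ψ hψ => by
    rw [← E.one]; exact E.orth _ _ _ _ fun e => hψ (Prod.ext_iff.1 e).2
  have h11 : classInner (fun _ : G => (1 : ℂ)) (fun _ => 1) = 1 := by
    rw [← E.one]; exact E.norm_one 1 1
  refine ⟨Γ, hΓgen, fun g => ?_, ?_, hind, ?_⟩
  · set ψ' := mapCh (starRingEnd ℂ) ψ₁ with hψ'
    have hψ'1 : ψ' ≠ 1 := fun e => hψ₁ (MonoidHom.ext fun x => Units.ext (by
      have h' : conj (ψ₁ x : ℂ) = 1 := by rw [← mapCh_apply, ← hψ', e]; simp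
      simpa using congrArg conj h'))
    have hb : conj (D.br 1 ψ₁ g) = D.br 1 ψ' g := by
      simp only [Side.br, CharInd.indFun_apply, map_mul, map_sum, map_inv₀, Complex.conj_natCast]
      congr 1
      refine Finset.sum_congr rfl fun x _ => ?_
      by_cases hm : x⁻¹ * g * x ∈ P ⊔ W₁
      · rw [CharInd.extendByZero_mem _ hm, CharInd.extendByZero_mem _ hm, map_sub]
        simp [Side.lhat, hψ']
      · rw [CharInd.extendByZero_notMem _ hm, CharInd.extendByZero_notMem _ hm, map_zero]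
    have hη : conj (η 1 ψ₁ g) = η 1 ψ' g := by
      have := E.galois (starRingEnd ℂ) 1 ψ₁ g
      rwa [mapCh_one] at this
    have hg := congrFun (hind ψ' hψ'1) g
    simp only [Pi.add_apply, Pi.sub_apply] at hg
    rw [hΓ]
    simp only [Pi.add_apply, Pi.sub_apply, map_add, map_sub, map_one, hb, hη]
    rw [hg]
    simp [hΓ]
    ring
  · rw [hΓ, CharCore.classInner_add_left, CharCore.classInner_sub_left, D.br_one_inner,
      if_pos rfl, if_neg hψ₁, hη1 _ hψ₁, h11]
    ring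
  · intro ι _ f c hf1 hf0 hfη hc
    obtain ⟨ψ, ψ₀, hψ, hψ₀, hne⟩ : ∃ ψ ψ₀ : ↥W₂ →* ℂˣ, ψ ≠ 1 ∧ ψ₀ ≠ 1 ∧
        classInner (D.br 1 ψ) (η 1 ψ₀) ≠ 0 := by
      by_cases hall : ∀ ψ₀, ψ₀ ≠ 1 → classInner Γ (η 1 ψ₀) = 0
      · refine ⟨ψ₁, ψ₁, hψ₁, hψ₁, ?_⟩
        rw [hind _ hψ₁, CharCore.classInner_add_left, CharCore.classInner_sub_left, hall _ hψ₁,
          E.norm_one, ← CharInd.classInner_swap, hη1 _ hψ₁]
        simp
      · push Not at hall
        obtain ⟨ψ₀, hψ₀, h0⟩ := hall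
        obtain ⟨ψ, hψm, hψne⟩ : ∃ ψ : ↥W₂ →* ℂˣ, ψ ≠ 1 ∧ ψ ≠ ψ₀ := by
          have hc' : 2 < Fintype.card (↥W₂ →* ℂˣ) := by
            rw [← Nat.card_eq_fintype_card, E.card_dual₂]; exact h2.2
          by_contra hh
          push Not at hh
          have : (Finset.univ : Finset (↥W₂ →* ℂˣ)) ⊆ {1, ψ₀} := fun x _ => by
            rcases eq_or_ne x 1 with e | e
            · simp [e]
            · simp [hh x e]
          have := (Finset.card_le_card this).trans Finset.card_le_two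
          rw [Finset.card_univ] at this
          omega
        refine ⟨ψ, ψ₀, hψm, hψ₀, ?_⟩
        rw [hind _ hψm, CharCore.classInner_add_left, CharCore.classInner_sub_left,
          E.orth 1 ψ 1 ψ₀ (fun e => hψne (Prod.ext_iff.1 e).2), ← CharInd.classInner_swap,
          hη1 _ hψ₀]
        simpa using h0
    obtain ⟨z, hz⟩ := CharCore.IsGeneralizedCharacter.exists_classInner_eq_intCast
      (D.br_gen 1 ψ) (E.gen 1 ψ₀)
    have hf1' : ∀ i, classInner (f i) (fun _ => (1 : ℂ)) = 0 := fun i => E.one ▸ hfη i 1 1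
    have h := bessel_int (Sum.elim ![(fun _ => (1 : ℂ)), η 1 ψ₀] f) (D.br 1 ψ)
      (Sum.elim ![1, z] c)
      (by
        rintro (i | i)
        · fin_cases i
          · exact h11
          · exact E.norm_one 1 ψ₀
        · exact hf1 i)
      (by
        rintro (i | i) (j | j) hij
        · fin_cases i <;> fin_cases j
          · exact absurd rfl hij
          · simp only [Sum.elim_inl]
            rw [← CharInd.classInner_swap]
            simp [hη1 _ hψ₀]
          · simpa using hη1 _ hψ₀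
          · exact absurd rfl hij
        · fin_cases i
          · simp only [Sum.elim_inl, Sum.elim_inr]
            rw [← CharInd.classInner_swap]
            simp [hf1' j]
          · simp only [Sum.elim_inl, Sum.elim_inr]
            rw [← CharInd.classInner_swap]
            simp [hfη j 1 ψ₀]
        · fin_cases j
          · simpa using hf1' i
          · simpa using hfη i 1 ψ₀
        · exact hf0 i j fun e => hij (by rw [e]))
      (by
        rintro (i | i)
        · fin_cases i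
          · simpa [hψ] using D.br_one_inner 1 ψ
          · simpa using hz
        · simp only [Sum.elim_inr]
          rw [hind _ hψ, CharCore.classInner_add_left, CharCore.classInner_sub_left,
            ← CharInd.classInner_swap, hf1', ← CharInd.classInner_swap (f i), hfη, hc]
          simp)
    rw [Fintype.sum_sum_type, Fin.sum_univ_two] at h
    simp only [Sum.elim_inl, Sum.elim_inr, Matrix.cons_val_zero, Matrix.cons_val_one] at h
    have hn := D.br_norm 1 ψ (Ne.symm hψ)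
    rw [if_pos rfl, if_neg hψ] at hn
    have hz0 : z ≠ 0 := fun e => hne (by rw [hz, e]; simp)
    have hz1 : (1 : ℝ) ≤ (z : ℝ) ^ 2 := by
      have : (1 : ℤ) ≤ z ^ 2 := by
        have : 0 < z ^ 2 := by positivity
        omega
      exact_mod_cast this
    rw [hn] at h
    have hU : (0 : ℝ) < Nat.card U := Nat.cast_pos.2 Nat.card_pos
    have hq : (0 : ℝ) < Nat.card W₁ := Nat.cast_pos.2 Nat.card_pos
    have e : ((Nat.card U : ℝ) ^ 2 + Nat.card U) / ((Nat.card U : ℝ) * Nat.card W₁) +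
        2 * ((Nat.card W₁ : ℝ) - 1) / Nat.card W₁ =
        2 + ((Nat.card U : ℝ) - 1) / Nat.card W₁ := by
      field_simp; ring
    rw [e] at h
    push_cast at h ⊢
    linarith

end Cfsg.Agent.PF14
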