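import Cfsg.Agent.PF14.KernelGrid

/-!
The size of a coherent kernel from the parities of its coefficients.
-/

set_option autoImplicit false
set_option linter.unusedVariables false
set_option linter.unusedSectionVars false

namespace Cfsg.Agent.PF14

open Cfsg OddChar OddChar.CycTI Subgroup PF7
open scoped ComplexConjugate Classical

universe u

variable {G : Type u} [Group G] [Fintype G] {S T P Q U V W₁ W₂ : Subgroup G}
variable {η : (↥W₁ →* ℂˣ) → (↥W₂ →* ℂˣ) → G → ℂ}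
variable {A : Set G} {L : Subgroup G} [Fintype L] {R : G → Subgroup G} {K : Subgroup L}
variable {τ₁ : (L → ℂ) → (G → ℂ)}

/-- A non-zero coefficient bounds the kernel. -/
theorem card_le_of_coeff {a : ℤ} (ha : a ≠ 0) {h e c : ℕ} {B : ℝ} (he : 0 < e)
    (hb : (a : ℝ) ^ 2 * (((h : ℝ) - 1) / e) ≤ B) (hB : (e : ℝ) * B ≤ c) : h ≤ c + 1 := by
  have h1 := one_le_sq_of_ne ha
  have heR : (0 : ℝ) < e := Nat.cast_pos.2 he
  by_contra hlt
  have hh : (c : ℝ) + 1 < h := by exact_mod_cast (not_le.1 hlt)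
  have h0 : (0 : ℝ) ≤ ((h : ℝ) - 1) / e :=
    div_nonneg (by have := Nat.cast_nonneg (α := ℝ) c; linarith) heR.le
  have h2 : ((h : ℝ) - 1) / e ≤ B := le_trans (le_mul_of_one_le_left h0 h1) hb
  rw [div_le_iff₀ heR] at h2
  linarith

section Family

variable (KD : KernelData A L R K τ₁) (D : Side S P U W₁ W₂) (D' : Side T Q V W₂ W₁)
variable (E : EtaArr W₁ W₂ η) (hA : ∀ a ∈ A, (orderOf a).Coprime (Nat.card W₁ * Nat.card W₂))

include KD D D' E hA

/-- With index `q` the kernel is no bigger than `U`. -/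
theorem card_le_of_index_q (he : K.index = Nat.card W₁) (hqp : Nat.card W₁ < Nat.card W₂) :
    Nat.card K ≤ Nat.card U := by
  obtain ⟨ζ, hζ, hζ1⟩ := KD.exists_min
  obtain ⟨B, C, a, b, hB, -, -, hBa, -, haU, -⟩ := coeff_all KD D D' E hA hζ hζ1
  have hB0 := col_even KD D D' E hA hζ hζ1 he hqp hB
  rw [hB0, zero_add] at hBa
  have ha : a ≠ 0 := fun e => by simp [e] at hBa
  have hu := D.one_lt_U
  have := card_le_of_coeff (c := Nat.card U - 1) ha
    (Nat.pos_of_ne_zero Subgroup.index_ne_zero_of_finite) haU (le_of_eq (by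
      rw [he, Nat.cast_sub hu.le, Nat.cast_one,
        mul_div_cancel₀ _ (Nat.cast_ne_zero.2 D.prime₁.ne_zero)]))
  omega

/-- With index `p q`: four bounds on the kernel. -/
theorem kernel_cases (he : K.index = Nat.card W₁ * Nat.card W₂) :
    Nat.card K ≤ Nat.card W₂ * (Nat.card U - 1) + 1 ∨
      (1 : ℝ) / Nat.card W₂ + 1 / Nat.card W₁ - 2 / ((Nat.card W₂ : ℝ) * Nat.card W₁) -
        1 / ((Nat.card U : ℝ) * Nat.card W₁) - 1 / ((Nat.card V : ℝ) * Nat.card W₂) ≤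
          ((Nat.card W₂ : ℝ) * Nat.card W₁) / Nat.card K ∨
      Nat.card K ≤ Nat.card W₂ ^ 2 * Nat.card W₁ ^ 3 + 1 ∨
      Nat.card K ≤ Nat.card W₁ * (Nat.card V - 1) + 1 := by
  obtain ⟨ζ, hζ, hζ1⟩ := KD.exists_min
  obtain ⟨B, C, a, b, hB, hC, hBC, hBa, hCb, haU, hbV⟩ := coeff_all KD D D' E hA hζ hζ1
  have hq : (Nat.card W₁ : ℝ) ≠ 0 := Nat.cast_ne_zero.2 D.prime₁.ne_zero
  have hp : (Nat.card W₂ : ℝ) ≠ 0 := Nat.cast_ne_zero.2 D.prime₂.ne_zero
  have he0 : 0 < K.index := Nat.pos_of_ne_zero Subgroup.index_ne_zero_of_finite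
  by_cases ha : a = 0
  swap
  · refine Or.inl (card_le_of_coeff ha he0 haU (le_of_eq ?_))
    rw [he]
    push_cast [Nat.cast_sub D.one_lt_U.le]
    field_simp
  rw [ha, add_zero] at hBa
  by_cases hb : b = 0
  · rw [hb, add_zero] at hCb
    rcases share_of_odd KD D D' E hA hζ hζ1 he hB hC hBC hBa hCb with h | h
    · refine Or.inr (Or.inl (le_trans ?_ (le_of_le_of_eq h (by ring))))
      have h1 := D.share_g00_ge D'
      have e : (2 : ℝ) / ((Nat.card W₂ : ℝ) * Nat.card W₁) =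
          1 / ((Nat.card W₂ : ℝ) * Nat.card W₁) + 1 / ((Nat.card W₁ : ℝ) * Nat.card W₂) := by
        rw [mul_comm (Nat.card W₁ : ℝ)]; ring
      rw [e]
      linarith
    · refine Or.inr (Or.inr (Or.inl ?_))
      rw [h]
      have h9 : 2 ≤ Nat.card W₂ * Nat.card W₁ ^ 2 := by
        have : 1 ≤ Nat.card W₁ ^ 2 := Nat.one_le_pow _ _ D.prime₁.pos
        nlinarith [D.prime₂.two_le]
      have e : Nat.card W₂ ^ 2 * Nat.card W₁ ^ 3 =
          (Nat.card W₁ * Nat.card W₂) * (Nat.card W₂ * Nat.card W₁ ^ 2) := by ring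
      rw [e, mul_comm 2]
      exact Nat.succ_le_succ (Nat.mul_le_mul_left _ h9)
  · refine Or.inr (Or.inr (Or.inr (card_le_of_coeff hb he0 hbV (le_of_eq ?_))))
    rw [he]
    push_cast [Nat.cast_sub D'.one_lt_U.le]
    field_simp

end Family

variable {A' : Set G} {L' : Subgroup G} [Fintype L'] {R' : G → Subgroup G} {K' : Subgroup L'}
variable {τ₁' : (L' → ℂ) → (G → ℂ)}

/-- Of two kernels with disjoint supports one is small. -/
theorem kernel_small (KD : KernelData A L R K τ₁) (KD' : KernelData A' L' R' K' τ₁')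
    (hdis : Disjoint (Coherence.dadeSupp A R) (Coherence.dadeSupp A' R')) (hodd : Odd (Nat.card G))
    {n : ℕ} (he : K.index ≤ n) (he' : K'.index ≤ n) :
    Nat.card K ≤ n ^ 2 + 1 ∨ Nat.card K' ≤ n ^ 2 + 1 := by
  obtain ⟨ζ, hζ, hζ1⟩ := KD.exists_min
  obtain ⟨ζ', hζ', hζ1'⟩ := KD'.exists_min
  obtain ⟨b, b', hb, hb', hbb⟩ := KD.coeff_parity KD' hdis hodd hζ hζ1 hζ' hζ1'
  have key : ∀ {e e' h' : ℕ} {c : ℤ}, 0 < e → 0 < e' → e ≤ n → e' ≤ n → c ≠ 0 →
      (c : ℝ) ^ 2 * (((h' : ℝ) - 1) / e') ≤ (e : ℝ) - 1 → h' ≤ n ^ 2 + 1 := by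
    intro e e' h' c he0 he0' hen hen' hc hbd
    refine card_le_of_coeff hc he0' hbd ?_
    have : e' * e ≤ n ^ 2 := by rw [sq]; exact Nat.mul_le_mul hen' hen
    have h2 : ((e' * e : ℕ) : ℝ) ≤ ((n ^ 2 : ℕ) : ℝ) := by exact_mod_cast this
    push_cast at h2 ⊢
    nlinarith [Nat.cast_nonneg (α := ℝ) e']
  have pos := Nat.pos_of_ne_zero (Subgroup.index_ne_zero_of_finite (H := K))
  have pos' := Nat.pos_of_ne_zero (Subgroup.index_ne_zero_of_finite (H := K'))
  by_cases h0 : b = 0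
  · left
    have hb0 : b' ≠ 0 := fun e => by simp [h0, e] at hbb
    have h := KD'.coeff_other_bound KD hdis.symm hζ' hζ1' hζ hζ1
    rw [hb', Complex.norm_intCast, sq_abs] at h
    exact key pos' pos he' he hb0 h
  · right
    have h := KD.coeff_other_bound KD' hdis hζ hζ1 hζ' hζ1'
    rw [hb, Complex.norm_intCast, sq_abs] at h
    exact key pos pos' he he' h0 h

end Cfsg.Agent.PF14
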