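import Cfsg.Agent.PF14.Uncond
import Cfsg.Agent.PF13.Reg.Step2

/-!
# The inputs of §14 from `C_U(S_F) = 1` in Type II
-/

set_option autoImplicit false

namespace Cfsg.Agent.PF14

open Cfsg

universe u

/-- `Earlier G` from `FaithII G`. -/
theorem earlier_of_faith {G : Type u} [Group G] [Fintype G] (hG : IsMinSimpleOddOrder G)
    (hC : PF13.Reg.FaithII G) : Earlier G :=
  ⟨shape34_uncond hG, PF10.noV hG, frobOne_uncond hG,
    PF13.Reg.regularII hG (shape34_uncond hG) (PF10.noV hG) (frobOne_uncond hG) hC⟩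

end Cfsg.Agent.PF14
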