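import Cfsg.Agent.PF13.PairStructure
import Cfsg.Agent.PF13.NormalizerW
import Cfsg.Agent.PF.NormalizerU
import Cfsg.Agent.BGSummary.FrobI
import Cfsg.Agent.PFTypeOne.Coherent
import Cfsg.Agent.PF8.Supporting

/-!
# The inputs of Peterfalvi (14) from the earlier sections

From Shape34 (§11), NoV (§10), FrobeniusOne (12.7) and RegularII (§13, the complement of a
Type II member acts fixed point freely on its core): what §14 uses about a pair and about the
maximal subgroups of Type I; S1540, S1543, S1547, S1548, S1549 and the criterion for S1539.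
-/

set_option autoImplicit false

namespace Cfsg.Agent.PF14

open Cfsg Subgroup

universe u

variable {G : Type u} [Group G]

/-- Peterfalvi §13: in Type II the complement `U` acts fixed point freely on `M_F`. -/
def RegularII (G : Type u) [Group G] : Prop :=
  ∀ S W₁ U W₂ : Subgroup G, IsCoatom S → IsTypePWith S W₁ U W₂ → IsOfTypeII S →
    ∀ u ∈ U, u ≠ 1 → ∀ x ∈ fittingHallOf S, u * x = x * u → x = 1

/-- The results of §10-§13 from which §14 starts. -/
structure Earlier (G : Type u) [Group G] : Prop where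
  shape34 : PF13.Shape34 G
  noV : PF13.NoV G
  frobOne : BGSummary.FrobeniusOne G
  regularII : RegularII G

/-- What §14 uses about the member `S` of a pair. -/
structure MemberFacts (S W₁ W₂ U : Subgroup G) : Prop where
  cases : IsOfTypeII S ∨ IsOfTypeIII S
  lt_II : Nat.card W₁ < Nat.card W₂ → IsOfTypeII S
  prime : (Nat.card W₁).Prime
  elementary : IsElementaryAbelian (Nat.card W₂) (fittingHallOf S)
  card_core : Nat.card (fittingHallOf S) = Nat.card W₂ ^ Nat.card W₁
  A0_TI : IsTISubset (typeA0 S)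
  A0_normalizer : normalizer (typeA0 S) = S
  core_TI : IsTISubset (fittingHallOf S : Set G)
  core_normalizer : normalizer (fittingHallOf S : Set G) = S
  U_comm : IsMulCommutative U
  regular : ∀ u ∈ U, u ≠ 1 → ∀ x ∈ fittingHallOf S, u * x = x * u → x = 1
  faith : U ⊓ centralizer (fittingHallOf S : Set G) = ⊥
  inf_centralizer : U ⊓ centralizer (W₂ : Set G) = ⊥

/-- What §14 uses about a maximal subgroup of Type I. -/
structure TypeIFacts [Fintype G] (L : Subgroup G) [Fintype L] : Prop where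
  frobenius : ∀ x ∈ fittingHallOf L, x ≠ 1 → L ⊓ centralizer ({x} : Set G) ≤ fittingHallOf L
  normalizer_A : normalizer (typeA L) = L
  dade : DadeHypothesis (typeA L) L (supportR L)
  irr : ∀ χ ∈ inducedIrrAbove (fittingHall L) ⊥, IsIrrCharacter L χ
  coherent : IsCoherent (inducedIrrAbove (fittingHall L) ⊥) {1}ᶜ
    (dadeIsometry (typeA L) L (supportR L))

variable [Fintype G] (hG : IsMinSimpleOddOrder G) (h : Earlier G)
include hG h

theorem Earlier.criterion : BGSummary.TypeICriterion G :=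
  BGSummary.typeICriterion_of_frobenius hG h.frobOne

/-- `S1540`. -/
theorem Earlier.frobenius {M : Subgroup G} (hM : IsCoatom M) (hI : IsOfTypeI M) :
    ∀ x ∈ fittingHallOf M, x ≠ 1 → M ⊓ centralizer ({x} : Set G) ≤ fittingHallOf M :=
  h.frobOne M hM (PF8.kappa_of_typeI hG M hM hI)

theorem Earlier.typeIFacts {L : Subgroup G} [Fintype L] (hL : IsCoatom L) (hI : IsOfTypeI L) :
    TypeIFacts L := by
  have hs := PF8.summaryInputs hG
  obtain ⟨hN, hD⟩ := PF8.dade_stmt hG hs L hL (typeA L) (Or.inr (Or.inl rfl))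
  obtain ⟨hirr, hcoh⟩ := PFTypeOne.coherent hG L hL hI (h.frobenius hG hL hI)
    (PF8.dade_typeA hG hs hL)
  exact ⟨h.frobenius hG hL hI, hN, hD, hirr, hcoh⟩

/-- A maximal subgroup is of Type I or conjugate to a member of the pair. -/
theorem Earlier.classes {S T W₁ W₂ U V : Subgroup G} (d : FT.Pair S T W₁ W₂ U V)
    (M : Subgroup G) (hM : IsCoatom M) :
    IsOfTypeI M ∨
      ∃ g : G, M = S.map (MulAut.conj g).toMonoidHom ∨ M = T.map (MulAut.conj g).toMonoidHom := by
  refine (d.kappa_empty_or_conj hG hM).imp (fun hk => ?_) id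
  have hs := PF8.summaryInputs hG
  obtain ⟨K, X, hKX⟩ := BGSummary.exists_decomp hs hM
  exact (BGSummary.typeI_iff hs hG (h.criterion hG) hM hKX).mpr
    ((BGSummary.eq_bot_iff_kappa hKX.hall).mpr hk)

theorem Earlier.member {S T W₁ W₂ U V : Subgroup G} (d : FT.Pair S T W₁ W₂ U V) :
    MemberFacts S W₁ W₂ U := by
  obtain ⟨hcases, hlt, hel, hcard, hTI, hN⟩ := PF13.member_stmt hG h.shape34 h.noV d
  have hprime : (Nat.card W₁).Prime :=
    PF8.prime_W₁ hG d.coatomS d.typeS (hcases.imp id Or.inl)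
  have hP := d.typeS
  have hFS : fittingHallOf S ≤ S := BGUniq.fittingHallOf_le S
  have hW₂F : W₂ ≤ fittingHallOf S := hP.W₂_le.trans inf_le_left
  obtain ⟨w, hw, hw1⟩ :=
    (Subgroup.bot_or_exists_ne_one W₂).resolve_left hP.selfNormalizing.2.1
  have hF1 : fittingHallOf S ≠ ⊥ := fun h0 => hw1 (mem_bot.mp (h0.le (hW₂F hw)))
  have hcoreN := BGSigma.normalizer_eq_coatom hG d.coatomS hFS hF1
    (BGSummary.le_normalizer_fittingHallOf S)
  have hreg : ∀ u ∈ U, u ≠ 1 → ∀ x ∈ fittingHallOf S, u * x = x * u → x = 1 := by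
    rcases hcases with h2 | h3
    · exact h.regularII S W₁ U W₂ d.coatomS hP h2
    · exact (h.shape34 S W₁ U W₂ d.coatomS hP (Or.inl h3)).2.2.2.2.1
  have hcomm : IsMulCommutative U := by
    rcases hcases with h2 | h3
    · exact (PF13.typeII_complement hG d.coatomS hP h2).2.1
    · haveI := (h.shape34 S W₁ U W₂ d.coatomS hP (Or.inl h3)).1
      infer_instance
  have hA : ∀ x ∈ fittingHallOf S, x ≠ 1 → x ∈ typeA0 S := by
    intro x hx hx1
    refine Or.inl ?_
    have hxd : x ∈ ⁅S, S⁆ := hP.U_compl.1 hx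
    rw [typeA, if_neg (PF8.not_typeI hG d.coatomS hP)]
    refine ⟨hxd, hx1, x, ?_, hx1, rfl⟩
    rw [typeCore]
    split_ifs
    · exact hxd
    · exact hx
  have hcent : U ⊓ centralizer (W₂ : Set G) = ⊥ := by
    refine le_bot_iff.mp fun u hu => mem_bot.mpr (by_contra fun hu1 => hw1 ?_)
    exact hreg u hu.1 hu1 w (hW₂F hw) (mem_centralizer_iff.mp hu.2 w hw).symm
  refine ⟨hcases, hlt, hprime, hel, hcard, hTI, hN, fun g hg x hx hgx => ?_, hcoreN, hcomm, hreg,
    le_bot_iff.mp ((inf_le_inf_left U (centralizer_le hW₂F)).trans hcent.le), hcent⟩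
  by_contra hx1
  refine hx1 (hTI g (fun hgN => hg (hcoreN.ge (hN.le hgN))) x (hA x hx hx1) (hA _ hgx ?_))
  exact fun h0 => hx1 (conj_eq_one_iff.mp h0)

/-- `S1548`. -/
theorem Earlier.normalizer_W₁ {S T W₁ W₂ U V : Subgroup G} (d : FT.Pair S T W₁ W₂ U V) :
    normalizer (W₁ : Set G) = centralizer (W₁ : Set G) ∧
      centralizer (W₁ : Set G) = fittingHallOf T ⊔ W₂ := by
  have hT := h.member hG d.symm
  exact PF13.normalizer_W₁ hG d hT.elementary.1 hT.A0_TI hT.A0_normalizer hT.inf_centralizer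

/-- `S1549`. -/
theorem Earlier.normalizer_U {S T W₁ W₂ U V : Subgroup G} (d : FT.Pair S T W₁ W₂ U V)
    (hSII : IsOfTypeII S) (L : Subgroup G) (hL : IsCoatom L)
    (hNU : normalizer (U : Set G) ≤ L) :
    IsOfTypeI L ∧
      (∀ x ∈ fittingHallOf L, x ≠ 1 → L ⊓ centralizer ({x} : Set G) ≤ fittingHallOf L) ∧
      U ≤ fittingHallOf L ∧
      ((fittingHallOf L ⊓ W₁ = ⊥ ∧ fittingHallOf L ⊔ W₁ = L) ∨
        ∃ y ∈ fittingHallOf T,
          fittingHallOf L ⊓ (W₁ ⊔ W₂.map (MulAut.conj y).toMonoidHom) = ⊥ ∧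
          fittingHallOf L ⊔ (W₁ ⊔ W₂.map (MulAut.conj y).toMonoidHom) = L) := by
  have hT := h.member hG d.symm
  exact normalizer_U_structure hG.1 d.coatomS d.typeS d.typeT hSII hT.cases hT.elementary
    hT.card_core (h.normalizer_W₁ hG d) (h.classes hG d)
    (fun _ hM hI => h.frobenius hG hM hI) L hL hNU

end Cfsg.Agent.PF14
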