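import Cfsg.Agent.PF14.BridgeNorm
import Cfsg.Agent.PF7.Pair

/-!
The coefficients on the array of the bridge of a coherent Frobenius kernel whose support avoids the
primes `p`, `q`.
-/

set_option autoImplicit false
set_option linter.unusedVariables false
set_option linter.unusedSectionVars false

namespace Cfsg.Agent.PF14

open Cfsg OddChar OddChar.CycTI Subgroup PF7
open scoped ComplexConjugate

universe u

variable {G : Type u} [Group G] [Fintype G] {S T P Q U V W₁ W₂ : Subgroup G}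
variable {η : (↥W₁ →* ℂˣ) → (↥W₂ →* ℂˣ) → G → ℂ}
variable {A : Set G} {L : Subgroup G} [Fintype L] {R : G → Subgroup G} {K : Subgroup L}
variable {τ₁ : (L → ℂ) → (G → ℂ)}

/-- The support of Dade data on elements of order prime to `p q` consists of such elements. -/
theorem Side.supp_g00 (D : Side S P U W₁ W₂) (D' : Side T Q V W₂ W₁) (hD : DadeHypothesis A L R)
    (hA : ∀ a ∈ A, (orderOf a).Coprime (Nat.card W₁ * Nat.card W₂)) :
    Coherence.dadeSupp A R ⊆ g00 W₁ W₂ := by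
  rintro g ⟨a, ha, r, hr, x, hx⟩
  have hcomm : Commute a r := (mem_centralizer_singleton_iff.1 (hD.le_centralizer a ha hr)).symm
  have h1 : orderOf g = orderOf (a * r) := by
    rw [← hx]; exact (MulEquiv.orderOf_eq (MulAut.conj x) g).symm
  have hcop : (orderOf a).Coprime (orderOf r) :=
    ((Nat.coprime_comm.1 (hD.coprime a ha a ha)).coprime_dvd_left
      (Subgroup.orderOf_dvd_natCard _
        (mem_inf.2 ⟨hD.subset ha, mem_centralizer_singleton_iff.2 rfl⟩))).coprime_dvd_right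
      (Subgroup.orderOf_dvd_natCard _ hr)
  rw [hcomm.orderOf_mul_eq_mul_orderOf_of_coprime hcop] at h1
  by_contra hg
  have hd : orderOf g ∣ Nat.card W₁ * Nat.card W₂ := by
    by_cases hp : Nat.card W₂ ∣ orderOf g
    · rcases D.mem_of_dvd hp with h | h
      · rw [D.order_conjSet_P h]; exact Dvd.intro_left _ rfl
      · exact (D.order_conjSet_W D' h).2.2
    · have hq : Nat.card W₁ ∣ orderOf g := by
        by_contra hq
        exact hg (mem_g00.2 ⟨Nat.coprime_comm.1 (D.prime₁.coprime_iff_not_dvd.2 hq),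
          Nat.coprime_comm.1 (D.prime₂.coprime_iff_not_dvd.2 hp)⟩)
      rcases D'.mem_of_dvd hq with h | h
      · rw [D'.order_conjSet_P h]; exact Dvd.intro _ rfl
      · exact (D.order_conjSet_W D' (offSet_swap W₁ W₂ ▸ h)).2.2
  have ha1 : orderOf a = 1 :=
    Nat.eq_one_of_dvd_coprimes (hA a ha) dvd_rfl ((Dvd.intro _ h1.symm).trans hd)
  exact hD.one_not_mem (orderOf_eq_one_iff.1 ha1 ▸ ha)

theorem inner_eq_zero_of_supp {f f' : G → ℂ} {B B' : Set G} (h : Disjoint B B')
    (hf : ∀ g ∉ B, f g = 0) (hf' : ∀ g ∉ B', f' g = 0) : classInner f f' = 0 := by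
  rw [CharCore.classInner_def, Finset.sum_eq_zero, mul_zero]
  intro g _
  by_cases hg : g ∈ B
  · rw [hf' g (Set.disjoint_left.1 h hg), map_zero, mul_zero]
  · rw [hf g hg, zero_mul]

/-- The Dade map of a function vanishes off the support. -/
theorem dade_zero (hD : DadeHypothesis A L R) (α : L → ℂ) :
    ∀ g ∉ Coherence.dadeSupp A R, dadeIsometry A L R α g = 0 :=
  fun _ hg => OddChar.dadeIsometry_notMem α hD hg

theorem Side.dade_offSet_zero (D : Side S P U W₁ W₂) (D' : Side T Q V W₂ W₁)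
    (hD : DadeHypothesis A L R) (hA : ∀ a ∈ A, (orderOf a).Coprime (Nat.card W₁ * Nat.card W₂))
    (α : L → ℂ) : ∀ v ∈ offSet W₁ W₂, dadeIsometry A L R α v = 0 :=
  fun v hv => dade_zero hD α v fun h =>
    Set.disjoint_left.1 (D.disjoint_W D') (mem_conjSet_self hv) (D.supp_g00 D' hD hA h)

section Family

variable (KD : KernelData A L R K τ₁) (D : Side S P U W₁ W₂) (D' : Side T Q V W₂ W₁)
variable (E : EtaArr W₁ W₂ η) (hA : ∀ a ∈ A, (orderOf a).Coprime (Nat.card W₁ * Nat.card W₂))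

include KD D D' E hA

/-- The images are orthogonal to the array. -/
theorem tau_orth_eta {ψ : L → ℂ} (h : ψ ∈ inducedIrrAbove K ⊥) (φ : ↥W₁ →* ℂˣ) (χ : ↥W₂ →* ℂˣ) :
    classInner (τ₁ ψ) (η φ χ) = 0 := by
  have hc := Coherence.seq_conj K h
  have hm := KD.conj_sub_mem h
  have e : τ₁ ψ - τ₁ (conjFun ψ) = dadeIsometry A L R (ψ - conjFun ψ) := by
    rw [← KD.agree _ hm, Coherence.iso_map_sub KD.iso (Coherence.zspan_subset h)
      (Coherence.zspan_subset hc) (Coherence.zspan_neg (Coherence.zspan_subset hc))]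
  have o := KD.tau_inner h hc
  rw [if_neg fun q => KD.conj_ne h q.symm] at o
  have hn : classInner (τ₁ ψ - τ₁ (conjFun ψ)) (τ₁ ψ - τ₁ (conjFun ψ)) = 2 := by
    rw [Coherence.inner_sub_left, Coherence.inner_sub_right, Coherence.inner_sub_right, o,
      ← Coherence.inner_conj_symm (τ₁ ψ) (τ₁ (conjFun ψ)), o, KD.tau_inner h h,
      KD.tau_inner hc hc, if_pos rfl, if_pos rfl, map_zero]
    norm_num
  have h0 := E.orth_of_small D.two_lt.1 D.two_lt.2
    (θ := τ₁ ψ - τ₁ (conjFun ψ)) (CharCore.isGeneralized_sub (KD.gen h) (KD.gen hc))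
    (fun v hv => by rw [e]; exact D.dade_offSet_zero D' KD.dade hA _ v hv)
    (by rw [Coherence.inner_sub_left, KD.inner_one h, KD.inner_one hc, sub_zero])
    (le_of_eq (by rw [hn]; rfl)) φ χ
  rw [Coherence.inner_sub_left, sub_eq_zero] at h0
  rcases OddChar.signed_eq_or_inner (KD.signed h) (E.signed φ χ) with q | q | q
  · exfalso
    rw [← q] at h0
    rw [KD.tau_inner h h, if_pos rfl, ← Coherence.inner_conj_symm, o, map_zero] at h0
    exact one_ne_zero h0
  · exfalso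
    rw [show η φ χ = -(τ₁ ψ) by rw [q, neg_neg], Coherence.inner_neg_right,
      Coherence.inner_neg_right, KD.tau_inner h h, if_pos rfl, ← Coherence.inner_conj_symm _ (τ₁ _),
      o, map_zero] at h0
    simp at h0
  · exact q

variable {ζ : L → ℂ} (hζ : ζ ∈ inducedIrrAbove K ⊥) (hζ1 : ζ 1 = (K.index : ℂ))

include hζ hζ1

/-- The coefficient of `τ β` on `η 1 ψ` does not depend on `ψ ≠ 1`. -/
theorem coeff_col : ∃ B : ℤ, ∀ ψ : ↥W₂ →* ℂˣ, ψ ≠ 1 →
    classInner (dadeIsometry A L R (PF7.beta K ζ)) (η 1 ψ) = B := by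
  obtain ⟨ψ₀, hψ₀⟩ := exists_ne_one D.prime₂
  set Θ := dadeIsometry A L R (PF7.beta K ζ) with hΘ
  have hgen := KD.tau_beta_gen hζ hζ1
  obtain ⟨B, hB⟩ := Coherence.inner_gen_int hgen (E.gen 1 ψ₀)
  refine ⟨B, fun ψ hψ => ?_⟩
  have hcne : ∀ χ : ↥W₂ →* ℂˣ, χ ≠ 1 → mapCh (starRingEnd ℂ) χ ≠ 1 := fun χ hχ e =>
    hχ (MonoidHom.ext fun x => Units.ext (by
      have := congrArg (fun f : ↥W₂ →* ℂˣ => conj ((f x : ℂˣ) : ℂ)) e
      simpa using this))
  have hconj : ∀ χ g, conj (η 1 χ g) = η 1 (mapCh (starRingEnd ℂ) χ) g := fun χ g => by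
    have := E.galois (starRingEnd ℂ) 1 χ g
    rwa [mapCh_one] at this
  set n := Nat.card G / Nat.card W₂ ^ (Nat.card G).factorization (Nat.card W₂) with hn
  have hn0 : n ≠ 0 := (Nat.ordCompl_pos _ Nat.card_pos.ne').ne'
  obtain ⟨σ, hσψ, hσ⟩ := exists_ringHom_move D.prime₂ (hcne ψ₀ hψ₀) (hcne ψ hψ) hn0
    (Nat.coprime_comm.1 (Nat.coprime_ordCompl D.prime₂ Nat.card_pos.ne'))
  have hfix : ∀ g, σ (Θ g) = Θ g := by
    intro g
    by_cases hg : g ∈ Coherence.dadeSupp A R
    · refine map_gen_eq_self hgen fun μ hμ => hσ μ ?_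
      have hd : orderOf g ∣ n := by
        have h1 : orderOf g ∣ Nat.card W₂ ^ (Nat.card G).factorization (Nat.card W₂) * n := by
          rw [hn, Nat.ordProj_mul_ordCompl_eq_self]; exact orderOf_dvd_natCard g
        exact (Nat.Coprime.pow_right _
          (mem_g00.1 (D.supp_g00 D' KD.dade hA hg)).2).dvd_of_dvd_mul_left h1
      obtain ⟨c, hc⟩ := hd
      rw [hc, pow_mul, hμ, one_pow]
    · rw [hΘ, dade_zero KD.dade _ g hg, map_zero]
  have h := congrArg σ hB
  rw [map_intCast] at h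
  rw [← h, CharCore.classInner_def, CharCore.classInner_def, map_mul, map_inv₀, map_natCast,
    map_sum]
  congr 1
  refine Finset.sum_congr rfl fun g _ => ?_
  rw [map_mul, hconj, hconj, E.galois, mapCh_one, hσψ]
  congr 1
  exact (hfix g).symm

/-- The bridge of `L` minus `1 - τ₁ ζ` is real. -/
theorem delta_real :
    conjFun (dadeIsometry A L R (PF7.beta K ζ) - (fun _ => 1) + τ₁ ζ) =
      dadeIsometry A L R (PF7.beta K ζ) - (fun _ => 1) + τ₁ ζ := by
  have hcz := Coherence.seq_conj K hζ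
  have hb : conjFun (PF7.beta K ζ) = PF7.beta K ζ + (ζ - conjFun ζ) := by
    have hc0 : conjFun (indFun K (fun _ => (1 : ℂ))) = indFun K (fun _ => (1 : ℂ)) := by
      haveI := KD.normal
      rw [Coherence.conjFun_indFun]; congr 1; funext k; simp [conjFun]
    funext x
    have h1 := congrFun hc0 x
    simp only [conjFun] at h1
    simp only [PF7.beta, conjFun, Pi.sub_apply, Pi.add_apply, map_sub, h1]
    ring
  have hlin : dadeIsometry A L R (PF7.beta K ζ + (ζ - conjFun ζ)) =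
      dadeIsometry A L R (PF7.beta K ζ) + dadeIsometry A L R (ζ - conjFun ζ) := by
    classical
    funext g
    simp only [dadeIsometry, Pi.add_apply]
    split_ifs <;> simp
  have hTc := PF7.conjFun_dade (A := A) (R := R) (PF7.beta K ζ)
  rw [hb, hlin, ← KD.agree _ (KD.conj_sub_mem hζ), Coherence.iso_map_sub KD.iso
    (Coherence.zspan_subset hζ) (Coherence.zspan_subset hcz)
    (Coherence.zspan_neg (Coherence.zspan_subset hcz))] at hTc
  have hz := KD.tau_conj hζ
  funext g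
  have h := congrFun hTc g
  have h2 := congrFun hz g
  simp only [conjFun] at h2
  simp only [conjFun, Pi.add_apply, Pi.sub_apply, map_add, map_sub, map_one] at h ⊢
  rw [h, h2]
  ring

/-- The bridge of a side against the bridge of `L`: parity and bound. -/
theorem coeff_side : ∃ B a : ℤ, (∀ ψ : ↥W₂ →* ℂˣ, ψ ≠ 1 →
      classInner (dadeIsometry A L R (PF7.beta K ζ)) (η 1 ψ) = B) ∧ Odd (B + a) ∧
      (a : ℝ) ^ 2 * (((Nat.card K : ℝ) - 1) / K.index) ≤
        ((Nat.card U : ℝ) - 1) / Nat.card W₁ := by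
  classical
  obtain ⟨B, hB⟩ := coeff_col KD D D' E hA hζ hζ1
  obtain ⟨Γ, hΓg, hΓr, hΓ1, hΓ, hbud⟩ := D.bridge E
  obtain ⟨ψ₀, hψ₀⟩ := exists_ne_one D.prime₂
  set Θ := dadeIsometry A L R (PF7.beta K ζ) with hΘ
  set one : G → ℂ := fun _ => 1 with hone
  set Δ := Θ - one + τ₁ ζ with hΔ
  have hdis : Disjoint (conjSet (bridgeSet S P W₁ W₂)) (Coherence.dadeSupp A R) := by
    refine Set.disjoint_left.2 fun g h1 h2 => ?_
    exact D.prime₂.ne_one (Nat.eq_one_of_dvd_coprimes (mem_g00.1 (D.supp_g00 D' KD.dade hA h2)).2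
      (D.dvd_orderOf_bridgeSet h1) dvd_rfl)
  have hbr0 : ∀ α : L → ℂ, classInner (D.br 1 ψ₀) (dadeIsometry A L R α) = 0 := fun α =>
    inner_eq_zero_of_supp hdis (fun g hg => D.br_support 1 ψ₀ hg) (dade_zero KD.dade α)
  have h11 : classInner one one = 1 := by rw [hone, ← E.one]; exact E.norm_one 1 1
  have hη1 : classInner (η 1 ψ₀) one = 0 := by
    rw [hone, ← E.one]; exact E.orth _ _ _ _ fun e => hψ₀ (Prod.ext_iff.1 e).2
  have hτη : ∀ {ψ}, ψ ∈ inducedIrrAbove K (⊥ : Subgroup L) → ∀ φ χ,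
      classInner (τ₁ ψ) (η φ χ) = 0 := fun h φ χ => tau_orth_eta KD D D' E hA h φ χ
  have hbrτ : ∀ {ψ}, ψ ∈ inducedIrrAbove K (⊥ : Subgroup L) →
      classInner (D.br 1 ψ₀) (τ₁ ψ) = classInner Γ (τ₁ ψ) := fun {ψ} h => by
    rw [hΓ ψ₀ hψ₀, Coherence.inner_add_left, Coherence.inner_sub_left,
      ← Coherence.inner_conj_symm (τ₁ ψ) one, show classInner (τ₁ ψ) one = 0 from KD.inner_one h,
      ← Coherence.inner_conj_symm (τ₁ ψ) (η 1 ψ₀), hτη h, map_zero]
    ring
  obtain ⟨a, ha⟩ := Coherence.inner_gen_int hΓg (KD.gen hζ)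
  refine ⟨B, a, hB, ?_, ?_⟩
  · have hΔg : IsGeneralizedCharacter G Δ := CharCore.isGeneralized_add
      (CharCore.isGeneralized_sub (KD.tau_beta_gen hζ hζ1) (hone ▸ E.one ▸ E.gen 1 1)) (KD.gen hζ)
    obtain ⟨m, hm⟩ := inner_even_of_real D.odd hΓg hΔg (funext hΓr)
      (delta_real KD D D' E hA hζ hζ1) hΓ1
    have h0 := hbr0 (PF7.beta K ζ)
    have e : Θ = one - τ₁ ζ + Δ := by rw [hΔ]; abel
    have d1 : classInner one Δ = 0 := by
      rw [← Coherence.inner_conj_symm, hΔ, Coherence.inner_add_left, Coherence.inner_sub_left,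
        show classInner Θ one = 1 from KD.tau_beta_one hζ hζ1, h11,
        show classInner (τ₁ ζ) one = 0 from KD.inner_one hζ]
      simp
    have d2 : classInner (η 1 ψ₀) Δ = (B : ℂ) := by
      rw [← Coherence.inner_conj_symm, hΔ, Coherence.inner_add_left, Coherence.inner_sub_left,
        hB ψ₀ hψ₀, hτη hζ]
      have hη1' : classInner one (η 1 ψ₀) = 0 := by rw [← Coherence.inner_conj_symm, hη1, map_zero]
      rw [hη1']
      simp
    have d3 : classInner one (τ₁ ζ) = 0 := by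
      rw [← Coherence.inner_conj_symm, KD.inner_one hζ, map_zero]
    have d4 : classInner (η 1 ψ₀) (τ₁ ζ) = 0 := by
      rw [← Coherence.inner_conj_symm, hτη hζ, map_zero]
    rw [hΓ ψ₀ hψ₀] at h0
    change classInner (one - η 1 ψ₀ + Γ) Θ = 0 at h0
    rw [e] at h0
    simp only [Coherence.inner_add_left, Coherence.inner_add_right, Coherence.inner_sub_left,
      Coherence.inner_sub_right, h11, d1, d2, d3, d4, hη1, ha, hm] at h0
    rw [show classInner Γ one = 0 from hΓ1] at h0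
    have h1 : (1 : ℤ) - B - a + 2 * m = 0 := by
      have : (((1 : ℤ) - B - a + 2 * m : ℤ) : ℂ) = ((0 : ℤ) : ℂ) := by
        push_cast at h0 ⊢
        linear_combination h0
      exact_mod_cast this
    exact ⟨m, by omega⟩
  · set Sf := Coherence.seqFinset K (⊥ : Subgroup L) with hSf
    have he : (K.index : ℂ) ≠ 0 := Nat.cast_ne_zero.2 Subgroup.index_ne_zero_of_finite
    have hdeg : ∀ ψ : Sf, ∃ d : ℕ, (ψ : L → ℂ) 1 = (K.index : ℂ) * d := by
      intro ψ
      obtain ⟨θ, hθ, -, -, e⟩ := KD.mem_finset.1 ψ.2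
      obtain ⟨m, hm, -⟩ := Coherence.char_one_nat (Coherence.irr_isCharacter hθ)
      exact ⟨m, by rw [e, CharInd.indFun_apply_one, hm]⟩
    choose d hd using hdeg
    have hc : ∀ ψ : Sf, classInner Γ (τ₁ ψ) = (((d ψ : ℤ) * a : ℤ) : ℂ) := by
      intro ψ
      have hψ := KD.mem_finset.1 ψ.2
      have z2 : (d ψ : ℤ) • ζ ∈ zspan (inducedIrrAbove K (⊥ : Subgroup L)) :=
        Coherence.zspan_zsmul _ (Coherence.zspan_subset hζ)
      have hm : (ψ : L → ℂ) - (d ψ : ℤ) • ζ ∈
          zspanOn (inducedIrrAbove K (⊥ : Subgroup L)) ({1}ᶜ : Set L) :=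
        Coherence.mem_zspanOn_one.2 ⟨Coherence.zspan_sub (Coherence.zspan_subset hψ) z2, by
          simp [hd, hζ1]; ring⟩
      have h := hbr0 ((ψ : L → ℂ) - (d ψ : ℤ) • ζ)
      rw [← KD.agree _ hm, Coherence.iso_map_sub KD.iso (Coherence.zspan_subset hψ) z2
        (Coherence.zspan_neg z2), KD.iso.2.1 _ (Coherence.zspan_subset hζ),
        Coherence.inner_sub_right, Coherence.inner_zsmul_right, hbrτ hψ, hbrτ hζ, ha,
        sub_eq_zero] at h
      rw [h]
      push_cast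
      ring
    have hb := hbud (ι := Sf) (fun ψ => τ₁ ψ) (fun ψ => (d ψ : ℤ) * a)
      (fun ψ => by rw [KD.tau_inner (KD.mem_finset.1 ψ.2) (KD.mem_finset.1 ψ.2), if_pos rfl])
      (fun ψ ψ' hne => by
        rw [KD.tau_inner (KD.mem_finset.1 ψ.2) (KD.mem_finset.1 ψ'.2),
          if_neg fun e => hne (Subtype.ext e)])
      (fun ψ φ χ => hτη (KD.mem_finset.1 ψ.2) φ χ) hc
    refine le_trans (le_of_eq ?_) hb
    have hs := KD.sum_sq
    rw [← Finset.sum_coe_sort] at hs
    rw [Finset.sum_congr rfl (g := fun ψ : Sf => ((K.index : ℝ) * d ψ) ^ 2) fun ψ _ => by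
      rw [hd ψ]; simp] at hs
    have heR : (K.index : ℝ) ≠ 0 := Nat.cast_ne_zero.2 Subgroup.index_ne_zero_of_finite
    simp only [mul_pow, ← Finset.mul_sum] at hs
    push_cast
    simp only [mul_pow, ← Finset.sum_mul]
    have hs' : (∑ ψ : Sf, (d ψ : ℝ) ^ 2) = ((Nat.card K : ℝ) - 1) / K.index := by
      rw [eq_div_iff heR]
      refine mul_left_cancel₀ heR ?_
      rw [← hs]; ring
    rw [hs']
    ring

end Family

end Cfsg.Agent.PF14
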