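import Cfsg.Agent.PF14.KernelCoeff

/-!
The bridge of a coherent kernel on the array: additivity, the budget, and the case of odd
coefficients.
-/

set_option autoImplicit false
set_option linter.unusedVariables false
set_option linter.unusedSectionVars false

namespace Cfsg.Agent.PF14

open Cfsg OddChar OddChar.CycTI Subgroup PF7
open scoped ComplexConjugate Classical

universe u

variable {G : Type u} [Group G] [Fintype G] {S T P Q U V W₁ W₂ : Subgroup G}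
variable {η : (↥W₁ →* ℂˣ) → (↥W₂ →* ℂˣ) → G → ℂ}
variable {A : Set G} {L : Subgroup G} [Fintype L] {R : G → Subgroup G} {K : Subgroup L}
variable {τ₁ : (L → ℂ) → (G → ℂ)}

/-- A sum over an array with constant values on the two axes and on the rest. -/
theorem sum_grid {α β M : Type*} [Fintype α] [Fintype β] [DecidableEq α] [DecidableEq β]
    [CommRing M] (i₀ : α) (j₀ : β) (x y z w : M) :
    ∑ t : α × β, (if t.1 = i₀ then (if t.2 = j₀ then x else y) else (if t.2 = j₀ then z else w)) =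
      x + ((Fintype.card β : M) - 1) * y + ((Fintype.card α : M) - 1) * z +
        ((Fintype.card α : M) - 1) * ((Fintype.card β : M) - 1) * w := by
  have hrow : ∀ a b : M, ∑ j : β, (if j = j₀ then a else b) =
      a + ((Fintype.card β : M) - 1) * b := by
    intro a b
    have e : ∀ j : β, (if j = j₀ then a else b) = b + if j = j₀ then a - b else 0 := fun j => by
      split_ifs <;> ring
    rw [Finset.sum_congr rfl fun j _ => e j, Finset.sum_add_distrib, Finset.sum_const,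
      Finset.sum_ite_eq' Finset.univ j₀, if_pos (Finset.mem_univ _), Finset.card_univ, nsmul_eq_mul]
    ring
  have e : ∀ i : α, ∑ j : β, (if i = i₀ then (if j = j₀ then x else y) else
      (if j = j₀ then z else w)) = (z + ((Fintype.card β : M) - 1) * w) +
        if i = i₀ then (x + ((Fintype.card β : M) - 1) * y) - (z + ((Fintype.card β : M) - 1) * w)
          else 0 := fun i => by
    by_cases h : i = i₀
    · simp only [h, if_true]; rw [hrow]; ring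
    · simp only [h, if_false]; rw [hrow]; ring
  rw [Fintype.sum_prod_type, Finset.sum_congr rfl fun i _ => e i, Finset.sum_add_distrib,
    Finset.sum_const, Finset.sum_ite_eq' Finset.univ i₀, if_pos (Finset.mem_univ _),
    Finset.card_univ, nsmul_eq_mul]
  ring

theorem one_le_sq_of_ne {z : ℤ} (h : z ≠ 0) : (1 : ℝ) ≤ (z : ℝ) ^ 2 := by
  have : (1 : ℤ) ≤ z ^ 2 := by
    have : 0 < z ^ 2 := by positivity
    omega
  exact_mod_cast this

section Family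

variable (KD : KernelData A L R K τ₁) (D : Side S P U W₁ W₂) (D' : Side T Q V W₂ W₁)
variable (E : EtaArr W₁ W₂ η) (hA : ∀ a ∈ A, (orderOf a).Coprime (Nat.card W₁ * Nat.card W₂))
variable {ζ : L → ℂ} (hζ : ζ ∈ inducedIrrAbove K ⊥) (hζ1 : ζ 1 = (K.index : ℂ))

include KD D D' E hA hζ hζ1

/-- Both rows of coefficients, and the values on the rest of the array. -/
theorem coeff_all : ∃ B C a b : ℤ,
    (∀ ψ : ↥W₂ →* ℂˣ, ψ ≠ 1 →
      classInner (dadeIsometry A L R (PF7.beta K ζ)) (η 1 ψ) = B) ∧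
    (∀ φ : ↥W₁ →* ℂˣ, φ ≠ 1 →
      classInner (dadeIsometry A L R (PF7.beta K ζ)) (η φ 1) = C) ∧
    (∀ φ ψ, φ ≠ 1 → ψ ≠ 1 →
      classInner (dadeIsometry A L R (PF7.beta K ζ)) (η φ ψ) = ((B + C - 1 : ℤ) : ℂ)) ∧
    Odd (B + a) ∧ Odd (C + b) ∧
    (a : ℝ) ^ 2 * (((Nat.card K : ℝ) - 1) / K.index) ≤ ((Nat.card U : ℝ) - 1) / Nat.card W₁ ∧
    (b : ℝ) ^ 2 * (((Nat.card K : ℝ) - 1) / K.index) ≤ ((Nat.card V : ℝ) - 1) / Nat.card W₂ := by
  obtain ⟨B, a, hB, hBa, haU⟩ := coeff_side KD D D' E hA hζ hζ1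
  obtain ⟨C, b, hC, hCb, hbV⟩ := coeff_side KD D' D E.swap
    (fun x hx => mul_comm (Nat.card W₁) (Nat.card W₂) ▸ hA x hx) hζ hζ1
  refine ⟨B, C, a, b, hB, hC, fun φ ψ hφ hψ => ?_, hBa, hCb, haU, hbV⟩
  have h := E.additive (dadeIsometry A L R (PF7.beta K ζ))
    (PFTypeOne.gen_isClassFunction (KD.tau_beta_gen hζ hζ1))
    (D.dade_offSet_zero D' KD.dade hA _) φ ψ
  rw [hB ψ hψ, hC φ hφ, E.one, KD.tau_beta_one hζ hζ1] at h
  rw [h]
  push_cast
  ring

/-- The budget on the array, with equality only for a combination of the array. -/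
theorem budget {B C : ℤ}
    (hB : ∀ ψ : ↥W₂ →* ℂˣ, ψ ≠ 1 →
      classInner (dadeIsometry A L R (PF7.beta K ζ)) (η 1 ψ) = B)
    (hC : ∀ φ : ↥W₁ →* ℂˣ, φ ≠ 1 →
      classInner (dadeIsometry A L R (PF7.beta K ζ)) (η φ 1) = C)
    (hBC : ∀ φ ψ, φ ≠ 1 → ψ ≠ 1 →
      classInner (dadeIsometry A L R (PF7.beta K ζ)) (η φ ψ) = ((B + C - 1 : ℤ) : ℂ)) :
    ∃ (a : ℤ) (Γ Δ : G → ℂ), dadeIsometry A L R (PF7.beta K ζ) = (fun _ => 1) - τ₁ ζ +
        (∑ ψ ∈ Coherence.seqFinset K ⊥, ((a : ℂ) * (ψ 1 / (K.index : ℂ))) • τ₁ ψ) + Γ ∧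
      Coherence.normSqFn Γ + (a : ℝ) ^ 2 * (((Nat.card K : ℝ) - 1) / K.index) =
        (K.index : ℝ) - 1 + 2 * a ∧
      Coherence.normSqFn Γ ≤ (K.index : ℝ) - 1 ∧
      Coherence.normSqFn Γ = Coherence.normSqFn Δ + (((Nat.card W₂ : ℝ) - 1) * (B : ℝ) ^ 2 +
        ((Nat.card W₁ : ℝ) - 1) * (C : ℝ) ^ 2 +
        ((Nat.card W₁ : ℝ) - 1) * ((Nat.card W₂ : ℝ) - 1) * ((B : ℝ) + C - 1) ^ 2) ∧
      ∀ g : G, (∀ x : G, x⁻¹ * g * x ∉ offSet W₁ W₂) → (orderOf g).Coprime (Nat.card W₁) →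
        (orderOf g).Coprime (Nat.card W₂) → ∀ φ₀ ψ₀, φ₀ ≠ 1 → ψ₀ ≠ 1 →
        Γ g = Δ g + (((Nat.card W₂ : ℂ) - 1) * ((B : ℂ) * η 1 ψ₀ g) +
          ((Nat.card W₁ : ℂ) - 1) * ((C : ℂ) * η φ₀ 1 g) +
          ((Nat.card W₁ : ℂ) - 1) * ((Nat.card W₂ : ℂ) - 1) *
            (((B : ℂ) + C - 1) * (η φ₀ 1 g + η 1 ψ₀ g - 1))) := by
  haveI := E.dual_finite₁
  haveI := E.dual_finite₂
  haveI := Fintype.ofFinite (↥W₁ →* ℂˣ)
  haveI := Fintype.ofFinite (↥W₂ →* ℂˣ)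
  obtain ⟨a, Γ, hΓg, -, hT, hΓ1, hΓo, hnorm, hle⟩ := KD.beta_decomp hζ hζ1
  let c : (↥W₁ →* ℂˣ) × (↥W₂ →* ℂˣ) → ℤ := fun z =>
    if z.1 = 1 then (if z.2 = 1 then 0 else B) else (if z.2 = 1 then C else B + C - 1)
  have hΓη : ∀ z : (↥W₁ →* ℂˣ) × (↥W₂ →* ℂˣ), classInner Γ (η z.1 z.2) = ((c z : ℝ) : ℂ) := by
    rintro ⟨φ, ψ⟩
    by_cases h11 : φ = 1 ∧ ψ = 1
    · simp only [c, h11.1, h11.2, if_true, Int.cast_zero, Complex.ofReal_zero]
      rw [E.one]; exact hΓ1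
    · have hne : ((1, 1) : (↥W₁ →* ℂˣ) × (↥W₂ →* ℂˣ)) ≠ (φ, ψ) := fun e =>
        h11 ⟨(Prod.ext_iff.1 e).1.symm, (Prod.ext_iff.1 e).2.symm⟩
      have h1 : classInner (fun _ : G => (1 : ℂ)) (η φ ψ) = 0 := by
        rw [← E.one]; exact E.orth _ _ _ _ hne
      have hτ : ∀ {χ}, χ ∈ inducedIrrAbove K (⊥ : Subgroup L) →
          classInner (τ₁ χ) (η φ ψ) = 0 := fun h => tau_orth_eta KD D D' E hA h φ ψ
      have e : classInner (dadeIsometry A L R (PF7.beta K ζ)) (η φ ψ) =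
          classInner Γ (η φ ψ) := by
        rw [hT, Coherence.inner_add_left, Coherence.inner_add_left, Coherence.inner_sub_left, h1,
          hτ hζ, Coherence.inner_sum_left, Finset.sum_eq_zero fun χ hχ => by
            rw [Coherence.inner_smul_left, hτ (KD.mem_finset.1 hχ), mul_zero]]
        ring
      show classInner Γ (η φ ψ) = ((c (φ, ψ) : ℝ) : ℂ)
      rw [← e]
      by_cases hφ : φ = 1
      · have hψ : ψ ≠ 1 := fun h => h11 ⟨hφ, h⟩
        rw [hφ, hB ψ hψ]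
        simp [c, hψ]
      · by_cases hψ : ψ = 1
        · rw [hψ, hC φ hφ]; simp [c, hφ]
        · rw [hBC φ ψ hφ hψ]; simp [c, hφ, hψ]
  have hbes := Coherence.bessel Finset.univ (fun z : (↥W₁ →* ℂˣ) × (↥W₂ →* ℂˣ) => η z.1 z.2)
    (fun _ => (1 : ℝ)) (fun z => (c z : ℝ)) (ξ := Γ) (fun _ _ => one_ne_zero)
    (fun z _ => by rw [E.norm_one, Complex.ofReal_one])
    (fun z _ z' _ hne => E.orth _ _ _ _ hne) (fun z _ => hΓη z)
  refine ⟨a, Γ, _, hT, hnorm, hle, hbes.trans (congrArg _ ?_), fun g hg hgq hgp φ₀ ψ₀ hφ₀ hψ₀ => ?_⟩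
  · have hc : ∀ z, (c z : ℝ) ^ 2 / 1 = if z.1 = 1 then (if z.2 = 1 then 0 else (B : ℝ) ^ 2)
        else (if z.2 = 1 then (C : ℝ) ^ 2 else ((B : ℝ) + C - 1) ^ 2) := fun z => by
      simp only [c]
      split_ifs <;> simp
    rw [Finset.sum_congr rfl fun z _ => hc z, sum_grid, ← Nat.card_eq_fintype_card,
      ← Nat.card_eq_fintype_card, E.card_dual₁, E.card_dual₂]
    ring
  · simp only [Pi.sub_apply, Finset.sum_apply, Pi.smul_apply, smul_eq_mul, div_one]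
    have hterm : ∀ z : (↥W₁ →* ℂˣ) × (↥W₂ →* ℂˣ), ((c z : ℝ) : ℂ) * η z.1 z.2 g =
        if z.1 = 1 then (if z.2 = 1 then 0 else (B : ℂ) * η 1 ψ₀ g) else
          (if z.2 = 1 then (C : ℂ) * η φ₀ 1 g
            else ((B : ℂ) + C - 1) * (η φ₀ 1 g + η 1 ψ₀ g - 1)) := fun z => by
      obtain ⟨φ, ψ⟩ := z
      simp only [c]
      by_cases hφ : φ = 1 <;> by_cases hψ : ψ = 1 <;> simp only [hφ, hψ, if_true, if_false]
      · simp
      · rw [show η 1 ψ g = η 1 ψ₀ g from E.indep_right hψ hψ₀ hgp]; simp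
      · rw [show η φ 1 g = η φ₀ 1 g from E.swap.indep_right hφ hφ₀ hgq]; simp
      · rw [E.off φ ψ g hg, show η 1 ψ g = η 1 ψ₀ g from E.indep_right hψ hψ₀ hgp,
          show η φ 1 g = η φ₀ 1 g from E.swap.indep_right hφ hφ₀ hgq]
        push_cast
        ring
    rw [Finset.sum_congr rfl fun z _ => hterm z, sum_grid, ← Nat.card_eq_fintype_card,
      ← Nat.card_eq_fintype_card, E.card_dual₁, E.card_dual₂]
    ring

/-- A small index forces the column coefficient to be even. -/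
theorem col_even (he : K.index = Nat.card W₁) (hqp : Nat.card W₁ < Nat.card W₂) {B : ℤ}
    (hB : ∀ ψ : ↥W₂ →* ℂˣ, ψ ≠ 1 →
      classInner (dadeIsometry A L R (PF7.beta K ζ)) (η 1 ψ) = B) : B = 0 := by
  obtain ⟨B', C, a', b', hB', hC, hBC, -⟩ := coeff_all KD D D' E hA hζ hζ1
  obtain ⟨ψ₀, hψ₀⟩ := exists_ne_one D.prime₂
  have e : B' = B := by exact_mod_cast (hB' ψ₀ hψ₀).symm.trans (hB ψ₀ hψ₀)
  subst e
  obtain ⟨a, Γ, Δ, -, -, hle, hbes, -⟩ := budget KD D D' E hA hζ hζ1 hB' hC hBC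
  by_contra h0
  have h1 := one_le_sq_of_ne h0
  have hq : (3 : ℝ) ≤ Nat.card W₁ := by exact_mod_cast D.two_lt.1
  have hp : (Nat.card W₁ : ℝ) + 1 ≤ Nat.card W₂ := by exact_mod_cast hqp
  have := Coherence.normSqFn_nonneg Δ
  rw [he] at hle
  have t1 : (Nat.card W₂ : ℝ) - 1 ≤ ((Nat.card W₂ : ℝ) - 1) * (B' : ℝ) ^ 2 :=
    le_mul_of_one_le_right (by linarith) h1
  have t2 : 0 ≤ ((Nat.card W₁ : ℝ) - 1) * (C : ℝ) ^ 2 := mul_nonneg (by linarith) (sq_nonneg _)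
  have t3 : 0 ≤ ((Nat.card W₁ : ℝ) - 1) * ((Nat.card W₂ : ℝ) - 1) * ((B' : ℝ) + C - 1) ^ 2 :=
    mul_nonneg (mul_nonneg (by linarith) (by linarith)) (sq_nonneg _)
  linarith

/-- Both coefficients odd: the elements of order prime to `p q` are covered up to `e / h`. -/
theorem share_of_odd (he : K.index = Nat.card W₁ * Nat.card W₂) {B C : ℤ}
    (hB : ∀ ψ : ↥W₂ →* ℂˣ, ψ ≠ 1 →
      classInner (dadeIsometry A L R (PF7.beta K ζ)) (η 1 ψ) = B)
    (hC : ∀ φ : ↥W₁ →* ℂˣ, φ ≠ 1 →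
      classInner (dadeIsometry A L R (PF7.beta K ζ)) (η φ 1) = C)
    (hBC : ∀ φ ψ, φ ≠ 1 → ψ ≠ 1 →
      classInner (dadeIsometry A L R (PF7.beta K ζ)) (η φ ψ) = ((B + C - 1 : ℤ) : ℂ))
    (hBo : Odd B) (hCo : Odd C) :
    share (g00 W₁ W₂) - 1 / ((Nat.card W₁ : ℝ) * Nat.card W₂) ≤
        ((Nat.card W₁ : ℝ) * Nat.card W₂) / Nat.card K ∨
      Nat.card K = 2 * (Nat.card W₁ * Nat.card W₂) + 1 := by
  obtain ⟨a, Γ, Δ, hT, hnorm, hle, hbes, hval⟩ := budget KD D D' E hA hζ hζ1 hB hC hBC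
  have hB1 := one_le_sq_of_ne (fun e : B = 0 => by simp [e] at hBo)
  have hC1 := one_le_sq_of_ne (fun e : C = 0 => by simp [e] at hCo)
  have hBC0 : B + C - 1 ≠ 0 := fun e => by
    obtain ⟨i, hi⟩ := hBo; obtain ⟨j, hj⟩ := hCo; omega
  have hBC1 := one_le_sq_of_ne hBC0
  push_cast at hBC1
  have hq : (3 : ℝ) ≤ Nat.card W₁ := by exact_mod_cast D.two_lt.1
  have hp : (3 : ℝ) ≤ Nat.card W₂ := by exact_mod_cast D.two_lt.2
  set q := (Nat.card W₁ : ℝ) with hq'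
  set p := (Nat.card W₂ : ℝ) with hp'
  have heR : (K.index : ℝ) = q * p := by rw [he]; push_cast; rfl
  have t1 : p - 1 ≤ (p - 1) * (B : ℝ) ^ 2 := le_mul_of_one_le_right (by linarith) hB1
  have t2 : q - 1 ≤ (q - 1) * (C : ℝ) ^ 2 := le_mul_of_one_le_right (by linarith) hC1
  have t3 : (q - 1) * (p - 1) ≤ (q - 1) * (p - 1) * ((B : ℝ) + C - 1) ^ 2 :=
    le_mul_of_one_le_right (mul_nonneg (by linarith) (by linarith)) hBC1
  have hring : (q - 1) * (p - 1) = q * p - p - q + 1 := by ring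
  have hΔ0 := Coherence.normSqFn_nonneg Δ
  have hΔ : Coherence.normSqFn Δ = 0 := by linarith
  have hΓn : Coherence.normSqFn Γ = (K.index : ℝ) - 1 := by linarith
  obtain ⟨n, hn2, hn⟩ := KD.exists_ratio
  have hdiv : ((Nat.card K : ℝ) - 1) / K.index = (n : ℝ) := by
    rw [hn]; push_cast
    rw [add_sub_cancel_right, mul_div_assoc,
      div_self (Nat.cast_ne_zero.2 Subgroup.index_ne_zero_of_finite), mul_one]
  rw [hdiv, hΓn] at hnorm
  have ha : a ^ 2 * (n : ℤ) = 2 * a := by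
    have : (a : ℝ) ^ 2 * (n : ℝ) = 2 * (a : ℝ) := by linarith
    exact_mod_cast this
  by_cases ha0 : a = 0
  swap
  · right
    have h2 : a * (n : ℤ) = 2 := mul_left_cancel₀ ha0 (by rw [← mul_assoc, ← sq, ha, mul_comm])
    have : n = 2 := by
      have hd : ((n : ℤ)) ∣ 2 := Dvd.intro_left _ h2
      have : n ∣ 2 := by exact_mod_cast hd
      exact le_antisymm (Nat.le_of_dvd two_pos this) hn2
    rw [hn, this, he]
  left
  have hΔz : Δ = 0 := eq_zero_of_norm (by rw [Coherence.inner_self, hΔ]; simp)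
  have hirr := KD.tau_inner hζ hζ
  rw [if_pos rfl] at hirr
  obtain ⟨φ₀, hφ₀⟩ := exists_ne_one D.prime₁
  obtain ⟨ψ₀, hψ₀⟩ := exists_ne_one D.prime₂
  have hbig : ∀ g ∈ g00 W₁ W₂, g ∉ Coherence.dadeSupp A R → 1 ≤ ‖τ₁ ζ g‖ := by
    intro g hg hgs
    obtain ⟨hgq, hgp⟩ := mem_g00.1 hg
    have hoff : ∀ x : G, x⁻¹ * g * x ∉ offSet W₁ W₂ := fun x hx =>
      Set.disjoint_left.1 (D.disjoint_W D') ⟨_, hx, x⁻¹, by group⟩ hg
    obtain ⟨X, hX⟩ := E.int_right ψ₀ hgp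
    obtain ⟨Y, hY⟩ := E.swap.int_right φ₀ hgq
    have hY' : η φ₀ 1 g = Y := hY
    have h0 := congrFun hT g
    rw [dade_zero KD.dade _ g hgs] at h0
    simp only [Pi.add_apply, Pi.sub_apply, Finset.sum_apply, Pi.smul_apply, smul_eq_mul, ha0,
      Int.cast_zero, zero_mul, Finset.sum_const_zero, add_zero] at h0
    rw [hval g hoff hgq hgp φ₀ ψ₀ hφ₀ hψ₀, hΔz, Pi.zero_apply, hX, hY'] at h0
    obtain ⟨i, hi⟩ : Odd (Nat.card W₁) := D.odd.of_dvd_nat (Subgroup.card_subgroup_dvd_card _)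
    obtain ⟨j, hj⟩ : Odd (Nat.card W₂) := D.odd.of_dvd_nat (Subgroup.card_subgroup_dvd_card _)
    set z : ℤ := 1 + 2 * ((j : ℤ) * (B * X) + (i : ℤ) * (C * Y) +
      2 * (i : ℤ) * j * ((B + C - 1) * (Y + X - 1))) with hz
    have hzv : τ₁ ζ g = (z : ℂ) := by
      rw [hi, hj] at h0
      rw [hz]
      push_cast at h0 ⊢
      linear_combination h0
    rw [hzv]
    exact one_le_norm_of_int (by omega)
  have hsupp : share (Coherence.dadeSupp A R) ≤ 1 / (q * p) := by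
    have h1 := PF7.supp_card KD.dade
    have h2 : ((Finset.univ.filter (· ∈ A)).card : ℝ) ≤ Nat.card K := by
      rw [← Fintype.card_subtype, ← Nat.card_eq_fintype_card]
      exact_mod_cast Nat.card_le_card_of_injective
        (fun x : {x : G // x ∈ A} => (⟨⟨x.1, KD.dade.subset x.2⟩,
          ((KD.setA ⟨x.1, KD.dade.subset x.2⟩).1 x.2).1⟩ : K))
        fun x y h => Subtype.ext (congrArg (fun t : K => ((t : L) : G)) h)
    have hL : (Nat.card L : ℝ) = (q * p) * Nat.card K := by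
      rw [← K.index_mul_card, Nat.cast_mul, heR]
    have hG : (0 : ℝ) < Nat.card G := Nat.cast_pos.2 Nat.card_pos
    have hK : (0 : ℝ) < Nat.card K := Nat.cast_pos.2 Nat.card_pos
    have e : share (Coherence.dadeSupp A R) = (Nat.card G : ℝ)⁻¹ *
        ((Finset.univ.filter (· ∈ Coherence.dadeSupp A R)).card : ℝ) := by
      unfold share mass
      simp
    rw [e, inv_mul_eq_div, div_le_div_iff₀ hG (by positivity), one_mul]
    refine le_of_mul_le_mul_left ?_ hK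
    rw [hL] at h1
    nlinarith
  have hmass : mass (τ₁ ζ) (g00 W₁ W₂ \ Coherence.dadeSupp A R) ≤ (q * p) / Nat.card K := by
    have h1 := KD.rho_norm_self hζ hζ1
    have h2 := PF7.rho_norm_le KD.dade (PFTypeOne.gen_isClassFunction (KD.gen hζ))
    have h3 : mass (τ₁ ζ) ((g00 W₁ W₂ \ Coherence.dadeSupp A R) ∪ Coherence.dadeSupp A R) ≤ 1 := by
      refine (mass_le_norm _ _).trans (le_of_eq ?_)
      rw [hirr]; rfl
    rw [mass_union _ Set.disjoint_sdiff_left] at h3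
    have h4 : mass (τ₁ ζ) (Coherence.dadeSupp A R) = (Nat.card G : ℝ)⁻¹ *
        ∑ g ∈ Finset.univ.filter (· ∈ Coherence.dadeSupp A R), ‖τ₁ ζ g‖ ^ 2 := rfl
    rw [heR] at h1
    linarith
  have hsh : share (g00 W₁ W₂ \ Coherence.dadeSupp A R) ≤
      mass (τ₁ ζ) (g00 W₁ W₂ \ Coherence.dadeSupp A R) :=
    share_le_mass fun g hg => hbig g hg.1 hg.2
  have hcov : share (g00 W₁ W₂) ≤ share (g00 W₁ W₂ \ Coherence.dadeSupp A R) +
      share (Coherence.dadeSupp A R) := by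
    unfold share
    rw [← mass_union _ Set.disjoint_sdiff_left]
    exact mass_mono _ fun g hg => by
      by_cases h : g ∈ Coherence.dadeSupp A R
      · exact Or.inr h
      · exact Or.inl ⟨hg, h⟩
  linarith

end Family

end Cfsg.Agent.PF14
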