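import Cfsg.Agent.PF14.GlueKernel
import Cfsg.Agent.S1524
import Cfsg.Agent.BGSummary.SupportPrimes

/-!
# The complement `V` of a member of Type III: a cyclic TI-subgroup with a coherent Frobenius normalizer
-/

set_option autoImplicit false

namespace Cfsg.Agent.PF14

open Cfsg Subgroup

universe u

variable {G : Type u} [Group G] [Fintype G] (hG : IsMinSimpleOddOrder G) (h : Earlier G)
variable {S T W₁ W₂ U V : Subgroup G} (d : FT.Pair S T W₁ W₂ U V) (h3 : IsOfTypeIII T)
include hG h d h3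

omit h in
theorem complement_le_sigmaCore : V ≤ sigmaCore T := by
  have hc : typeCore T = ⁅T, T⁆ := by rw [typeCore, if_pos (Or.inl h3)]
  rw [← BGSummary.typeCore_eq (PF8.summaryInputs hG) d.coatomT, hc]
  exact d.typeT.U_compl.2.1

omit h in
theorem complement_ne_bot : V ≠ ⊥ := by
  classical
  intro h0
  obtain ⟨hne, -⟩ := PF13.system_of_34 hG (M := T) d.coatomT d.typeT (Or.inl h3)
  exact hne (by rw [h0, bot_subgroupOf])

theorem complement_cyclic : IsCyclic V :=
  (h.shape34 T W₂ V W₁ d.coatomT d.typeT (Or.inl h3)).1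

/-- Fusion in `V` is controlled by `V W₂`. -/
theorem mem_of_conj_complement {v g : G} (hv : v ∈ V) (hv1 : v ≠ 1) (hg : g * v * g⁻¹ ∈ V) :
    g ∈ V ⊔ W₂ := by
  have hP := d.typeT
  have hT := h.member hG d.symm
  have hfpf := hT.regular
  obtain ⟨hdT, hW₂T, -, hTmul⟩ := hP.W₁_compl
  obtain ⟨hFd, hVd, hFV, hdmul⟩ := hP.U_compl
  have hA : ∀ x ∈ V, x ≠ 1 → x ∈ typeA0 T := by
    intro x hx hx1
    refine Or.inl ?_
    rw [typeA, if_neg (PF8.not_typeI hG d.coatomT hP)]
    refine ⟨hVd hx, hx1, x, ?_, hx1, rfl⟩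
    rw [typeCore, if_pos (Or.inl h3)]
    exact hVd hx
  have hgT : g ∈ T := by
    by_contra hgT
    exact hv1 (hT.A0_TI g (fun h0 => hgT (hT.A0_normalizer.le h0)) v (hA v hv hv1)
      (hA _ hg fun h0 => hv1 (conj_eq_one_iff.mp h0)))
  obtain ⟨z, hz, w, hw, rfl⟩ := hTmul g hgT
  obtain ⟨a, ha, e, he, rfl⟩ := hdmul z hz
  set v' : G := w * v * w⁻¹ with hv'def
  have hv' : v' ∈ V := (mem_normalizer_iff.mp (hP.U_normal hw) v).mp hv
  have hv'1 : v' ≠ 1 := fun h0 => hv1 (conj_eq_one_iff.mp h0)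
  haveI := hT.U_comm
  have hcomm : e * v' * e⁻¹ = v' := by
    have : e * v' = v' * e := congrArg Subtype.val (mul_comm' (⟨e, he⟩ : V) ⟨v', hv'⟩)
    rw [this]; group
  have e1 : a * e * w * v * (a * e * w)⁻¹ = a * v' * a⁻¹ := by
    calc a * e * w * v * (a * e * w)⁻¹ = a * (e * v' * e⁻¹) * a⁻¹ := by rw [hv'def]; group
      _ = a * v' * a⁻¹ := by rw [hcomm]
  rw [e1] at hg
  have hFn : T ≤ normalizer (fittingHallOf T : Set G) := BGSummary.le_normalizer_fittingHallOf T
  have hmem : v'⁻¹ * (a * v' * a⁻¹) ∈ fittingHallOf T ⊓ V := by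
    refine ⟨?_, V.mul_mem (V.inv_mem hv') hg⟩
    rw [show v'⁻¹ * (a * v' * a⁻¹) = v'⁻¹ * a * v' * a⁻¹ by group]
    refine (fittingHallOf T).mul_mem ?_ ((fittingHallOf T).inv_mem ha)
    exact (mem_normalizer_iff''.mp (hFn (hdT (hVd hv'))) a).mp ha
  rw [hFV, mem_bot, inv_mul_eq_one] at hmem
  have ha1 : a = 1 := hfpf v' hv' hv'1 a ha (eq_mul_inv_iff_mul_eq.mp hmem)
  rw [ha1, one_mul]
  exact mul_mem_sup he hw

theorem normalizer_complement : normalizer (V : Set G) = V ⊔ W₂ := by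
  refine le_antisymm (fun g hg => ?_) (sup_le Subgroup.le_normalizer d.typeT.U_normal)
  obtain ⟨v, hv, hv1⟩ :=
    (Subgroup.bot_or_exists_ne_one V).resolve_left (complement_ne_bot hG d h3)
  exact mem_of_conj_complement hG h d h3 hv hv1 ((mem_normalizer_iff.mp hg v).mp hv)

theorem inf_complement_W₂ : V ⊓ W₂ = ⊥ := by
  refine le_bot_iff.mp ?_
  obtain ⟨-, -, hbot, -⟩ := d.typeT.W₁_compl
  exact (inf_le_inf_right W₂ d.typeT.U_compl.2.1).trans hbot.le

/-- The centralizers of the non-identity elements of `V` are `V`. -/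
theorem centralizer_complement {v : G} (hv : v ∈ V) (hv1 : v ≠ 1) :
    centralizer ({v} : Set G) ≤ V := by
  intro c hc
  have e : c * v = v * c := mem_centralizer_singleton_iff.mp hc
  have hc' := mem_of_conj_complement hG h d h3 hv hv1 (g := c) (by rw [e]; simpa using hv)
  rw [sup_comm, ← SetLike.mem_coe,
    Subgroup.coe_mul_of_left_le_normalizer_right W₂ V d.typeT.U_normal] at hc'
  obtain ⟨w, hw, x, hx, rfl⟩ := Set.mem_mul.mp hc'
  by_cases hw1 : w = 1
  · rw [hw1, one_mul]; exact hx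
  refine absurd ?_ hv1
  haveI := (h.member hG d.symm).U_comm
  have hxv : x * v = v * x := congrArg Subtype.val (mul_comm' (⟨x, hx⟩ : V) ⟨v, hv⟩)
  have hwv : w * v = v * w := by
    refine mul_right_cancel (b := x) ?_
    calc w * v * x = w * (v * x) := by group
      _ = w * x * v := by rw [← hxv]; group
      _ = v * w * x := by rw [e]; group
  have hvW : v ∈ W₁ := by
    rw [← d.typeT.W₂_centralizer w hw hw1]
    exact ⟨d.typeT.U_compl.2.1 hv, mem_centralizer_singleton_iff.mpr hwv.symm⟩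
  exact mem_bot.mp (d.typeT.U_compl.2.2.1.le ⟨(d.typeT.W₂_le hvW).1, hv⟩)

/-- `V` carries a coherent Frobenius kernel with trivial supports. -/
theorem kernelData_complement (L : Subgroup G) [Fintype L] (hLdef : L = normalizer (V : Set G)) :
    ∃ τ₁, PF7.KernelData ((V : Set G) \ {1}) L (fun _ => ⊥) (V.subgroupOf L) τ₁ := by
  classical
  set K := V.subgroupOf L with hKdef
  have hLN : L ≤ normalizer (V : Set G) := hLdef.le
  have hL : L = V ⊔ W₂ := hLdef.trans (normalizer_complement hG h d h3)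
  have hVL : V ≤ L := hLdef ▸ Subgroup.le_normalizer
  have hW₂L : W₂ ≤ L := hL ▸ le_sup_right
  haveI hKn : K.Normal := (normal_subgroupOf_iff_le_normalizer hVL).mpr hLN
  haveI := complement_cyclic hG h d h3
  have hcent := fun v hv hv1 => centralizer_complement hG h d h3 (v := v) hv hv1
  have hinfW := inf_complement_W₂ hG h d h3
  have hW₂ne : W₂ ≠ ⊥ := d.typeT.W₁_ne
  have hodd : Odd (Nat.card L) := hG.1.of_dvd_nat (card_subgroup_dvd_card L)
  have hmem : ∀ x : L, (x : G) ∈ (V : Set G) \ {1} ↔ x ∈ K ∧ x ≠ 1 := fun x =>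
    and_congr mem_subgroupOf.symm
      ⟨fun e e1 => e (by rw [e1]; rfl), fun e e1 => e (Subtype.ext e1)⟩
  have hC : ∀ n ∈ K, n ≠ 1 → centralizer ({n} : Set L) ≤ K := fun n hn hn1 x hx =>
    mem_subgroupOf.mpr (hcent n (mem_subgroupOf.mp hn) (fun e => hn1 (Subtype.ext e))
      (mem_centralizer_singleton_iff.mpr
        (congrArg Subtype.val (mem_centralizer_singleton_iff.mp hx))))
  have hmemL : ∀ {v g : G}, v ∈ V → v ≠ 1 → g * v * g⁻¹ ∈ V → g ∈ L := fun hv hv1 hg =>
    hL.ge (mem_of_conj_complement hG h d h3 hv hv1 hg)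
  have hD : DadeHypothesis ((V : Set G) \ {1}) L (fun _ => ⊥) :=
    { one_not_mem := fun h0 => h0.2 rfl
      subset := fun x hx => hVL hx.1
      conj_mem := fun x hx a ha => ⟨(mem_normalizer_iff.mp (hLN hx) a).mp ha.1,
        fun e => ha.2 (conj_eq_one_iff.mp e)⟩
      fusion := fun a ha g hg => ⟨g, hmemL ha.1 ha.2 hg.1, rfl⟩
      le_centralizer := fun _ _ => bot_le
      conj_mem_H := fun _ _ c _ u hu => by
        rw [mem_bot.mp hu]; simp
      inf_eq_bot := fun _ _ => bot_inf_eq _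
      sup_eq := fun a ha => by
        rw [bot_sup_eq, inf_eq_right]
        exact (hcent a ha.1 ha.2).trans hVL
      coprime := fun _ _ _ _ => by simp }
  have hTI : IsTISubset (V : Set G) := fun g hg v hv hgv => by
    by_contra hv1
    exact hg (hLN (hmemL hv hv1 hgv))
  have hnil : Group.IsNilpotent V := by
    haveI := (h.member hG d.symm).U_comm
    open scoped IsMulCommutative in exact CommGroup.isNilpotent
  have hcoh := S1524.result V L W₂ hodd hVL hW₂L (complement_ne_bot hG d h3) hW₂ne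
    hnil (fun x hx v hv => (mem_normalizer_iff.mp (hLN hx) v).mp hv) hinfW hL.symm
    (fun w hw hw1 v hv e => by
      by_contra hv1
      exact hw1 (mem_bot.mp (hinfW.le ⟨hcent v hv hv1 (mem_centralizer_singleton_iff.mpr e), hw⟩)))
    hTI hLdef.symm
  obtain ⟨-, τ₁, hiso, hag⟩ := hcoh
  have hsupp : ∀ φ ∈ inducedIrrAbove K ⊥, ∀ x : L, x ≠ 1 → (x : G) ∉ (V : Set G) \ {1} →
      φ x = 0 := by
    rintro φ ⟨θ, -, -, -, rfl⟩ x hx1 hxA
    exact OddChar.indFun_eq_zero_of_notMem K θ fun hxK => hxA ((hmem x).mpr ⟨hxK, hx1⟩)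
  obtain ⟨-, -, hcls⟩ := PFTypeOne.dade_isometryOn hD (inducedIrrAbove K ⊥)
    (fun φ hφ => Coherence.irr_gen (Coherence.frob_seq_irr K hC hφ)) hsupp
  refine ⟨τ₁, hKn, ?_, ?_, hodd, hC, hD, hmem, hiso, fun α hα => ?_⟩
  · intro e
    refine complement_ne_bot hG d h3 ?_
    rw [hKdef, subgroupOf_eq_bot, disjoint_iff, inf_eq_left.mpr hVL] at e
    exact e
  · intro e
    refine hW₂ne (le_bot_iff.mp fun w hw => ?_)
    have hwK : (⟨w, hW₂L hw⟩ : L) ∈ K := by rw [e]; exact mem_top _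
    exact hinfW.le ⟨mem_subgroupOf.mp hwK, hw⟩
  · rw [hag α hα, PFTypeOne.dade_eq_indFun hD (fun _ _ => rfl) (hcls α hα).1 (hcls α hα).2]

/-- `[N(V) : V] = |W₂|`. -/
theorem card_normalizer_complement :
    Nat.card ↥(normalizer (V : Set G)) = Nat.card V * Nat.card W₂ := by
  have h1 := Thompson.card_sup_mul_card_inf (d.typeT.U_normal : W₂ ≤ normalizer (V : Set G))
  rwa [inf_complement_W₂ hG h d h3, card_bot, mul_one, ← normalizer_complement hG h d h3] at h1

/-- The support of a maximal subgroup of Type I misses the conjugates of `V - 1`. -/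
theorem dadeSupp_disjoint_complement {L : Subgroup G} (hL : IsCoatom L) (hI : IsOfTypeI L) :
    Disjoint (Coherence.dadeSupp (typeA L) (supportR L))
      (Coherence.dadeSupp ((V : Set G) \ {1}) (fun _ => (⊥ : Subgroup G))) := by
  have hne : ∀ g : G, T ≠ L.map (MulAut.conj g).toMonoidHom := fun g e => by
    obtain ⟨k, hk⟩ := FT.kappa_nonempty hG d.coatomT d.typeT
    rw [e] at hk
    have hk' := BGSummary.Support.kappa_conj hG hL hk
    rw [PF8.kappa_of_typeI hG L hL hI] at hk'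
    exact hk'
  rw [h.dadeSupp_eq hG hL hI]
  refine (FT.tilde_disjoint hG hL d.coatomT hne).mono_right ?_
  rintro g ⟨a, ⟨ha, ha1⟩, u, hu, x, he⟩
  rw [mem_bot.mp hu, mul_one] at he
  refine ⟨a, ⟨complement_le_sigmaCore hG d h3 ha, ha1⟩, 1, one_mem _, x⁻¹, ?_⟩
  rw [mul_one, ← he]; group

end Cfsg.Agent.PF14
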