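import Cfsg.Agent.PF14.Tree
import Cfsg.Agent.PF14.Assemble

/-!
Peterfalvi (14.7): a conjugate of `W₂` normalizes `U`, and `U` has the full order.
-/

set_option autoImplicit false
set_option linter.unusedVariables false
set_option linter.unusedSectionVars false

namespace Cfsg.Agent.PF14

open Cfsg OddChar OddChar.CycTI Subgroup PF7
open scoped ComplexConjugate

universe u

variable {G : Type u} [Group G] [Fintype G] (hG : IsMinSimpleOddOrder G) (h : Earlier G)
include hG h

theorem Earlier.normalizer_U_ne_top {S T W₁ W₂ U V : Subgroup G} (d : FT.Pair S T W₁ W₂ U V) :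
    normalizer (U : Set G) ≠ ⊤ := fun e => by
  have := hG.2.1
  haveI : U.Normal := Subgroup.normalizer_eq_top_iff.1 e
  rcases Subgroup.Normal.eq_bot_or_eq_top (H := U) inferInstance with h0 | h0
  · exact h.complement_ne_bot hG d h0
  · exact d.coatomS.1 (top_le_iff.1 (h0 ▸ (h.side hG d).U_le))

/-- `L ⊇ N(U)` and a conjugate of `W₂` in `L`, with `L` normalizing `U`. -/
theorem Earlier.exists_normalizing {S T W₁ W₂ U V : Subgroup G} (d : FT.Pair S T W₁ W₂ U V)
    (hqp : Nat.card W₁ < Nat.card W₂) :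
    ∃ L : Subgroup G, IsCoatom L ∧ IsOfTypeI L ∧ U ≤ fittingHallOf L ∧
      ∃ y ∈ fittingHallOf T, W₂.map (MulAut.conj y).toMonoidHom ≤ L ∧
        fittingHallOf L ⊓ W₂.map (MulAut.conj y).toMonoidHom = ⊥ ∧
        L ≤ normalizer (U : Set G) := by
  classical
  have D := h.side hG d
  have D' := h.side hG d.symm
  obtain ⟨η, E⟩ := h.exists_eta hG d
  have hSII := (h.member hG d).lt_II hqp
  obtain ⟨L, hL, hNU⟩ : ∃ L : Subgroup G, IsCoatom L ∧ normalizer (U : Set G) ≤ L := by
    rcases eq_top_or_exists_le_coatom (normalizer (U : Set G)) with ht | ⟨L, hL, hle⟩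
    · exfalso
      exact (h.normalizer_U_ne_top hG d) ht
    · exact ⟨L, hL, hle⟩
  obtain ⟨hI, hfr, hUF, hcases⟩ := h.normalizer_U hG d hSII L hL hNU
  haveI : Fintype L := Fintype.ofFinite L
  obtain ⟨τ₁, KD⟩ := h.kernelData hG hL hI
  have hA : ∀ a ∈ typeA L, (orderOf a).Coprime (Nat.card W₁ * Nat.card W₂) := fun a ha =>
    h.orderOf_typeA_coprime hG d hL hI ha
  have hcardK := BGUniq.card_fittingHallOf L
  obtain ⟨k, hk⟩ := card_dvd_of_le hUF
  rcases hcases with ⟨hbot, hsup⟩ | ⟨y, hy, hbot, hsup⟩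
  · exfalso
    have hW₁L : W₁ ≤ L := hsup ▸ le_sup_right
    have he := index_of_compl hW₁L hbot hsup
    have hle := card_le_of_index_q KD D D' E hA he hqp
    rw [← hcardK] at hle
    have hUeq : U = fittingHallOf L := eq_of_le_of_card_ge hUF hle
    have hLS : L ≤ S := by rw [← hsup, ← hUeq]; exact sup_le D.U_le D.W₁_le
    have : L = S := (hL.le_iff_eq d.coatomS.1).1 hLS |>.symm
    exact PF8.not_typeI hG d.coatomS d.typeS (this ▸ hI)
  refine ⟨L, hL, hI, hUF, y, hy, (le_sup_right.trans le_sup_right).trans hsup.le,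
    le_bot_iff.1 ((inf_le_inf_left _ le_sup_right).trans hbot.le), ?_⟩
  have hWL : W₁ ⊔ W₂.map (MulAut.conj y).toMonoidHom ≤ L := hsup ▸ le_sup_right
  have hW₁F : W₁ ≤ fittingHallOf T := d.typeT.W₂_le.trans inf_le_left
  have hcW : Nat.card ↥(W₁ ⊔ W₂.map (MulAut.conj y).toMonoidHom) = Nat.card W₁ * Nat.card W₂ := by
    have hW₁map : W₁.map (MulAut.conj y).toMonoidHom = W₁ := by
      have hf : ∀ w ∈ W₁, MulAut.conj y w = w := fun w hw => by
        rw [MulAut.conj_apply, D'.P_comm y hy w (hW₁F hw), mul_inv_cancel_right]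
      ext x
      constructor
      · rintro ⟨w, hw, rfl⟩; exact (hf w hw).symm ▸ hw
      · exact fun hx => ⟨x, hx, hf x hx⟩
    conv_lhs => rw [← hW₁map, ← Subgroup.map_sup,
      Subgroup.card_map_of_injective (MulEquiv.injective (MulAut.conj y)), card_sup_eq D.selfNorm]
  have he : (fittingHall L).index = Nat.card W₁ * Nat.card W₂ := by
    rw [index_of_compl hWL hbot hsup, hcW]
  have hLF : L ≤ normalizer (fittingHallOf L : Set G) := BGSummary.le_normalizer_fittingHallOf L
  haveI hnil : Group.IsNilpotent (fittingHallOf L) :=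
    Fitting.isNilpotent_map _ (BGUniq.fittingHall_isNilpotent L)
  by_cases hcop : Nat.Coprime k (Nat.card U)
  · refine hLF.trans (normalizer_of_hall hUF ?_)
    have e : U.relIndex (fittingHallOf L) = k := by
      have h1 := Subgroup.relIndex_mul_relIndex ⊥ U (fittingHallOf L) bot_le hUF
      rw [relIndex_bot_left, relIndex_bot_left, hk] at h1
      exact Nat.eq_of_mul_eq_mul_left Nat.card_pos h1
    rw [e]
    exact hcop.symm
  by_contra hnorm
  refine D.kernel_false D' E hqp KD hA he (k := k) (by rw [← hcardK, hk, mul_comm]) hcop fun h4 => ?_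
  -- the kernel attached to `V`
  rw [← hcardK] at h4 ⊢
  set n := Nat.card W₁ * Nat.card W₂ with hn
  have hbig : ∀ {v' : ℕ}, Nat.card V ≤ v' → v' ≤ n ^ 2 + 1 →
      Nat.card (fittingHallOf L) ≤ Nat.card W₂ ^ 2 * Nat.card W₁ ^ 3 + 1 := by
    intro v' hv hv'
    have h5 : Nat.card W₁ * (Nat.card V - 1) ≤ Nat.card W₁ * n ^ 2 :=
      Nat.mul_le_mul_left _ (by omega)
    have e : Nat.card W₁ * n ^ 2 = Nat.card W₂ ^ 2 * Nat.card W₁ ^ 3 := by rw [hn]; ring
    omega
  have hsmall : Nat.card (fittingHallOf L) ≤ n ^ 2 + 1 →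
      Nat.card (fittingHallOf L) ≤ Nat.card W₂ ^ 2 * Nat.card W₁ ^ 3 + 1 := by
    intro h5
    have e : n ^ 2 * Nat.card W₁ = Nat.card W₂ ^ 2 * Nat.card W₁ ^ 3 := by rw [hn]; ring
    have : n ^ 2 ≤ n ^ 2 * Nat.card W₁ := Nat.le_mul_of_pos_right _ D.prime₁.pos
    omega
  have hiL : (fittingHall L).index ≤ n := le_of_eq he
  rcases (h.member hG d.symm).cases with hTII | hTIII
  · obtain ⟨M, hM, hNV⟩ : ∃ M : Subgroup G, IsCoatom M ∧ normalizer (V : Set G) ≤ M := by
      rcases eq_top_or_exists_le_coatom (normalizer (V : Set G)) with ht | hM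
      · exact absurd ht (h.normalizer_U_ne_top hG d.symm)
      · exact hM
    obtain ⟨hMI, -, hVF, hMcases⟩ := h.normalizer_U hG d.symm hTII M hM hNV
    have hiM : (fittingHall M).index ≤ n := by
      rcases hMcases with ⟨hb, hs⟩ | ⟨z, hz, hb, hs⟩
      · rw [index_of_compl (hs ▸ le_sup_right) hb hs, hn]
        exact Nat.le_mul_of_pos_left _ D.prime₁.pos
      · rw [index_of_compl (hs ▸ le_sup_right) hb hs]
        refine le_of_eq ?_
        have hW₂F : W₂ ≤ fittingHallOf S := d.typeS.W₂_le.trans inf_le_left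
        have hmap : W₂.map (MulAut.conj z).toMonoidHom = W₂ := by
          have hf : ∀ w ∈ W₂, MulAut.conj z w = w := fun w hw => by
            rw [MulAut.conj_apply, D.P_comm z hz w (hW₂F hw), mul_inv_cancel_right]
          ext x
          constructor
          · rintro ⟨w, hw, rfl⟩; exact (hf w hw).symm ▸ hw
          · exact fun hx => ⟨x, hx, hf x hx⟩
        conv_lhs => rw [← hmap, ← Subgroup.map_sup,
          Subgroup.card_map_of_injective (MulEquiv.injective (MulAut.conj z)),
          card_sup_eq D'.selfNorm, mul_comm]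
    by_cases hconj : ∃ g : G, M = L.map (MulAut.conj g).toMonoidHom
    · exfalso
      obtain ⟨g, rfl⟩ := hconj
      obtain ⟨hcard, hcyc⟩ := fittingHallOf_conj (L := L) g
      obtain ⟨j, hj⟩ := card_dvd_of_le hVF
      rw [hcard] at hj
      have hv1 := D'.one_lt_U
      have hj1 : j = 1 := by
        have h1 : Nat.card (fittingHallOf L) % Nat.card W₂ = 1 := by
          have := KD.normal
          have hd := Coherence.index_dvd_card_sub_one_of_le _ KD.centK (fittingHall L) le_rfl
          rw [he, ← hcardK] at hd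
          have hd2 := (dvd_mul_left (Nat.card W₂) (Nat.card W₁)).trans hd
          rw [← Nat.mod_eq_of_lt D.prime₂.one_lt]
          exact ((Nat.modEq_iff_dvd' Nat.card_pos).2 hd2).symm
        rw [hj, Nat.mul_mod, D'.card_U_mod, one_mul, Nat.mod_mod] at h1
        have hjq : j ≤ Nat.card W₁ := by
          by_contra hlt
          have : Nat.card V * (Nat.card W₁ + 1) ≤ Nat.card V * j := Nat.mul_le_mul_left _ (by omega)
          rw [hj] at h4
          rw [Nat.mul_sub, mul_one, mul_comm (Nat.card W₁)] at h4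
          have h5 : Nat.card W₁ ≤ Nat.card V * Nat.card W₁ := Nat.le_mul_of_pos_left _ (by omega)
          rw [mul_add, mul_one] at this
          omega
        rwa [Nat.mod_eq_of_lt (by omega)] at h1
      rw [hj1, mul_one] at hj
      haveI := D'.U_isCyclic
      have hVeq : V = fittingHallOf (L.map (MulAut.conj g).toMonoidHom) :=
        eq_of_le_of_card_ge hVF (by rw [hcard, hj])
      exact hnorm (hLF.trans (by
        haveI := hcyc (hVeq ▸ ‹IsCyclic V›)
        exact normalizer_of_cyclic hUF))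
    · haveI : Fintype M := Fintype.ofFinite M
      obtain ⟨τ₂, KM⟩ := h.kernelData hG hM hMI
      rcases kernel_small KD KM (h.dadeSupp_disjoint hG hL hI hM hMI
        (fun g e => hconj ⟨g, e⟩)) hG.1 hiL hiM with h5 | h5
      · exact hsmall (hcardK ▸ h5)
      · exact hbig ((card_le_of_le hVF).trans_eq (BGUniq.card_fittingHallOf M)) h5
  · set N := normalizer (V : Set G) with hN
    haveI : Fintype N := Fintype.ofFinite N
    obtain ⟨τ₂, KV⟩ := kernelData_complement hG h d hTIII N hN
    have hVN : V ≤ N := Subgroup.le_normalizer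
    have hcV : Nat.card (V.subgroupOf N) = Nat.card V :=
      Nat.card_congr (Subgroup.subgroupOfEquivOfLe hVN).toEquiv
    have hiV : (V.subgroupOf N).index ≤ n := by
      have h1 := (V.subgroupOf N).index_mul_card
      rw [hcV, hN, card_normalizer_complement hG h d hTIII, mul_comm (Nat.card V)] at h1
      rw [Nat.eq_of_mul_eq_mul_right Nat.card_pos h1, hn]
      exact Nat.le_mul_of_pos_left _ D.prime₁.pos
    rcases kernel_small KD KV (dadeSupp_disjoint_complement hG h d hTIII hL hI) hG.1 hiL hiV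
      with h5 | h5
    · exact hsmall (hcardK ▸ h5)
    · exact hbig hcV.ge h5

end Cfsg.Agent.PF14
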