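import Cfsg.Agent.Coherence.DadeCount
import Cfsg.Agent.PF14.Eta

/-!
Mass of a function over a set: `|G|⁻¹ ∑ ‖f g‖²`, and its evaluation over the conjugates of a
TI subset.
-/

set_option autoImplicit false
set_option linter.unusedVariables false
set_option linter.unusedSectionVars false

namespace Cfsg.Agent.PF14

open Cfsg OddChar OddChar.CycTI
open scoped ComplexConjugate

variable {G : Type*} [Group G]

/-- The union of the conjugates of a set. -/
def conjSet (A : Set G) : Set G := {g | ∃ a ∈ A, ∃ x : G, x * g * x⁻¹ = a}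

theorem mem_conjSet_self {A : Set G} {a : G} (ha : a ∈ A) : a ∈ conjSet A :=
  ⟨a, ha, 1, by simp⟩

theorem conjSet_conj {A : Set G} {g : G} (hg : g ∈ conjSet A) (y : G) :
    y * g * y⁻¹ ∈ conjSet A := by
  obtain ⟨a, ha, x, hx⟩ := hg
  exact ⟨a, ha, x * y⁻¹, by rw [← hx]; group⟩

theorem conjSet_union (A B : Set G) : conjSet (A ∪ B) = conjSet A ∪ conjSet B := by
  ext g
  constructor
  · rintro ⟨a, ha | ha, x, hx⟩
    · exact Or.inl ⟨a, ha, x, hx⟩
    · exact Or.inr ⟨a, ha, x, hx⟩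
  · rintro (⟨a, ha, x, hx⟩ | ⟨a, ha, x, hx⟩)
    · exact ⟨a, Or.inl ha, x, hx⟩
    · exact ⟨a, Or.inr ha, x, hx⟩

theorem orderOf_eq_of_conjSet {A : Set G} {g : G} (hg : g ∈ conjSet A) {n : ℕ}
    (hA : ∀ a ∈ A, orderOf a = n) : orderOf g = n := by
  obtain ⟨a, ha, x, hx⟩ := hg
  rw [← hA a ha, ← hx]
  exact (MulEquiv.orderOf_eq (MulAut.conj x) g).symm

theorem conjSet_eq_dadeSupp (A : Set G) :
    conjSet A = Coherence.dadeSupp A (fun _ => (⊥ : Subgroup G)) := by
  ext g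
  constructor
  · rintro ⟨a, ha, x, hx⟩
    exact ⟨a, ha, 1, one_mem _, x, by simpa using hx⟩
  · rintro ⟨a, ha, u, hu, x, hx⟩
    rw [Subgroup.mem_bot] at hu
    exact ⟨a, ha, x, by simpa [hu] using hx⟩

/-- The Dade hypothesis of a TI subset with trivial supplements. -/
theorem dade_of_TI {A : Set G} {L : Subgroup G} (h1 : (1 : G) ∉ A) (hsub : A ⊆ (L : Set G))
    (hinv : ∀ x ∈ L, ∀ a ∈ A, x * a * x⁻¹ ∈ A)
    (hti : ∀ a ∈ A, ∀ g : G, g * a * g⁻¹ ∈ A → g ∈ L) :
    DadeHypothesis A L (fun _ => (⊥ : Subgroup G)) where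
  one_not_mem := h1
  subset := hsub
  conj_mem := hinv
  fusion a ha g hg := ⟨g, hti a ha g hg, rfl⟩
  le_centralizer _ _ := bot_le
  conj_mem_H a ha c _ u hu := by
    rw [Subgroup.mem_bot] at hu ⊢
    rw [hu, mul_one, mul_inv_cancel]
  inf_eq_bot _ _ := bot_inf_eq _
  sup_eq a ha := by
    rw [bot_sup_eq, inf_eq_right]
    intro c hc
    refine hti a ha c ?_
    rw [Subgroup.mem_centralizer_singleton_iff.1 hc, mul_inv_cancel_right]
    exact ha
  coprime _ _ _ _ := by rw [Subgroup.card_bot]; exact Nat.coprime_one_left _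

theorem dade_offSet [Finite G] {W₁ W₂ : Subgroup G} (hW : IsSelfNormalizingCyclic W₁ W₂) :
    DadeHypothesis (offSet W₁ W₂) (W₁ ⊔ W₂) (fun _ => (⊥ : Subgroup G)) := by
  refine dade_of_TI (fun h => (mem_offSet.1 h).2.1 (one_mem _)) (fun a ha => (mem_offSet.1 ha).1)
    (fun x hx a ha => ?_) fun a ha g hg => mem_W_of_conj hW ha hg
  have hs := Split.of_selfNormalizing hW
  have ha' := (mem_offSet.1 ha).1
  have := hs.mulComm ⟨x, hx⟩ ⟨a, ha'⟩
  have e : x * a = a * x := congrArg Subtype.val this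
  rwa [e, mul_inv_cancel_right]

section Mass

variable [Fintype G]

open Classical in
/-- `|G|⁻¹ ∑_{g ∈ A} ‖f g‖²`. -/
noncomputable def mass (f : G → ℂ) (A : Set G) : ℝ :=
  (Nat.card G : ℝ)⁻¹ * ∑ g ∈ Finset.univ.filter (· ∈ A), ‖f g‖ ^ 2

/-- The proportion of the group in a set. -/
noncomputable def share (A : Set G) : ℝ := mass (fun _ : G => (1 : ℂ)) A

theorem mass_nonneg (f : G → ℂ) (A : Set G) : 0 ≤ mass f A :=
  mul_nonneg (inv_nonneg.2 (Nat.cast_nonneg _)) (Finset.sum_nonneg fun _ _ => sq_nonneg _)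

theorem mass_union (f : G → ℂ) {A B : Set G} (h : Disjoint A B) :
    mass f (A ∪ B) = mass f A + mass f B := by
  classical
  unfold mass
  rw [← mul_add, ← Finset.sum_union]
  · congr 1
    refine Finset.sum_congr ?_ fun _ _ => rfl
    ext g; simp
  · exact Finset.disjoint_filter.2 fun g _ ha hb => Set.disjoint_left.1 h ha hb

theorem mass_mono (f : G → ℂ) {A B : Set G} (h : A ⊆ B) : mass f A ≤ mass f B := by
  classical
  refine mul_le_mul_of_nonneg_left ?_ (inv_nonneg.2 (Nat.cast_nonneg _))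
  exact Finset.sum_le_sum_of_subset_of_nonneg
    (fun g hg => Finset.mem_filter.2 ⟨Finset.mem_univ _, h (Finset.mem_filter.1 hg).2⟩)
    fun _ _ _ => sq_nonneg _

theorem mass_univ (f : G → ℂ) : mass f Set.univ = (classInner f f).re := by
  classical
  unfold mass
  rw [CharCore.classInner_def]
  simp only [Complex.mul_conj, ← Complex.ofReal_sum, ← Complex.ofReal_natCast,
    ← Complex.ofReal_inv, ← Complex.ofReal_mul, Complex.ofReal_re]
  simp [Complex.normSq_eq_norm_sq]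

theorem share_univ : share (Set.univ : Set G) = 1 := by
  classical
  unfold share mass
  simp [Nat.card_eq_fintype_card, Finset.card_univ]

theorem mass_le_norm (f : G → ℂ) (A : Set G) : mass f A ≤ (classInner f f).re :=
  mass_univ f ▸ mass_mono f (Set.subset_univ A)

theorem mass_congr {f f' : G → ℂ} {A : Set G} (h : ∀ g ∈ A, ‖f g‖ = ‖f' g‖) :
    mass f A = mass f' A := by
  classical
  unfold mass
  congr 1
  exact Finset.sum_congr rfl fun g hg => by rw [h g (Finset.mem_filter.1 hg).2]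

theorem mass_le_mass {f f' : G → ℂ} {A : Set G} (h : ∀ g ∈ A, ‖f g‖ ≤ ‖f' g‖) :
    mass f A ≤ mass f' A := by
  classical
  refine mul_le_mul_of_nonneg_left ?_ (inv_nonneg.2 (Nat.cast_nonneg _))
  exact Finset.sum_le_sum fun g hg => pow_le_pow_left₀ (norm_nonneg _)
    (h g (Finset.mem_filter.1 hg).2) 2

theorem share_le_mass {f : G → ℂ} {A : Set G} (h : ∀ g ∈ A, 1 ≤ ‖f g‖) : share A ≤ mass f A :=
  mass_le_mass fun g hg => by simpa using h g hg

theorem mass_eq_mul_share {f : G → ℂ} {A : Set G} {c : ℝ} (h : ∀ g ∈ A, ‖f g‖ = c) :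
    mass f A = c ^ 2 * share A := by
  classical
  unfold share mass
  rw [Finset.sum_congr rfl fun g hg => by rw [h g (Finset.mem_filter.1 hg).2], Finset.sum_const,
    nsmul_eq_mul]
  simp only [norm_one, one_pow, Finset.sum_const, nsmul_eq_mul, mul_one]
  ring

/-- An integer valued function without zero on `A` where it is not `0`. -/
theorem one_le_norm_of_int {z : ℤ} (hz : z ≠ 0) : 1 ≤ ‖(z : ℂ)‖ := by
  rw [Complex.norm_intCast]
  exact_mod_cast Int.one_le_abs hz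

open Classical in
/-- The mass over the conjugates of a TI subset. -/
theorem mass_conjSet {A : Set G} {L : Subgroup G}
    (hD : DadeHypothesis A L (fun _ => (⊥ : Subgroup G))) {f : G → ℂ} (hf : IsClassFunction G f) :
    mass f (conjSet A) =
      (Nat.card L : ℝ)⁻¹ * ∑ a ∈ Finset.univ.filter (· ∈ A), ‖f a‖ ^ 2 := by
  have h := Coherence.dade_sum_eq hD (fun g => ‖f g‖ ^ 2) (fun g x => by simp only [hf g x])
  have hL : (Nat.card L : ℝ) ≠ 0 := Nat.cast_ne_zero.2 Nat.card_pos.ne'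
  have hG : (Nat.card G : ℝ) ≠ 0 := Nat.cast_ne_zero.2 Nat.card_pos.ne'
  simp only [Subgroup.card_bot, Nat.cast_one, inv_one, one_mul] at h
  rw [← conjSet_eq_dadeSupp] at h
  have h2 : ∀ (a : G) (inst : Fintype (⊥ : Subgroup G)),
      @Finset.sum _ _ _ (@Finset.univ _ inst) (fun u => ‖f (a * u)‖ ^ 2) = ‖f a‖ ^ 2 := by
    intro a inst
    rw [Finset.sum_eq_single (1 : (⊥ : Subgroup G))
      (fun u _ hu => absurd (Subtype.ext (Subgroup.mem_bot.1 u.2)) hu)
      (fun hh => absurd (Finset.mem_univ _) hh)]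
    simp
  simp only [h2] at h
  unfold mass
  rw [eq_comm, inv_mul_eq_iff_eq_mul₀ hL, ← mul_assoc, mul_comm (Nat.card L : ℝ), mul_assoc,
    eq_inv_mul_iff_mul_eq₀ hG]
  exact h.symm

theorem share_conjSet {A : Set G} {L : Subgroup G}
    (hD : DadeHypothesis A L (fun _ => (⊥ : Subgroup G))) :
    share (conjSet A) = (Nat.card A : ℝ) / Nat.card L := by
  classical
  rw [share, mass_conjSet hD (fun _ _ => rfl)]
  simp [Nat.card_eq_fintype_card, Fintype.card_subtype, div_eq_inv_mul]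

theorem norm_eq_mass_of_support {A : Set G} {f : G → ℂ}
    (h : ∀ g ∉ A, f g = 0) : (classInner f f).re = mass f A := by
  classical
  rw [← mass_univ]
  unfold mass
  congr 1
  refine (Finset.sum_subset (fun g hg => by simp) fun g _ hg => ?_).symm
  rw [h g fun hA => hg (Finset.mem_filter.2 ⟨Finset.mem_univ _, hA⟩)]
  simp

open Classical in
theorem sum_subgroup_ne_one {M : Type*} [AddCommMonoid M] (P : Subgroup G) (F : G → M) :
    ∑ g ∈ Finset.univ.filter (· ∈ (P : Set G) \ {1}), F g =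
      ∑ x ∈ Finset.univ.erase (1 : P), F x := by
  refine (Finset.sum_bij (fun (x : P) _ => (x : G)) (fun x hx => ?_) (fun x _ y _ h => Subtype.ext h)
    (fun g hg => ?_) (fun x _ => rfl)).symm
  · refine Finset.mem_filter.2 ⟨Finset.mem_univ _, x.2, fun h => Finset.ne_of_mem_erase hx ?_⟩
    rw [Set.mem_singleton_iff] at h
    exact OneMemClass.coe_eq_one.1 h
  · obtain ⟨-, hg1, hg2⟩ := Finset.mem_filter.1 hg
    exact ⟨⟨g, hg1⟩, Finset.mem_erase.2 ⟨fun e => hg2 (congrArg Subtype.val e), Finset.mem_univ _⟩,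
      rfl⟩

open Classical in
theorem sum_offSet {M : Type*} [AddCommMonoid M] {W₁ W₂ : Subgroup G}
    (hW : IsSelfNormalizingCyclic W₁ W₂) (F : G → M) :
    ∑ g ∈ Finset.univ.filter (· ∈ offSet W₁ W₂), F g =
      ∑ a ∈ Finset.univ.erase (1 : W₁), ∑ b ∈ Finset.univ.erase (1 : W₂), F ((a : G) * b) := by
  obtain ⟨hW1, hW2, hdisj, hcomm, hcyc, hnorm⟩ := id hW
  rw [← Finset.sum_product']
  refine (Finset.sum_bij (fun ab _ => ((ab.1 : G) * ab.2)) (fun ab hab => ?_) (fun x _ y _ h => ?_)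
    (fun g hg => ?_) fun _ _ => rfl).symm
  · obtain ⟨ha, hb⟩ := Finset.mem_product.1 hab
    exact Finset.mem_filter.2 ⟨Finset.mem_univ _,
      mem_offSet_mul hW (Finset.ne_of_mem_erase ha) (Finset.ne_of_mem_erase hb)⟩
  · obtain ⟨a, b⟩ := x
    obtain ⟨a', b'⟩ := y
    simp only at h
    have h2 : (a' : G)⁻¹ * a = (b' : G) * (b : G)⁻¹ := by
      rw [eq_mul_inv_iff_mul_eq, mul_assoc, h, inv_mul_cancel_left]
    have h3 : (a' : G)⁻¹ * a ∈ W₁ ⊓ W₂ :=
      ⟨W₁.mul_mem (W₁.inv_mem a'.2) a.2, h2 ▸ W₂.mul_mem b'.2 (W₂.inv_mem b.2)⟩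
    rw [hdisj, Subgroup.mem_bot] at h3
    have ea : a = a' := Subtype.ext (inv_mul_eq_one.1 h3).symm
    subst ea
    exact Prod.ext rfl (Subtype.ext (mul_left_cancel h))
  · obtain ⟨-, hg'⟩ := Finset.mem_filter.1 hg
    obtain ⟨hgW, hg1, hg2⟩ := mem_offSet.1 hg'
    have hmul := pr_mul_pr W₁ W₂ hdisj hcomm ⟨g, hgW⟩
    refine ⟨(pr1 W₁ W₂ hdisj hcomm ⟨g, hgW⟩, pr2 W₁ W₂ hdisj hcomm ⟨g, hgW⟩),
      Finset.mem_product.2 ⟨Finset.mem_erase.2 ⟨fun e => hg2 ?_, Finset.mem_univ _⟩,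
        Finset.mem_erase.2 ⟨fun e => hg1 ?_, Finset.mem_univ _⟩⟩, hmul.symm⟩
    · exact (pr1_eq_one_iff W₁ W₂ hdisj hcomm _).1 e
    · exact (pr2_eq_one_iff W₁ W₂ hdisj hcomm _).1 e

theorem card_sup_eq {W₁ W₂ : Subgroup G} (hW : IsSelfNormalizingCyclic W₁ W₂) :
    Nat.card ↥(W₁ ⊔ W₂) = Nat.card W₁ * Nat.card W₂ := by
  obtain ⟨hW1, hW2, hdisj, hcomm, hcyc, hnorm⟩ := id hW
  rw [← Nat.card_prod]
  exact (Nat.card_congr (Equiv.ofBijective _ (prodHom_bijective W₁ W₂ hdisj hcomm))).symm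

/-- The share of the conjugates of `W₁W₂ \ (W₁ ∪ W₂)`. -/
theorem share_offSet {W₁ W₂ : Subgroup G} (hW : IsSelfNormalizingCyclic W₁ W₂) :
    share (conjSet (offSet W₁ W₂)) =
      (((Nat.card W₁ : ℝ) - 1) * ((Nat.card W₂ : ℝ) - 1)) /
        ((Nat.card W₁ : ℝ) * Nat.card W₂) := by
  classical
  rw [share, mass_conjSet (dade_offSet hW) (fun _ _ => rfl),
    sum_offSet hW (fun _ => ‖(1 : ℂ)‖ ^ 2), card_sup_eq hW]
  simp only [norm_one, one_pow, Finset.sum_const, nsmul_eq_mul, mul_one, Finset.card_erase_of_mem,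
    Finset.mem_univ, Finset.card_univ, ← Nat.card_eq_fintype_card]
  rw [Nat.cast_sub Nat.card_pos, Nat.cast_sub Nat.card_pos]
  push_cast
  rw [div_eq_inv_mul]

end Mass

end Cfsg.Agent.PF14
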