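import Cfsg.Agent.PF14.Mass
import Cfsg.Agent.PF.FullOrder
import Mathlib.GroupTheory.Sylow
import Mathlib.GroupTheory.GroupAction.Quotient

/-!
One side of a pair of maximal subgroups of type `P` once the kernel is known to be elementary abelian
and the complement to act on it without fixed points: `S = P U W₁`.
-/

set_option autoImplicit false
set_option linter.unusedVariables false
set_option linter.unusedSectionVars false

namespace Cfsg.Agent.PF14

open Cfsg OddChar OddChar.CycTI Subgroup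

variable {G : Type*} [Group G]

/-- The data of one side. -/
structure Side (S P U W₁ W₂ : Subgroup G) : Prop where
  odd : Odd (Nat.card G)
  selfNorm : IsSelfNormalizingCyclic W₁ W₂
  prime₁ : (Nat.card W₁).Prime
  prime₂ : (Nat.card W₂).Prime
  ne : Nat.card W₁ ≠ Nat.card W₂
  P_le : P ≤ S
  U_le : U ≤ S
  W₁_le : W₁ ≤ S
  normal : S ≤ normalizer (P : Set G)
  U_normal : W₁ ≤ normalizer (U : Set G)
  decomp : ∀ s ∈ S, ∃ x ∈ P, ∃ v ∈ U, ∃ w ∈ W₁, s = x * v * w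
  card_S : Nat.card S = Nat.card P * Nat.card U * Nat.card W₁
  card_P : Nat.card P = Nat.card W₂ ^ Nat.card W₁
  P_exp : ∀ x ∈ P, x ^ Nat.card W₂ = 1
  P_comm : ∀ x ∈ P, ∀ y ∈ P, x * y = y * x
  W₂_le : W₂ ≤ P
  cent : ∀ w ∈ W₁, w ≠ 1 → ∀ x ∈ P, w * x = x * w → x ∈ W₂
  U_ne : U ≠ ⊥
  U_comm : ∀ a ∈ U, ∀ b ∈ U, a * b = b * a
  fpf : ∀ u ∈ U, u ≠ 1 → ∀ x ∈ P, u * x = x * u → x = 1
  fpf₁ : ∀ w ∈ W₁, w ≠ 1 → ∀ u ∈ U, w * u = u * w → u = 1
  TI : ∀ x ∈ P, x ≠ 1 → ∀ g : G, g * x * g⁻¹ ∈ P → g ∈ S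

variable [Finite G] {S P U W₁ W₂ : Subgroup G}

theorem Side.two_lt (D : Side S P U W₁ W₂) : 2 < Nat.card W₁ ∧ 2 < Nat.card W₂ := by
  have h : ∀ (H : Subgroup G), (Nat.card H).Prime → 2 < Nat.card H := fun H hH => by
    have h2 : Nat.card H ≠ 2 := fun e => by
      have := D.odd.of_dvd_nat (Subgroup.card_subgroup_dvd_card H)
      rw [e] at this
      exact absurd this (by decide)
    have := hH.two_le
    omega
  exact ⟨h _ D.prime₁, h _ D.prime₂⟩

theorem Side.coprime (D : Side S P U W₁ W₂) :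
    (Nat.card W₁).Coprime (Nat.card W₂) :=
  (Nat.coprime_primes D.prime₁ D.prime₂).2 D.ne

theorem Side.inf_centralizer (D : Side S P U W₁ W₂) :
    U ⊓ centralizer (W₁ : Set G) = ⊥ := by
  rw [eq_bot_iff]
  rintro x ⟨hxU, hxc⟩
  haveI : Nontrivial W₁ := Finite.one_lt_card_iff_nontrivial.1 D.prime₁.one_lt
  obtain ⟨w, hw⟩ := exists_ne (1 : W₁)
  rw [mem_bot]
  exact D.fpf₁ w w.2 (fun e => hw (Subtype.ext e)) x hxU (mem_centralizer_iff.1 hxc w w.2)

theorem Side.card_U_mod (D : Side S P U W₁ W₂) : Nat.card U % Nat.card W₁ = 1 :=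
  card_mod_of_prime_fpf D.prime₁ U W₁ rfl D.U_normal D.inf_centralizer

theorem Side.one_lt_U (D : Side S P U W₁ W₂) : 1 < Nat.card U :=
  (one_lt_card_iff_ne_bot U).2 D.U_ne

/-- `U` has at least `2q + 1` elements. -/
theorem Side.two_q_lt_U (D : Side S P U W₁ W₂) : 2 * Nat.card W₁ + 1 ≤ Nat.card U := by
  have h1 := D.card_U_mod
  have h2 := D.one_lt_U
  have hodd : Odd (Nat.card U) := D.odd.of_dvd_nat (Subgroup.card_subgroup_dvd_card U)
  have hq := D.two_lt.1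
  have hdiv := Nat.div_add_mod (Nat.card U) (Nat.card W₁)
  rw [h1] at hdiv
  rcases Nat.lt_or_ge (Nat.card U / Nat.card W₁) 2 with h | h
  · interval_cases hk : Nat.card U / Nat.card W₁
    · omega
    · exfalso
      have ho : Odd (Nat.card W₁) := D.odd.of_dvd_nat (Subgroup.card_subgroup_dvd_card W₁)
      obtain ⟨a, ha⟩ := ho
      obtain ⟨b, hb⟩ := hodd
      omega
  · have : Nat.card W₁ * 2 ≤ Nat.card W₁ * (Nat.card U / Nat.card W₁) := Nat.mul_le_mul_left _ h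
    omega

theorem Side.conj_mem (D : Side S P U W₁ W₂) {s x : G} (hs : s ∈ S) (hx : x ∈ P) :
    s * x * s⁻¹ ∈ P :=
  (Subgroup.mem_set_normalizer_iff.1 (D.normal hs) x).1 hx

/-- The fixed point free action forces `u ∣ p ^ q - 1`. -/
theorem Side.card_U_dvd (D : Side S P U W₁ W₂) :
    Nat.card U ∣ Nat.card W₂ ^ Nat.card W₁ - 1 := by
  classical
  letI : MulAction U {x : P // x ≠ 1} :=
    { smul := fun u x => ⟨⟨(u : G) * (x.1 : G) * (u : G)⁻¹, D.conj_mem (D.U_le u.2) x.1.2⟩,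
        fun e => x.2 (Subtype.ext (conj_eq_one_iff.1 (congrArg Subtype.val e)))⟩
      one_smul := fun x => Subtype.ext (Subtype.ext (by
        show (1 : G) * (x.1 : G) * (1 : G)⁻¹ = x.1
        simp))
      mul_smul := fun a b x => Subtype.ext (Subtype.ext (by
        show (a : G) * b * (x.1 : G) * ((a : G) * b)⁻¹ = a * ((b : G) * x.1 * (b : G)⁻¹) * (a : G)⁻¹
        group)) }
  have hstab : ∀ x : {x : P // x ≠ 1}, MulAction.stabilizer U x = ⊥ := by
    intro x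
    rw [eq_bot_iff]
    intro u hu
    have h : (u : G) * (x.1 : G) * (u : G)⁻¹ = x.1 :=
      congrArg (fun z : {x : P // x ≠ 1} => ((z.1 : P) : G)) (MulAction.mem_stabilizer_iff.1 hu)
    rw [mem_bot]
    by_contra hne
    exact x.2 (Subtype.ext (D.fpf u u.2 (fun e => hne (Subtype.ext e)) x.1 x.1.2
      (mul_inv_eq_iff_eq_mul.1 h)))
  haveI : Fintype P := Fintype.ofFinite P
  have hc : Nat.card {x : P // x ≠ 1} = Nat.card P - 1 := by
    rw [Nat.card_eq_fintype_card, Fintype.card_subtype_compl, Fintype.card_subtype_eq,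
      Nat.card_eq_fintype_card]
  have := Nat.card_congr
    (MulAction.selfEquivSigmaOrbitsQuotientStabilizer U {x : P // x ≠ 1})
  rw [← D.card_P, ← hc, this]
  rw [Nat.card_sigma]
  refine Finset.dvd_sum fun ω _ => ?_
  rw [hstab, Nat.card_congr (QuotientGroup.quotientBot (G := U)).toEquiv]

theorem Side.not_dvd_U (D : Side S P U W₁ W₂) : ¬ Nat.card W₂ ∣ Nat.card U := by
  intro h
  have h1 : Nat.card W₂ ∣ Nat.card W₂ ^ Nat.card W₁ - 1 := h.trans D.card_U_dvd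
  have h2 : Nat.card W₂ ∣ Nat.card W₂ ^ Nat.card W₁ := dvd_pow_self _ D.prime₁.ne_zero
  have h3 := Nat.dvd_sub h2 h1
  rw [Nat.sub_sub_self (Nat.one_le_pow _ _ D.prime₂.pos)] at h3
  exact D.prime₂.ne_one (Nat.dvd_one.1 h3)

/-- The centralizer of a non-identity element of `P` lies in `S`. -/
theorem Side.centralizer_le (D : Side S P U W₁ W₂) {x : G} (hx : x ∈ P) (hx1 : x ≠ 1) :
    centralizer ({x} : Set G) ≤ S := fun g hg =>
  D.TI x hx hx1 g (by rw [mem_centralizer_singleton_iff.1 hg, mul_inv_cancel_right]; exact hx)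

theorem Side.normalizer_le (D : Side S P U W₁ W₂) : normalizer (P : Set G) ≤ S := fun g hg => by
  haveI : Nontrivial W₂ := Finite.one_lt_card_iff_nontrivial.1 D.prime₂.one_lt
  obtain ⟨b, hb⟩ := exists_ne (1 : W₂)
  exact D.TI b (D.W₂_le b.2) (fun e => hb (Subtype.ext e)) g
    ((Subgroup.mem_set_normalizer_iff.1 hg _).1 (D.W₂_le b.2))

theorem Side.isPGroup (D : Side S P U W₁ W₂) : IsPGroup (Nat.card W₂) P :=
  IsPGroup.of_card D.card_P

/-- `P` is a Sylow subgroup of `G`. -/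
theorem Side.not_dvd_index (D : Side S P U W₁ W₂) : ¬ Nat.card W₂ ∣ P.index := by
  haveI := Fact.mk D.prime₂
  have hmod := Sylow.card_quotient_normalizer_modEq_card_quotient D.card_P
  intro hd
  have h0 : Nat.card W₂ ∣ (P.subgroupOf (normalizer (P : Set G))).index := by
    rw [Subgroup.index_eq_card] at hd ⊢
    exact (Nat.ModEq.dvd_iff hmod dvd_rfl).2 hd
  have hN : normalizer (P : Set G) = S := le_antisymm D.normalizer_le D.normal
  rw [← Subgroup.relIndex, hN] at h0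
  have h1 : P.relIndex S = Nat.card U * Nat.card W₁ := by
    have := Subgroup.relIndex_mul_relIndex ⊥ P S bot_le D.P_le
    rw [Subgroup.relIndex_bot_left, Subgroup.relIndex_bot_left, D.card_S, mul_assoc] at this
    exact Nat.eq_of_mul_eq_mul_left Nat.card_pos this
  rw [h1] at h0
  rcases (Nat.Prime.dvd_mul D.prime₂).1 h0 with h | h
  · exact D.not_dvd_U h
  · exact D.ne ((Nat.prime_dvd_prime_iff_eq D.prime₂ D.prime₁).1 h).symm

/-- Every element of order a power of `p` is conjugate into `P`. -/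
theorem Side.exists_conj_mem (D : Side S P U W₁ W₂) {g : G}
    (hg : g ^ Nat.card W₂ = 1) : ∃ y : G, y * g * y⁻¹ ∈ P := by
  haveI := Fact.mk D.prime₂
  obtain ⟨Q, hQ⟩ := D.isPGroup.exists_le_sylow
  have hQP : (Q : Subgroup G) = P := by
    refine (le_antisymm ?_ hQ)
    intro a ha
    obtain ⟨n, hn⟩ := (IsPGroup.iff_card).1 Q.isPGroup'
    have h1 := Subgroup.relIndex_mul_index hQ
    have h2 : P.relIndex (Q : Subgroup G) ∣ Nat.card (Q : Subgroup G) :=
      Subgroup.relIndex_dvd_card P Q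
    rw [hn] at h2
    obtain ⟨j, -, hj⟩ := (Nat.dvd_prime_pow D.prime₂).1 h2
    rcases Nat.eq_zero_or_pos j with hj0 | hj0
    · rw [hj0, pow_zero] at hj
      exact Subgroup.relIndex_eq_one.1 hj ha
    · exact absurd (h1 ▸ Dvd.dvd.mul_right (hj ▸ dvd_pow_self _ hj0.ne') _) D.not_dvd_index
  have hz : IsPGroup (Nat.card W₂) (zpowers g) := by
    obtain ⟨j, -, hj⟩ := (Nat.dvd_prime_pow D.prime₂).1
      (show orderOf g ∣ Nat.card W₂ ^ 1 by rw [pow_one]; exact orderOf_dvd_of_pow_eq_one hg)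
    exact IsPGroup.of_card (n := j) (by rw [Nat.card_zpowers, hj])
  obtain ⟨R, hR⟩ := hz.exists_le_sylow
  obtain ⟨y, hy⟩ := MulAction.exists_smul_eq G R Q
  refine ⟨y, hQP ▸ ?_⟩
  rw [← hy, Sylow.coe_subgroup_smul]
  exact ⟨g, hR (mem_zpowers g), by simp [MulAut.conj_apply]⟩

/-- An element of `S` of the form `v w`, `w ≠ 1`, is conjugate under `U` to `w`. -/
theorem Side.exists_conj_W₁ (D : Side S P U W₁ W₂) {v w : G} (hv : v ∈ U) (hw : w ∈ W₁)
    (hw1 : w ≠ 1) : ∃ t ∈ U, v * w = t * w * t⁻¹ := by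
  have hmem : ∀ t : U, (t : G) * (w * (t : G)⁻¹ * w⁻¹) ∈ U := fun t =>
    U.mul_mem t.2 ((Subgroup.mem_set_normalizer_iff.1 (D.U_normal hw) _).1 (U.inv_mem t.2))
  let f : U → U := fun t => ⟨_, hmem t⟩
  have hf : Function.Injective f := by
    intro a b hab
    have h : (a : G) * (w * (a : G)⁻¹ * w⁻¹) = (b : G) * (w * (b : G)⁻¹ * w⁻¹) :=
      congrArg Subtype.val hab
    have h2 : (b : G)⁻¹ * a * w = w * ((b : G)⁻¹ * a) := by
      calc (b : G)⁻¹ * a * w = (b : G)⁻¹ * ((a : G) * (w * (a : G)⁻¹ * w⁻¹)) * w * a := by group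
        _ = (b : G)⁻¹ * ((b : G) * (w * (b : G)⁻¹ * w⁻¹)) * w * a := by rw [h]
        _ = w * ((b : G)⁻¹ * a) := by group
    exact Subtype.ext (inv_mul_eq_one.1
      (D.fpf₁ w hw hw1 _ (U.mul_mem (U.inv_mem b.2) a.2) h2.symm)).symm
  obtain ⟨t, ht⟩ := (Finite.injective_iff_surjective.1 hf) ⟨v, hv⟩
  refine ⟨t, t.2, ?_⟩
  have : (t : G) * (w * (t : G)⁻¹ * w⁻¹) = v := congrArg Subtype.val ht
  rw [← this]; group

/-- An element `x w` of `P W₁`, `w ≠ 1`, is conjugate under `P` to an element of `W₂ w`. -/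
theorem Side.exists_conj_W₂ (D : Side S P U W₁ W₂) {x w : G} (hx : x ∈ P) (hw : w ∈ W₁)
    (hw1 : w ≠ 1) : ∃ y ∈ P, ∃ a ∈ W₂, x * w = y * (a * w) * y⁻¹ := by
  have hwP : ∀ y ∈ P, w * y * w⁻¹ ∈ P := fun y hy => D.conj_mem (D.W₁_le hw) hy
  let f : W₂ × {z : G // ∃ y ∈ P, z = y * (w * y⁻¹ * w⁻¹)} → P := fun az =>
    ⟨(az.1 : G) * az.2.1, P.mul_mem (D.W₂_le az.1.2) (by
      obtain ⟨y, hy, e⟩ := az.2.2
      exact e ▸ P.mul_mem hy (hwP _ (P.inv_mem hy)))⟩
  have hzmul : ∀ z z', (∃ y ∈ P, z = y * (w * y⁻¹ * w⁻¹)) → (∃ y ∈ P, z' = y * (w * y⁻¹ * w⁻¹)) →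
      ∃ y ∈ P, z * z'⁻¹ = y * (w * y⁻¹ * w⁻¹) := by
    rintro _ _ ⟨y, hy, rfl⟩ ⟨y', hy', rfl⟩
    refine ⟨y * y'⁻¹, P.mul_mem hy (P.inv_mem hy'), ?_⟩
    have h1 := D.P_comm (w * y⁻¹ * w⁻¹) (hwP _ (P.inv_mem hy)) (w * y' * w⁻¹) (hwP _ hy')
    have h2 := D.P_comm ((w * y⁻¹ * w⁻¹) * (w * y' * w⁻¹))
      (P.mul_mem (hwP _ (P.inv_mem hy)) (hwP _ hy')) y'⁻¹ (P.inv_mem hy')
    calc y * (w * y⁻¹ * w⁻¹) * (y' * (w * y'⁻¹ * w⁻¹))⁻¹
        = y * ((w * y⁻¹ * w⁻¹) * (w * y' * w⁻¹) * y'⁻¹) := by group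
      _ = y * (y'⁻¹ * ((w * y' * w⁻¹) * (w * y⁻¹ * w⁻¹))) := by rw [h2, h1]
      _ = y * y'⁻¹ * (w * (y * y'⁻¹)⁻¹ * w⁻¹) := by group
  have hdisj : ∀ z, z ∈ W₂ → (∃ y ∈ P, z = y * (w * y⁻¹ * w⁻¹)) → z = 1 := by
    rintro z hz2 ⟨y, hy, hzy⟩
    have hc : w * z = z * w := D.selfNorm.2.2.2.1 w hw z hz2
    have h1 : ∀ i : ℕ, z ^ i * (w ^ i * y * (w ^ i)⁻¹) = y := by
      intro i
      induction i with
      | zero => simp
      | succ i ih =>
        have hci : w ^ i * z = z * w ^ i := ((show Commute w z from hc).pow_left i).eq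
        have hstep : y = z * (w * y * w⁻¹) := by rw [hzy]; group
        conv_rhs => rw [← ih]
        conv_rhs =>
          arg 2
          rw [hstep]
        calc z ^ (i + 1) * (w ^ (i + 1) * y * (w ^ (i + 1))⁻¹)
            = z ^ i * ((z * w ^ i) * (w * y * w⁻¹) * (w ^ i)⁻¹) := by
              rw [pow_succ, pow_succ]; group
          _ = _ := by rw [← hci]; group
    have h2 := h1 (Nat.card W₁)
    rw [show w ^ Nat.card W₁ = 1 from congrArg Subtype.val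
      (pow_card_eq_one' (G := W₁) (x := ⟨w, hw⟩)), inv_one, one_mul, mul_one,
      mul_eq_right] at h2
    exact orderOf_eq_one_iff.1 (Nat.eq_one_of_dvd_coprimes D.coprime
      (orderOf_dvd_of_pow_eq_one h2) (orderOf_dvd_of_pow_eq_one (D.P_exp z (D.W₂_le hz2))))
  have hinj : Function.Injective f := by
    rintro ⟨a, z⟩ ⟨a', z'⟩ h
    have h' : (a : G) * z.1 = (a' : G) * z'.1 := congrArg Subtype.val h
    have e : (a' : G)⁻¹ * a = z'.1 * z.1⁻¹ := by
      rw [eq_mul_inv_iff_mul_eq, mul_assoc, h', inv_mul_cancel_left]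
    have h1 := hdisj _ (W₂.mul_mem (W₂.inv_mem a'.2) a.2) (e ▸ hzmul _ _ z'.2 z.2)
    have ea : a = a' := Subtype.ext (inv_mul_eq_one.1 h1).symm
    subst ea
    exact Prod.ext rfl (Subtype.ext (mul_left_cancel h'))
  let g : P → W₂ × {z : G // ∃ y ∈ P, z = y * (w * y⁻¹ * w⁻¹)} := fun y =>
    (1, ⟨_, y, y.2, rfl⟩)
  -- the number of commutators is at least the index of the centralizer
  have hcard : Nat.card P ≤ Nat.card (W₂ × {z : G // ∃ y ∈ P, z = y * (w * y⁻¹ * w⁻¹)}) := by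
    classical
    rw [Nat.card_prod]
    let π : P → {z : G // ∃ y ∈ P, z = y * (w * y⁻¹ * w⁻¹)} := fun y => ⟨_, y, y.2, rfl⟩
    choose sec hsecP hsec using fun z : {z : G // ∃ y ∈ P, z = y * (w * y⁻¹ * w⁻¹)} => z.2
    have hfix : ∀ y : P, (sec (π y))⁻¹ * y ∈ W₂ := fun y => by
      refine D.cent w hw hw1 _ (P.mul_mem (P.inv_mem (hsecP _)) y.2) ?_
      have h : sec (π y) * (w * (sec (π y))⁻¹ * w⁻¹) = (y : G) * (w * (y : G)⁻¹ * w⁻¹) :=
        (hsec (π y)).symm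
      calc w * ((sec (π y))⁻¹ * y)
          = (sec (π y))⁻¹ * (sec (π y) * (w * (sec (π y))⁻¹ * w⁻¹)) * w * y := by group
        _ = (sec (π y))⁻¹ * ((y : G) * (w * (y : G)⁻¹ * w⁻¹)) * w * y := by rw [h]
        _ = (sec (π y))⁻¹ * y * w := by group
    refine (Nat.card_le_card_of_injective
      (fun y => ((⟨_, hfix y⟩ : W₂), π y)) ?_).trans_eq (Nat.card_prod _ _)
    intro y y' hy
    simp only [Prod.mk.injEq, Subtype.mk.injEq] at hy
    have h2 := hy.2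
    exact Subtype.ext (mul_left_cancel ((congrArg (fun z => (sec z)⁻¹ * (y : G)) h2).symm.trans hy.1))
  obtain ⟨⟨a, z, y, hy, rfl⟩, haz⟩ := (Nat.bijective_iff_injective_and_card f).2
    ⟨hinj, le_antisymm (Nat.card_le_card_of_injective f hinj) hcard⟩ |>.2 ⟨x, hx⟩
  refine ⟨y, hy, a, a.2, ?_⟩
  have hx' : (a : G) * (y * (w * y⁻¹ * w⁻¹)) = x := congrArg Subtype.val haz
  rw [← hx']
  have hay := D.P_comm a (D.W₂_le a.2) y hy
  calc (a : G) * (y * (w * y⁻¹ * w⁻¹)) * w = (a : G) * y * (w * y⁻¹) := by group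
    _ = y * a * (w * y⁻¹) := by rw [hay]
    _ = y * ((a : G) * w) * y⁻¹ := by group

/-- An element of order divisible by `p` is conjugate into `P` or into the regular part of
`W₁ × W₂`. -/
theorem Side.mem_of_dvd (D : Side S P U W₁ W₂) {g : G} (hg : Nat.card W₂ ∣ orderOf g) :
    g ∈ conjSet ((P : Set G) \ {1}) ∨ g ∈ conjSet (offSet W₁ W₂) := by
  set p := Nat.card W₂
  have hk : (g ^ (orderOf g / p)) ^ p = 1 := by
    rw [← pow_mul, Nat.div_mul_cancel hg, pow_orderOf_eq_one]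
  have hk1 : g ^ (orderOf g / p) ≠ 1 := fun e => by
    have := Nat.le_of_dvd (Nat.div_pos (Nat.le_of_dvd (orderOf_pos g) hg) D.prime₂.pos)
      (orderOf_dvd_of_pow_eq_one e)
    exact absurd this (not_le.2 (Nat.div_lt_self (orderOf_pos g) D.prime₂.one_lt))
  obtain ⟨y, hy⟩ := D.exists_conj_mem hk
  set x := y * g ^ (orderOf g / p) * y⁻¹
  have hx1 : x ≠ 1 := fun e => hk1 (conj_eq_one_iff.1 e)
  set h := y * g * y⁻¹ with hhdef
  have hxh : x = h ^ (orderOf g / p) := by rw [hhdef, conj_pow]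
  have hcomm : h * x = x * h := by rw [hxh]; exact (Commute.self_pow h _).eq
  have hhS : h ∈ S := D.centralizer_le hy hx1 (mem_centralizer_singleton_iff.2 hcomm)
  obtain ⟨x', hx', v, hv, w, hw, e⟩ := D.decomp h hhS
  have hvw : v * w * x = x * (v * w) := by
    have := D.P_comm x'⁻¹ (P.inv_mem hx') x hy
    calc v * w * x = x'⁻¹ * (h * x) := by rw [e]; group
      _ = x'⁻¹ * (x * h) := by rw [hcomm]
      _ = x'⁻¹ * x * h := by group
      _ = x * x'⁻¹ * h := by rw [this]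
      _ = x * (v * w) := by rw [e]; group
  rcases eq_or_ne w 1 with hw1 | hw1
  · subst hw1
    rw [mul_one] at hvw e
    have hv1 : v = 1 := by
      by_contra hne
      exact hx1 (D.fpf v hv hne x hy hvw)
    subst hv1
    left
    refine ⟨h, ⟨by rw [e, mul_one]; exact hx', fun e' => hx1 ?_⟩, y, hhdef.symm⟩
    rw [Set.mem_singleton_iff] at e'
    rw [hxh, e', one_pow]
  · right
    obtain ⟨t, ht, hvt⟩ := D.exists_conj_W₁ hv hw hw1
    have hx'' : t⁻¹ * x' * t ∈ P := by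
      simpa using D.conj_mem (D.U_le (U.inv_mem ht)) hx'
    obtain ⟨z, hz, a, ha, haw⟩ := D.exists_conj_W₂ hx'' hw hw1
    have hconj : h = (t * z) * (a * w) * (t * z)⁻¹ := by
      calc h = x' * (t * w * t⁻¹) := by rw [e, mul_assoc, hvt]
        _ = t * (t⁻¹ * x' * t * w) * t⁻¹ := by group
        _ = _ := by rw [haw]; group
    have hg' : g = (y⁻¹ * (t * z)) * (a * w) * (y⁻¹ * (t * z))⁻¹ := by
      calc g = y⁻¹ * h * y := by rw [hhdef]; group
        _ = _ := by rw [hconj]; group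
    have ha1 : a ≠ 1 := fun ha1 => D.ne (((Nat.prime_dvd_prime_iff_eq D.prime₂ D.prime₁).1 (by
      have h1 : orderOf g ∣ Nat.card W₁ := orderOf_dvd_of_pow_eq_one (by
        rw [hg', conj_pow, ha1, one_mul,
          show w ^ Nat.card W₁ = 1 from congrArg Subtype.val (pow_card_eq_one' (G := W₁) (x := ⟨w, hw⟩)),
          mul_one, mul_inv_cancel])
      exact hg.trans h1)).symm)
    refine ⟨w * a, mem_offSet_mul D.selfNorm (a := ⟨w, hw⟩) (b := ⟨a, ha⟩)
      (fun e => hw1 (congrArg Subtype.val e)) (fun e => ha1 (congrArg Subtype.val e)),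
      (y⁻¹ * (t * z))⁻¹, ?_⟩
    rw [D.selfNorm.2.2.2.1 w hw a ha, hg']
    group

theorem Side.P_sdiff_order (D : Side S P U W₁ W₂) {x : G} (hx : x ∈ (P : Set G) \ {1}) :
    orderOf x = Nat.card W₂ := by
  haveI := Fact.mk D.prime₂
  exact orderOf_eq_prime (D.P_exp x hx.1) hx.2

theorem Side.dade_P (D : Side S P U W₁ W₂) :
    DadeHypothesis ((P : Set G) \ {1}) S (fun _ => (⊥ : Subgroup G)) :=
  dade_of_TI (fun h => h.2 rfl) (fun x hx => D.P_le hx.1)
    (fun s hs x hx => ⟨D.conj_mem hs hx.1, fun e => hx.2 (conj_eq_one_iff.1 e)⟩)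
    fun x hx g hg => D.TI x hx.1 hx.2 g hg.1

/-- The conjugates in `S` of the regular part of `W₁ × W₂`, together with `P \ {1}`. -/
def bridgeSet (S P W₁ W₂ : Subgroup G) : Set G :=
  ((P : Set G) \ {1}) ∪ {v | ∃ s ∈ S, ∃ a ∈ offSet W₁ W₂, v = s * a * s⁻¹}

theorem Side.offSet_order (D : Side S P U W₁ W₂) {a : G} (ha : a ∈ offSet W₁ W₂) :
    ¬ orderOf a ∣ Nat.card W₂ := by
  intro hd
  obtain ⟨haW, ha1, ha2⟩ := mem_offSet.1 ha
  obtain ⟨hW1, hW2, hdisj, hcomm, hcyc, hnorm⟩ := id D.selfNorm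
  have hmul := pr_mul_pr W₁ W₂ hdisj hcomm ⟨a, haW⟩
  have hp := orderOf_dvd_iff_pow_eq_one.1 hd
  set u := pr1 W₁ W₂ hdisj hcomm ⟨a, haW⟩ with hu
  have h1 : (u : G) ^ Nat.card W₂ = 1 := by
    have e : (⟨a, haW⟩ : ↥(W₁ ⊔ W₂)) ^ Nat.card W₂ = 1 := Subtype.ext hp
    rw [hu, ← SubmonoidClass.coe_pow, ← map_pow, e, map_one, OneMemClass.coe_one]
  have h2 : (u : G) = 1 := orderOf_eq_one_iff.1 (Nat.eq_one_of_dvd_coprimes D.coprime
    (Subgroup.orderOf_dvd_natCard _ u.2) (orderOf_dvd_of_pow_eq_one h1))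
  exact ha2 ((pr1_eq_one_iff W₁ W₂ hdisj hcomm _).1 (Subtype.ext h2))

theorem Side.W₂_le_S (D : Side S P U W₁ W₂) : W₂ ≤ S := D.W₂_le.trans D.P_le

theorem Side.dade_bridge (D : Side S P U W₁ W₂) :
    DadeHypothesis (bridgeSet S P W₁ W₂) S (fun _ => (⊥ : Subgroup G)) := by
  have hWS : W₁ ⊔ W₂ ≤ S := sup_le D.W₁_le D.W₂_le_S
  have hmix : ∀ x ∈ (P : Set G) \ {1}, ∀ a ∈ offSet W₁ W₂, ∀ g : G, g * x * g⁻¹ ≠ a :=
    fun x hx a ha g e => D.offSet_order ha (by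
      rw [← e, ← MulAut.conj_apply, MulEquiv.orderOf_eq, D.P_sdiff_order hx])
  refine dade_of_TI ?_ ?_ ?_ ?_
  · rintro (h | ⟨s, -, a, ha, e⟩)
    · exact h.2 rfl
    · exact (mem_offSet.1 ha).2.1 (by rw [conj_eq_one_iff.1 e.symm]; exact one_mem _)
  · rintro x (hx | ⟨s, hs, a, ha, rfl⟩)
    · exact D.P_le hx.1
    · exact S.mul_mem (S.mul_mem hs (hWS (mem_offSet.1 ha).1)) (S.inv_mem hs)
  · rintro t ht x (hx | ⟨s, hs, a, ha, rfl⟩)
    · exact Or.inl ⟨D.conj_mem ht hx.1, fun e => hx.2 (conj_eq_one_iff.1 e)⟩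
    · exact Or.inr ⟨t * s, S.mul_mem ht hs, a, ha, by group⟩
  · rintro x (hx | ⟨s, hs, a, ha, rfl⟩) g (hg | ⟨s', hs', a', ha', e⟩)
    · exact D.TI x hx.1 hx.2 g hg.1
    · exact absurd (show s'⁻¹ * g * x * (s'⁻¹ * g)⁻¹ = a' by
        calc _ = s'⁻¹ * (g * x * g⁻¹) * s' := by group
          _ = a' := by rw [e]; group) (hmix x hx a' ha' _)
    · exact absurd (show (g * s)⁻¹ * (g * (s * a * s⁻¹) * g⁻¹) * ((g * s)⁻¹)⁻¹ = a by group)
        (hmix _ hg a ha _)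
    · have h1 : (s'⁻¹ * g * s) * a * (s'⁻¹ * g * s)⁻¹ = a' := by
        calc _ = s'⁻¹ * (g * (s * a * s⁻¹) * g⁻¹) * s' := by group
          _ = a' := by rw [e]; group
      have h2 := hWS (mem_W_of_conj D.selfNorm ha (h1 ▸ ha'))
      have e' : g = s' * (s'⁻¹ * g * s) * s⁻¹ := by group
      rw [e']
      exact S.mul_mem (S.mul_mem hs' h2) (S.inv_mem hs)

section Mass

variable [Fintype G]

open Classical in
/-- The mass over the conjugates of `P \ {1}`. -/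
theorem Side.mass_P (D : Side S P U W₁ W₂) {f : G → ℂ} (hf : IsClassFunction G f) :
    mass f (conjSet ((P : Set G) \ {1})) =
      (Nat.card S : ℝ)⁻¹ * ∑ x ∈ Finset.univ.erase (1 : P), ‖f x‖ ^ 2 := by
  rw [mass_conjSet D.dade_P hf]
  congr 1
  convert sum_subgroup_ne_one P (fun g => ‖f g‖ ^ 2) using 2
  ext a; simp

theorem Side.share_P (D : Side S P U W₁ W₂) :
    share (conjSet ((P : Set G) \ {1})) =
      ((Nat.card P : ℝ) - 1) / ((Nat.card P : ℝ) * Nat.card U * Nat.card W₁) := by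
  classical
  rw [share, D.mass_P (fun _ _ => rfl), D.card_S]
  simp only [norm_one, one_pow, Finset.sum_const, nsmul_eq_mul, mul_one, Finset.card_erase_of_mem,
    Finset.mem_univ, Finset.card_univ, ← Nat.card_eq_fintype_card]
  rw [Nat.cast_sub Nat.card_pos]
  push_cast
  rw [div_eq_inv_mul]

end Mass

end Cfsg.Agent.PF14
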