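import Cfsg.Agent.PF14.Cases
import Cfsg.Agent.PF14.Arith
import Cfsg.Agent.PF14.Bound
import Cfsg.Agent.PF14.KernelIII

/-!
Peterfalvi (14): the decision tree for the maximal subgroup containing `N(U)`.
-/

set_option autoImplicit false
set_option linter.unusedVariables false
set_option linter.unusedSectionVars false

namespace Cfsg.Agent.PF14

open Cfsg OddChar OddChar.CycTI Subgroup PF7
open scoped ComplexConjugate

universe u

variable {G : Type u} [Group G] [Fintype G]

/-- The order of the multiplier `p ^ q - 1 = m u (p - 1)`. -/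
theorem Side.exists_mult {S T P Q U V W₁ W₂ : Subgroup G} (D : Side S P U W₁ W₂)
    (D' : Side T Q V W₂ W₁) {η : (↥W₁ →* ℂˣ) → (↥W₂ →* ℂˣ) → G → ℂ} (E : EtaArr W₁ W₂ η)
    (hqp : Nat.card W₁ < Nat.card W₂) :
    ∃ m, m * Nat.card U * (Nat.card W₂ - 1) = Nat.card W₂ ^ Nat.card W₁ - 1 ∧
      (m = 1 ∨ m = Nat.card W₁ ∨ (Nat.card W₂ = 11 ∧ Nat.card W₁ = 3 ∧ m = 7)) :=
  bound_arith D.prime₂ D.prime₁ hqp (by have := D.two_lt.1; omega)
    (D.odd.of_dvd_nat (Subgroup.card_subgroup_dvd_card U)) D.one_lt_U D.card_U_mod D.card_U_cases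
    D'.two_q_lt_U (fun hlt => D.ineq D' E hqp hlt)

/-- A kernel of index `p q` with a proper non-Hall part `U` is impossible, once the kernel is known
to be small when it is bounded by `q (v - 1)`. -/
theorem Side.kernel_false {S T P Q U V W₁ W₂ : Subgroup G} (D : Side S P U W₁ W₂)
    (D' : Side T Q V W₂ W₁) {η : (↥W₁ →* ℂˣ) → (↥W₂ →* ℂˣ) → G → ℂ} (E : EtaArr W₁ W₂ η)
    (hqp : Nat.card W₁ < Nat.card W₂)
    {A : Set G} {L : Subgroup G} [Fintype L] {R : G → Subgroup G} {K : Subgroup L}
    {τ₁ : (L → ℂ) → (G → ℂ)} (KD : KernelData A L R K τ₁)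
    (hA : ∀ a ∈ A, (orderOf a).Coprime (Nat.card W₁ * Nat.card W₂))
    (he : K.index = Nat.card W₁ * Nat.card W₂) {k : ℕ} (hk : Nat.card K = k * Nat.card U)
    (hcop : ¬ Nat.Coprime k (Nat.card U))
    (second : Nat.card K ≤ Nat.card W₁ * (Nat.card V - 1) + 1 →
      Nat.card K ≤ Nat.card W₂ ^ 2 * Nat.card W₁ ^ 3 + 1) : False := by
  classical
  obtain ⟨m, hm, hm3⟩ := D.exists_mult D' E hqp
  have hK1 : Nat.card K % (Nat.card W₁ * Nat.card W₂) = 1 := by
    have := KD.normal
    have hd := Coherence.index_dvd_card_sub_one_of_le K KD.centK K le_rfl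
    rw [he] at hd
    have hpos : 1 ≤ Nat.card K := Nat.card_pos
    have hlt : 1 < Nat.card W₁ * Nat.card W₂ :=
      one_lt_mul'' D.prime₁.one_lt D.prime₂.one_lt
    rw [← Nat.mod_eq_of_lt hlt]
    exact ((Nat.modEq_iff_dvd' hpos).2 hd).symm
  have hodd : Odd (Nat.card K) := (KD.odd.of_dvd_nat (Subgroup.card_subgroup_dvd_card K))
  rw [hk] at hK1 hodd second
  have hko : Odd k := (Nat.odd_mul.1 hodd).1
  have hk1 : 1 < k := by
    rcases Nat.lt_or_ge 1 k with h | h
    · exact h
    · exfalso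
      obtain ⟨j, hj⟩ := hko
      exact hcop (by rw [show k = 1 by omega]; exact Nat.coprime_one_left _)
  have hkq : k % Nat.card W₁ = 1 := by
    have h1 : k * Nat.card U % Nat.card W₁ = 1 := by
      rw [← Nat.mod_mul_right_mod _ (Nat.card W₁) (Nat.card W₂), hK1,
        Nat.mod_eq_of_lt D.prime₁.one_lt]
    rwa [Nat.mul_mod, D.card_U_mod, mul_one, Nat.mod_mod] at h1
  refine kernel_arith D.prime₂ D.prime₁ hqp (by have := D.two_lt.1; omega)
    (D.odd.of_dvd_nat (Subgroup.card_subgroup_dvd_card U)) D.one_lt_U D.card_U_mod hm hm3 hko hk1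
    hkq (by rw [mul_comm (Nat.card W₂)]; exact hK1) (fun h => absurd h hcop) D'.two_q_lt_U ?_
  rcases kernel_cases KD D D' E hA he with h | h | h | h <;> rw [hk] at h
  · exact Or.inl h
  · exact Or.inr (Or.inl (by exact_mod_cast h))
  · exact Or.inr (Or.inr h)
  · exact Or.inr (Or.inr (second h))

theorem index_of_compl {L W : Subgroup G} (hW : W ≤ L) (hbot : fittingHallOf L ⊓ W = ⊥)
    (hsup : fittingHallOf L ⊔ W = L) : (fittingHall L).index = Nat.card W := by
  have h1 := Thompson.card_sup_mul_card_inf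
    (hW.trans (BGSummary.le_normalizer_fittingHallOf L))
  rw [hbot, card_bot, mul_one, hsup] at h1
  have h2 := (fittingHall L).index_mul_card
  rw [← BGUniq.card_fittingHallOf] at h2
  refine Nat.eq_of_mul_eq_mul_right (Nat.card_pos (α := fittingHallOf L)) ?_
  rw [h2, h1, mul_comm]

theorem fittingHallOf_conj {L : Subgroup G} (g : G) :
    Nat.card (fittingHallOf (L.map (MulAut.conj g).toMonoidHom)) = Nat.card (fittingHallOf L) ∧
      (IsCyclic (fittingHallOf (L.map (MulAut.conj g).toMonoidHom)) →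
        IsCyclic (fittingHallOf L)) := by
  set M := L.map (MulAut.conj g).toMonoidHom
  let e : L ≃* M := (MulAut.conj g).subgroupMap L
  have h1 : (fittingHall L).map e.toMonoidHom = fittingHall M := by
    refine le_antisymm (BGSummary.fittingHall_map_eq e) fun x hx => ?_
    exact ⟨e.symm x, BGSummary.fittingHall_map_eq e.symm ⟨x, hx, rfl⟩, e.apply_symm_apply x⟩
  let f : fittingHallOf L ≃* fittingHallOf M :=
    (((fittingHall L).equivMapOfInjective L.subtype L.subtype_injective).symm.trans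
      (((fittingHall L).equivMapOfInjective e.toMonoidHom e.injective).trans
        (MulEquiv.subgroupCongr h1))).trans
      ((fittingHall M).equivMapOfInjective M.subtype M.subtype_injective)
  exact ⟨(Nat.card_congr f.toEquiv).symm, fun h => isCyclic_of_injective f.toMonoidHom f.injective⟩

end Cfsg.Agent.PF14
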